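import Mathlib

/-!
A normal subgroup missing a self-centralising Sylow subgroup of prime order.
-/

set_option autoImplicit false

namespace CfsgLib.Leech

open scoped Pointwise

variable {G : Type*} [Group G] [Finite G]

/-- Two elements whose common prime order divides the group order exactly once generate conjugate
subgroups. -/
theorem exists_conj_mem_zpowers {r : ℕ} [Fact r.Prime] (hr : r ∣ Nat.card G)
    (hr2 : ¬ r ^ 2 ∣ Nat.card G) {x y : G} (hx : orderOf x = r) (hy : orderOf y = r) :
    ∃ g : G, g * x * g⁻¹ ∈ Subgroup.zpowers y := by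
  have hp := (Fact.out : r.Prime)
  have hfact : r ^ (Nat.card G).factorization r = r := by
    have h3 : 1 ≤ (Nat.card G).factorization r :=
      (hp.dvd_iff_one_le_factorization Nat.card_pos.ne').1 hr
    have h4 : ¬ 2 ≤ (Nat.card G).factorization r := fun h =>
      hr2 ((hp.pow_dvd_iff_le_factorization Nat.card_pos.ne').2 h)
    rw [show (Nat.card G).factorization r = 1 by omega, pow_one]
  let P : Sylow r G := Sylow.ofCard (Subgroup.zpowers x) (by rw [Nat.card_zpowers, hx, hfact])
  let Q : Sylow r G := Sylow.ofCard (Subgroup.zpowers y) (by rw [Nat.card_zpowers, hy, hfact])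
  obtain ⟨g, hg⟩ := MulAction.exists_smul_eq G P Q
  refine ⟨g, ?_⟩
  have : MulAut.conj g • x ∈ MulAut.conj g • (P : Subgroup G) :=
    Subgroup.smul_mem_pointwise_smul _ _ _ (Subgroup.mem_zpowers x)
  rw [← Sylow.pointwise_smul_def, ← Sylow.smul_def, hg] at this
  exact this

/-- A normal subgroup containing an element of order `r` contains all of them. -/
theorem mem_of_prime_order {r : ℕ} [Fact r.Prime] (hr2 : ¬ r ^ 2 ∣ Nat.card G)
    {N : Subgroup G} [N.Normal] (hN : r ∣ Nat.card N) {x : G} (hx : orderOf x = r) : x ∈ N := by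
  obtain ⟨y, hy⟩ := exists_prime_orderOf_dvd_card' r hN
  obtain ⟨g, hg⟩ := exists_conj_mem_zpowers (hN.trans (Subgroup.card_subgroup_dvd_card N)) hr2 hx
    (show orderOf (y : G) = r by rw [Subgroup.orderOf_coe]; exact hy)
  have h := Subgroup.zpowers_le.2 y.2 hg
  simpa [mul_assoc] using Subgroup.Normal.conj_mem inferInstance _ h g⁻¹

/-- A normal subgroup of order prime to `r` is a `p`-group if, for every other prime `q`, an element of
order `r` commutes with no element of order `q` and `q ^ k` is never `1` mod `r`. -/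
theorem isPGroup_of_selfCentralizing {p r : ℕ} [Fact r.Prime] {π : G} (hπ : orderOf π = r)
    (hr : r ∣ Nat.card G) (hr2 : ¬ r ^ 2 ∣ Nat.card G)
    (hC : ∀ q, q.Prime → q ≠ p → q ≠ r → ∀ y : G, orderOf y = q → y * π = π * y → False)
    (hmod : ∀ q, q.Prime → q ≠ p → q ≠ r → ∀ k, k ≠ 0 → q ^ k ∣ Nat.card G → q ^ k % r ≠ 1)
    (N : Subgroup G) [N.Normal] (hN : ¬ r ∣ Nat.card N) : IsPGroup p N := by
  have hrp := (Fact.out : r.Prime)
  have key : ∀ q, q.Prime → q ∣ Nat.card N → q = p := by
    intro q hq hdvd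
    by_contra hqp
    have hqr : q ≠ r := fun e => hN (e ▸ hdvd)
    have := Fact.mk hq
    obtain ⟨Q⟩ : Nonempty (Sylow q N) := inferInstance
    set R := (Q : Subgroup N).map N.subtype with hR
    have hsurj : Function.Surjective
        ((QuotientGroup.mk' N).comp (Subgroup.normalizer (R : Set G)).subtype) := by
      intro x
      obtain ⟨g, rfl⟩ := QuotientGroup.mk'_surjective N x
      have hg : g ∈ Subgroup.normalizer (R : Set G) ⊔ N := by
        rw [hR, Sylow.normalizer_sup_eq_top Q]; exact Subgroup.mem_top g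
      obtain ⟨h, hh, n, hn, rfl⟩ := Subgroup.mem_sup_of_normal_right.1 hg
      refine ⟨⟨h, hh⟩, ?_⟩
      rw [MonoidHom.comp_apply, map_mul, show QuotientGroup.mk' N n = 1 from
        (QuotientGroup.eq_one_iff n).2 hn, mul_one]
      rfl
    have hdQ : r ∣ Nat.card (Subgroup.normalizer (R : Set G)) := by
      refine Nat.dvd_trans ?_ (Subgroup.card_dvd_of_surjective _ hsurj)
      have hmul := Subgroup.card_eq_card_quotient_mul_card_subgroup N
      rw [hmul] at hr
      exact (hrp.dvd_mul.1 hr).resolve_right hN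
    obtain ⟨x, hx⟩ := exists_prime_orderOf_dvd_card' r hdQ
    obtain ⟨g, hg⟩ := exists_conj_mem_zpowers hr hr2 hπ
      (show orderOf (x : G) = r by rw [Subgroup.orderOf_coe]; exact hx)
    have hnorm : g * π * g⁻¹ ∈ Subgroup.normalizer (R : Set G) := Subgroup.zpowers_le.2 x.2 hg
    set σ : Subgroup.normalizer (R : Set G) := ⟨g * π * g⁻¹, hnorm⟩
    let act : MulAction (Subgroup.zpowers σ) R :=
      { smul := fun a b => ⟨(a.1 : G) * b * (a.1 : G)⁻¹,
          (Subgroup.mem_normalizer_iff.1 a.1.2 b).1 b.2⟩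
        one_smul := fun b => Subtype.ext (show (1 : G) * (b : G) * 1⁻¹ = b by group)
        mul_smul := fun a a' b => Subtype.ext (show ((a.1 : G) * a'.1) * (b : G) * ((a.1 : G) * a'.1)⁻¹ =
          (a.1 : G) * ((a'.1 : G) * (b : G) * (a'.1 : G)⁻¹) * (a.1 : G)⁻¹ by group) }
    have hσ : orderOf σ = r := by
      rw [← Subgroup.orderOf_coe, ← hπ]
      exact orderOf_injective (MulAut.conj g).toMonoidHom (MulAut.conj g).injective π
    have hP : IsPGroup r (Subgroup.zpowers σ) :=
      IsPGroup.of_card (n := 1) (by rw [Nat.card_zpowers, hσ, pow_one])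
    have hcard : Nat.card R = q ^ (Nat.card N).factorization q := by
      rw [hR, Subgroup.card_map_of_injective (Subgroup.subtype_injective N)]
      exact Q.card_eq_multiplicity
    have hk : (Nat.card N).factorization q ≠ 0 :=
      (Nat.Prime.factorization_pos_of_dvd hq Nat.card_pos.ne' hdvd).ne'
    have hne := hmod q hq hqp hqr _ hk (hcard ▸ Subgroup.card_subgroup_dvd_card R)
    have hfix := hP.card_modEq_card_fixedPoints R
    rw [hcard] at hfix
    have h1 : Nat.card (MulAction.fixedPoints (Subgroup.zpowers σ) R) ≠ 1 := by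
      intro e
      rw [e] at hfix
      exact hne (Eq.trans hfix (Nat.one_mod_eq_one.2 hrp.ne_one))
    have hone : (1 : R) ∈ MulAction.fixedPoints (Subgroup.zpowers σ) R := fun a =>
      Subtype.ext (show (a.1 : G) * 1 * (a.1 : G)⁻¹ = 1 by group)
    have hnt : Nontrivial (MulAction.fixedPoints (Subgroup.zpowers σ) R) := by
      rw [← Finite.one_lt_card_iff_nontrivial]
      have : Nonempty (MulAction.fixedPoints (Subgroup.zpowers σ) R) := ⟨⟨1, hone⟩⟩
      have := Nat.card_pos (α := MulAction.fixedPoints (Subgroup.zpowers σ) R)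
      omega
    obtain ⟨⟨b, hb⟩, hbne⟩ := exists_ne (⟨1, hone⟩ : MulAction.fixedPoints (Subgroup.zpowers σ) R)
    have hb1 : (b : G) ≠ 1 := fun e => hbne (Subtype.ext (Subtype.ext e))
    obtain ⟨i, hi⟩ := IsPGroup.iff_orderOf.1 (IsPGroup.of_card hcard) b
    have hi0 : i ≠ 0 := by
      intro e; rw [e, pow_zero, orderOf_eq_one_iff] at hi
      exact hb1 (congrArg Subtype.val hi)
    have hcomm : Commute (g * π * g⁻¹) (b : G) := by
      have := congrArg Subtype.val (hb ⟨σ, Subgroup.mem_zpowers σ⟩)
      change g * π * g⁻¹ * (b : G) * (g * π * g⁻¹)⁻¹ = b at this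
      exact mul_inv_eq_iff_eq_mul.1 this
    set y := (b : G) ^ q ^ (i - 1) with hy
    have hyo : orderOf y = q := by
      rw [hy, orderOf_pow' _ (pow_pos hq.pos _).ne', Subgroup.orderOf_coe, hi]
      rw [Nat.gcd_eq_right (pow_dvd_pow q (Nat.sub_le i 1)), Nat.pow_div (Nat.sub_le i 1) hq.pos,
        show i - (i - 1) = 1 by omega, pow_one]
    refine hC q hq hqp hqr (g⁻¹ * y * g) ?_ ?_
    · have := orderOf_injective (MulAut.conj g⁻¹).toMonoidHom (MulAut.conj g⁻¹).injective y
      simpa [hyo] using this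
    · have h2 : g * π * g⁻¹ * y = y * (g * π * g⁻¹) := (hcomm.pow_right _).eq
      calc g⁻¹ * y * g * π = g⁻¹ * (y * (g * π * g⁻¹)) * g := by group
        _ = g⁻¹ * (g * π * g⁻¹ * y) * g := by rw [h2]
        _ = π * (g⁻¹ * y * g) := by group
  by_cases hp : p.Prime
  · have := Fact.mk hp
    exact IsPGroup.of_card (n := (Nat.card N).primeFactorsList.length)
      (Nat.eq_prime_pow_of_unique_prime_dvd Nat.card_pos.ne' fun {d} hd hd' => key d hd hd')
  · have h1 : Nat.card N = 1 := by
      by_contra h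
      obtain ⟨q, hq, hd⟩ := Nat.exists_prime_and_dvd h
      exact hp (key q hq hd ▸ hq)
    exact IsPGroup.of_card (n := 0) (by rw [h1, pow_zero])

end CfsgLib.Leech
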