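import Cfsg.Agent.Leech.CrossMax
import Cfsg.Agent.Leech.NormalTools
import Cfsg.Agent.S5392
import Cfsg.Agent.Mathieu.SmallSimple

/-!
`Cfsg.Co0` modulo its centre is simple.
-/

set_option autoImplicit false

namespace CfsgLib.Leech

open Cfsg CfsgLib.Mathieu
open scoped Pointwise symmDiff

theorem empty_symmDiff' (s : Finset GolayPt) : ∅ ∆ s = s := by ext p; simp [Finset.mem_symmDiff]

theorem symmDiff_empty' (s : Finset GolayPt) : s ∆ ∅ = s := by ext p; simp [Finset.mem_symmDiff]

theorem empty_mem_supports : (∅ : Finset GolayPt) ∈ supports (golayCode : Set (GolayPt → ZMod 2)) := by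
  rw [mem_supports_iff]; decide +kernel

theorem univ_mem_supports :
    (Finset.univ : Finset GolayPt) ∈ supports (golayCode : Set (GolayPt → ZMod 2)) := by
  rw [mem_supports_iff]; decide +kernel

/-- Permutations as monomial elements. -/
def permHom : M24 →* Co0 where
  toFun τ := monoCo0 τ.1⁻¹ (inv_mem τ.2) ∅ empty_mem_supports
  map_one' := co0_ext fun v => Subtype.ext (by
    rw [monoCo0_smul, one_smul]; funext p; simp [monoFun])
  map_mul' a b := by
    rw [monoCo0_mul]
    exact monoCo0_congr (by simp) (by simp)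

theorem permHom_injective : Function.Injective permHom := by
  intro a b e
  have h := @monoOf_injective (⟨a.1⁻¹, inv_mem a.2⟩, ⟨∅, empty_mem_supports⟩)
    (⟨b.1⁻¹, inv_mem b.2⟩, ⟨∅, empty_mem_supports⟩) e
  exact Subtype.ext (inv_injective (congrArg (fun x => x.1.1) h))

theorem shiftOne_moves : shiftOne (some (0 : ZMod 23)) ≠ some 0 := by decide +kernel

/-- The standard element of order 23. -/
def pi23 : Co0 := permHom ⟨shiftOne, shiftOne_mem_M24⟩

theorem shiftOne_order : orderOf (⟨shiftOne, shiftOne_mem_M24⟩ : M24) = 23 := by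
  have := Fact.mk (by norm_num : Nat.Prime 23)
  rw [Subgroup.orderOf_mk]
  exact orderOf_eq_prime (Equiv.ext (by decide +kernel)) (fun h => by
    have h1 := Equiv.congr_fun h (some 0)
    exact shiftOne_moves h1)

theorem orderOf_pi23 : orderOf pi23 = 23 := by
  rw [pi23, orderOf_injective permHom permHom_injective, shiftOne_order]

theorem shiftOne_pow (n : ℕ) (a : ZMod 23) : (shiftOne ^ n) (some a) = some (a + n) := by
  induction n with
  | zero => simp
  | succ n ih =>
    rw [pow_succ', Equiv.Perm.mul_apply, ih]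
    show some (a + (n : ZMod 23) + 1) = _
    push_cast; rw [add_assoc]

/-- What commutes with `pi23` is a sign times a power of it. -/
theorem commute_pi23_cases (y : Co0) (hy : y * pi23 = pi23 * y) : y ^ 23 = 1 ∨ y ^ 23 = negCo0 := by
  have hfix : pi23 • eightL none = eightL none := Subtype.ext (by
    rw [pi23, permHom, MonoidHom.coe_mk, OneHom.coe_mk, monoCo0_eight, inv_inv,
      if_neg (Finset.notMem_empty _)]
    rfl)
  set f := ((y • eightL none : leechLattice) : GolayPt → ℤ) with hf
  have hinv : ∀ a : ZMod 23, f (some (a + 1)) = f (some a) := fun a => by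
    have h1 : pi23 • y • eightL none = y • eightL none := by
      rw [smul_smul, ← hy, mul_smul, hfix]
    have h2 := congrFun (congrArg Subtype.val h1) (some (a + 1))
    rw [pi23, permHom, MonoidHom.coe_mk, OneHom.coe_mk, monoCo0_smul] at h2
    simp only [monoFun, Finset.notMem_empty, if_false] at h2
    rw [← hf] at h2
    rw [← h2]
    congr 1
    rw [Equiv.Perm.eq_inv_iff_eq.2 (show shiftOne (some a) = some (a + 1) from rfl)]
  have hconst : ∀ a : ZMod 23, f (some a) = f (some 0) := by
    have : ∀ n : ℕ, f (some (n : ZMod 23)) = f (some 0) := by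
      intro n
      induction n with
      | zero => simp
      | succ n ih => push_cast; rw [hinv, ih]
    exact fun a => by rw [← ZMod.natCast_zmod_val a]; exact this _
  have hn : sqNorm f = 64 := by rw [hf, co0_norm]; exact sqNorm_eight none
  rw [sqNorm, Fintype.sum_option, Finset.sum_congr rfl fun a _ => by rw [hconst a], Finset.sum_const,
    Finset.card_univ, ZMod.card, nsmul_eq_mul] at hn
  push_cast at hn
  have ha : f (some 0) = 0 := by
    have h1 : f (some 0) ^ 2 < 2 ^ 2 := by nlinarith [sq_nonneg (f none)]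
    have h2 : f none ^ 2 < 9 ^ 2 := by nlinarith [sq_nonneg (f (some 0))]
    rw [sq_lt_sq, abs_lt] at h1 h2
    norm_num at h1 h2
    obtain ⟨h1, h1'⟩ := h1
    obtain ⟨h2, h2'⟩ := h2
    generalize f none = b at hn h2 h2'
    generalize f (some 0) = a at hn h1 h1' ⊢
    interval_cases a <;> interval_cases b <;> omega
  have hb : f none = 8 ∨ f none = -8 := by
    rw [ha] at hn
    have : (f none - 8) * (f none + 8) = 0 := by ring_nf; linarith
    rcases mul_eq_zero.1 this with h | h
    · left; omega
    · right; omega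
  have hP : PreservesCross y := by
    refine preservesCross_of_mem (q := none) (mem_stdCross_iff.mpr ⟨none, ?_⟩)
    rw [← hf]
    rcases hb with h | h
    · left
      funext p
      rcases p with _ | a
      · rw [h]; rfl
      · rw [hconst, ha]; rfl
    · right
      funext p
      rcases p with _ | a
      · rw [h]; rfl
      · rw [hconst, ha]; rfl
  obtain ⟨τ, hτ, c, hc, rfl⟩ := eq_monoCo0 hP
  have hnone : τ none = none := by
    by_contra h
    have hne : τ⁻¹ none ≠ none := fun e => h (by
      conv_lhs => rw [← e]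
      exact perm_apply_inv τ none)
    have h1 := monoCo0_eight τ hτ c hc none
    have h2 : f none = 0 := by
      rw [hf, h1]
      generalize τ⁻¹ none = r at hne ⊢
      split <;> simp [eight, Pi.single_apply, Ne.symm hne]
    omega
  have hcm := hy
  rw [pi23, permHom, MonoidHom.coe_mk, OneHom.coe_mk, monoCo0_mul, monoCo0_mul] at hcm
  simp only [Finset.image_empty, inv_inv] at hcm
  have hinj := fun (a b : M24 × supports (golayCode : Set (GolayPt → ZMod 2))) (e : monoOf a = monoOf b) =>
    monoOf_injective e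
  have hpair := hinj (⟨_, mul_mem (inv_mem shiftOne_mem_M24) hτ⟩, ⟨_, supports_symmDiff hc
      (setSystemAut_image_mem (inv_mem hτ : τ⁻¹ ∈ M24) empty_mem_supports)⟩)
    (⟨_, mul_mem hτ (inv_mem shiftOne_mem_M24)⟩, ⟨_, supports_symmDiff empty_mem_supports
      (setSystemAut_image_mem (inv_mem (inv_mem shiftOne_mem_M24) : shiftOne⁻¹⁻¹ ∈ M24) hc)⟩)
    (by simpa [monoOf] using hcm)
  have hc1 : shiftOne⁻¹ * τ = τ * shiftOne⁻¹ := congrArg (fun x => x.1.1) hpair
  have hc2 : c = c.image shiftOne := by
    simpa [symmDiff_empty', empty_symmDiff'] using congrArg (fun x => x.2.1) hpair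
  have hcomm : ∀ p, τ (shiftOne p) = shiftOne (τ p) := by
    intro p
    have h : Commute shiftOne τ := Commute.inv_left_iff.1 hc1
    exact (Equiv.congr_fun h.eq p).symm
  obtain ⟨k, hk⟩ : ∃ k, τ (some 0) = some k := by
    rcases e : τ (some 0) with _ | k
    · exact absurd (τ.injective (e.trans hnone.symm)) (by simp)
    · exact ⟨k, rfl⟩
  have hτn : ∀ n : ℕ, τ (some (n : ZMod 23)) = some (k + n) := by
    intro n
    induction n with
    | zero => simpa using hk
    | succ n ih =>
      have h := hcomm (some (n : ZMod 23))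
      rw [ih] at h
      push_cast
      rw [show some ((n : ZMod 23) + 1) = shiftOne (some (n : ZMod 23)) from rfl, h]
      show some (k + n + 1) = _
      rw [add_assoc]
  have hτeq : τ = shiftOne ^ k.val := by
    have hfixn : ∀ n : ℕ, (shiftOne ^ n) none = none := fun n => by
      induction n with
      | zero => simp
      | succ n ih => rw [pow_succ', Equiv.Perm.mul_apply, ih]; rfl
    refine Equiv.ext fun p => ?_
    rcases p with _ | a
    · rw [hfixn, hnone]
    · rw [shiftOne_pow, ← ZMod.natCast_zmod_val a, hτn]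
      simp [add_comm]
  have hcs : ∀ a : ZMod 23, (some a ∈ c ↔ some (0 : ZMod 23) ∈ c) := by
    have h1 : ∀ a : ZMod 23, (some (a + 1) ∈ c ↔ some a ∈ c) := fun a => by
      conv_lhs => rw [hc2]
      rw [Finset.mem_image]
      exact ⟨fun ⟨q, hq, e⟩ => by
        rwa [← shiftOne.injective (e.trans (show some (a + 1) = shiftOne (some a) from rfl))],
        fun h => ⟨some a, h, rfl⟩⟩
    have : ∀ n : ℕ, (some (n : ZMod 23) ∈ c ↔ some (0 : ZMod 23) ∈ c) := by
      intro n
      induction n with
      | zero => simp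
      | succ n ih => push_cast; rw [h1, ih]
    exact fun a => by rw [← ZMod.natCast_zmod_val a]; exact this _
  have hc3 : c = ∅ ∨ c = Finset.univ := by
    by_cases h0 : some (0 : ZMod 23) ∈ c <;> by_cases hn' : none ∈ c
    · right; refine Finset.eq_univ_of_forall fun p => ?_
      rcases p with _ | a
      exacts [hn', (hcs a).2 h0]
    · exfalso
      have he : c = Finset.univ.erase none := by
        ext p; rcases p with _ | a <;> simp [hn', (hcs _).2 h0]
      rw [he, mem_supports_iff] at hc
      revert hc; decide +kernel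
    · exfalso
      have he : c = {none} := by
        ext p
        rcases p with _ | a
        · simp [hn']
        · exact ⟨fun h => absurd ((hcs a).1 h) h0, fun h => by simp at h⟩
      rw [he, mem_supports_iff] at hc
      revert hc; decide +kernel
    · left; refine Finset.eq_empty_of_forall_notMem fun p => ?_
      rcases p with _ | a
      exacts [hn', fun h => h0 ((hcs a).1 h)]
  have hp23 : τ ^ 23 = 1 := by
    rw [hτeq, ← pow_mul, mul_comm, pow_mul,
      show shiftOne ^ 23 = 1 from Equiv.ext (by decide +kernel), one_pow]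
  have h0 : monoCo0 τ hτ ∅ empty_mem_supports ^ 23 = 1 := by
    have : monoCo0 τ hτ ∅ empty_mem_supports = permHom ⟨τ⁻¹, inv_mem hτ⟩ :=
      monoCo0_congr (hτ' := inv_mem (inv_mem hτ)) (hc' := empty_mem_supports) (inv_inv τ).symm rfl
    rw [this, ← map_pow]
    exact map_eq_one_iff _ permHom_injective |>.2 (Subtype.ext (by simp [hp23]))
  rcases hc3 with rfl | rfl
  · exact Or.inl h0
  · right
    have : monoCo0 τ hτ Finset.univ hc = negCo0 * monoCo0 τ hτ ∅ empty_mem_supports := by
      show _ = monoCo0 1 (one_mem _) Finset.univ univ_mem_supports * _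
      rw [monoCo0_mul]
      exact monoCo0_congr (mul_one τ).symm (by simp [symmDiff_empty'])
    have hcz : Commute negCo0 (monoCo0 τ hτ ∅ empty_mem_supports) :=
      (Subgroup.mem_center_iff.1 negCo0_mem_center _).symm
    rw [this, hcz.mul_pow, h0, mul_one, show 23 = 2 * 11 + 1 from rfl, pow_succ, pow_mul, sq, negCo0_sq,
      one_pow, one_mul]

/-- Nothing of prime order other than 2 and 23 commutes with `pi23`. -/
theorem no_commute_pi23 (y : Co0) (hy : y * pi23 = pi23 * y) : y ^ 46 = 1 := by
  rw [show 46 = 23 * 2 from rfl, pow_mul]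
  rcases commute_pi23_cases y hy with h | h <;> rw [h]
  · rw [one_pow]
  · rw [sq, negCo0_sq]

variable {N : Subgroup Co0} [N.Normal]

/-- A normal subgroup meeting an element of order 23 is everything. -/
theorem normal_eq_top (hz : negCo0 ∈ N) (h23 : pi23 ∈ N) : N = ⊤ := by
  have := simple_M24
  have hperm : ∀ τ : M24, permHom τ ∈ N := by
    rcases IsSimpleGroup.eq_bot_or_eq_top_of_normal (N.comap permHom) inferInstance with h | h
    · exfalso
      have : (⟨shiftOne, shiftOne_mem_M24⟩ : M24) ∈ N.comap permHom := h23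
      rw [h, Subgroup.mem_bot] at this
      have ho := shiftOne_order
      rw [this, orderOf_one] at ho
      omega
    · intro τ
      exact (h ▸ Subgroup.mem_top τ : τ ∈ N.comap permHom)
  let Q : ℕ → Prop := fun M => ∃ h : setOf24 M ∈ supports (golayCode : Set (GolayPt → ZMod 2)),
    monoCo0 1 (one_mem _) (setOf24 M) h ∈ N
  have hx : ∀ a b, Q a → Q b → Q (a ^^^ b) := by
    rintro a b ⟨ha, han⟩ ⟨hb, hbn⟩
    refine ⟨setOf24_xor a b ▸ supports_symmDiff ha hb, ?_⟩
    have := mul_mem han hbn
    rw [monoCo0_mul] at this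
    convert this using 1
    exact monoCo0_congr (mul_one _).symm (by rw [setOf24_xor]; simp)
  have h0 : Q 0 := by
    refine ⟨setOf24_mem_supports isCode_zero, ?_⟩
    convert one_mem N
    refine co0_ext fun v => Subtype.ext ?_
    rw [monoCo0_smul, one_smul]
    funext p
    simp [monoFun, mem_setOf24]
  have hfull : Q 16777215 := by
    refine ⟨setOf24_mem_supports isCode_full, ?_⟩
    convert hz
    exact monoCo0_congr rfl (by decide +kernel)
  have hcomm : ∀ (τ : Equiv.Perm GolayPt) (hτ : τ ∈ M24) (r : ℕ), isCode r = true →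
      Q (r ^^^ maskOf ((setOf24 r).image ⇑τ⁻¹)) := by
    intro τ hτ r hr
    have hc := setOf24_mem_supports hr
    have hT : monoCo0 τ hτ ∅ empty_mem_supports ∈ N := by
      have := hperm ⟨τ⁻¹, inv_mem hτ⟩
      convert this using 1
      exact monoCo0_congr (hτ' := inv_mem (inv_mem hτ)) (hc' := empty_mem_supports) (inv_inv τ).symm rfl
    set T := monoCo0 τ hτ ∅ empty_mem_supports with hTdef
    set A := monoCo0 1 (one_mem _) (setOf24 r) hc with hAdef
    have hA' : monoCo0 1 (one_mem _) ((setOf24 r).image ⇑τ⁻¹)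
        (setSystemAut_image_mem (inv_mem hτ : τ⁻¹ ∈ M24) hc) = T * A * T⁻¹ := by
      rw [eq_mul_inv_iff_mul_eq, hTdef, hAdef, monoCo0_mul, monoCo0_mul]
      exact monoCo0_congr (by simp) (by simp [symmDiff_empty', empty_symmDiff'])
    have hmem : A⁻¹ * (T * A * T⁻¹) ∈ N := by
      have h1 : A⁻¹ * T * A ∈ N := by
        simpa using Subgroup.Normal.conj_mem inferInstance T hT A⁻¹
      simpa [mul_assoc] using mul_mem h1 (inv_mem hT)
    have hAA : A⁻¹ = A := by
      rw [inv_eq_iff_mul_eq_one, hAdef, monoCo0_mul]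
      refine co0_ext fun v => Subtype.ext ?_
      rw [monoCo0_smul, one_smul]
      funext p
      simp [monoFun]
    rw [hAA, ← hA', hAdef, monoCo0_mul] at hmem
    have e : setOf24 (r ^^^ maskOf ((setOf24 r).image ⇑τ⁻¹)) = setOf24 r ∆ (setOf24 r).image ⇑τ⁻¹ := by
      rw [setOf24_xor, setOf24_maskOf]
    refine ⟨e ▸ supports_symmDiff hc (setSystemAut_image_mem (inv_mem hτ : τ⁻¹ ∈ M24) hc), ?_⟩
    convert hmem using 1
    exact monoCo0_congr (mul_one _).symm (by rw [e]; simp)
  let span : List ℕ := 16777215 :: codeRows.flatMap fun r =>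
    ([shiftOne, projInv, cubeTwist] : List (Equiv.Perm GolayPt)).map fun (g : Equiv.Perm GolayPt) =>
      r ^^^ maskOf ((setOf24 r).image ⇑g)
  have hspan : ∀ m ∈ span, Q m := by
    intro m hm
    simp only [span, List.mem_cons, List.mem_flatMap, List.mem_map] at hm
    rcases hm with rfl | ⟨r, hr, g, hg, rfl⟩
    · exact hfull
    · have hgM : g ∈ M24 := by
        simp only [List.mem_cons, List.not_mem_nil, or_false] at hg
        rcases hg with rfl | rfl | rfl
        exacts [shiftOne_mem_M24, projInv_mem_M24, cubeTwist_mem_M24]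
      have := hcomm g⁻¹ (inv_mem hgM) r ((by decide +kernel : ∀ r ∈ codeRows, isCode r = true) r hr)
      rwa [inv_inv] at this
  have hrows : ∀ r ∈ codeRows, Q r := by
    have hsel : spanSel.map (xorSel span) = codeRows := by decide +kernel
    intro r hr
    rw [← hsel, List.mem_map] at hr
    obtain ⟨s, -, rfl⟩ := hr
    exact xorSel_induction Q h0 hx _ _ hspan
  have hsign : ∀ c (hc : c ∈ supports (golayCode : Set (GolayPt → ZMod 2))),
      monoCo0 1 (one_mem _) c hc ∈ N := by
    intro c hc
    obtain ⟨m, -, hm⟩ := exists_codeMask ((mem_supports_iff c).1 hc)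
    obtain ⟨h, hn⟩ : Q (maskOf c) := by rw [hm]; exact xorSel_induction Q h0 hx _ _ hrows
    convert hn using 1
    exact monoCo0_congr rfl (setOf24_maskOf c).symm
  have hmono : monoGroup ≤ N := by
    rw [monoGroup, Subgroup.closure_le]
    rintro g ⟨τ, hτ, c, hc, rfl⟩
    have := mul_mem (hsign c hc) (hperm ⟨τ⁻¹, inv_mem hτ⟩)
    rw [permHom, MonoidHom.coe_mk, OneHom.coe_mk, monoCo0_mul] at this
    refine (congrArg (· ∈ N) ?_).mpr this
    exact monoCo0_congr (hτ := hτ) (hc := hc) (show τ = τ⁻¹⁻¹ * 1 by rw [inv_inv, mul_one])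
      (show c = c ∆ ((∅ : Finset GolayPt).image ⇑(1 : Equiv.Perm GolayPt)⁻¹) by
        rw [Finset.image_empty, symmDiff_empty'])
  obtain ⟨a, -, ha⟩ := runMoves_spec xiConj (by decide +kernel)
  obtain ⟨b, -, hb⟩ := runMoves_spec xiConjInv (by decide +kernel)
  have hid : a * b = 1 := by
    refine co0_eq_of_moves (a := xiConjInv ++ xiConj) (b := []) (fun l hl => ?_)
      (fun l hl => by rw [one_smul]; rfl) (by decide +kernel)
    have hl' : vec (runMoves xiConjInv l) ∈ leechLattice := hb l hl ▸ (b • (⟨vec l, hl⟩ : leechLattice)).2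
    rw [mul_smul, show b • (⟨vec l, hl⟩ : leechLattice) = ⟨_, hl'⟩ from Subtype.ext (hb l hl), ha,
      runMoves, runMoves, runMoves, List.foldl_append]
  obtain ⟨τ₀, hτ₀, hε⟩ : ∃ (hc : setOf24 xiSign ∈ supports (golayCode : Set (GolayPt → ZMod 2)))
      (g : Co0), g = monoCo0 1 (one_mem _) (setOf24 xiSign) hc ∧ a * xiCo0 * b = g := by
    refine ⟨setOf24_mem_supports (by decide +kernel), _, rfl, ?_⟩
    let t : ℕ := ((List.range 24).map fun i => i * 256 ^ i).sum
    refine co0_eq_of_moves (a := xiConjInv ++ [.xi] ++ xiConj) (b := [.mono t xiSign]) (fun l hl => ?_)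
      (fun l hl => ?_) (by decide +kernel)
    · obtain ⟨hl', e⟩ : ∃ h, xiCo0 • b • (⟨vec l, hl⟩ : leechLattice) =
          (⟨vec (Mv.act .xi (runMoves xiConjInv l)), h⟩ : leechLattice) := by
        have hb' : vec (runMoves xiConjInv l) ∈ leechLattice := hb l hl ▸ (b • (⟨vec l, hl⟩ : leechLattice)).2
        have e1 : ((xiCo0 • (⟨_, hb'⟩ : leechLattice) : leechLattice) : GolayPt → ℤ) =
            vec (Mv.act .xi (runMoves xiConjInv l)) := by
          funext q
          rw [xiCo0_smul, Mv.act.eq_def .xi]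
          have h6 : ∀ q, tetOf q < 6 := by decide +kernel
          have := h6 q
          simp only [vec_map_range, xiFun, tetSum_vec, tetOf] at this ⊢
          simp only [getD_map_range _ this]
          rfl
        refine ⟨e1 ▸ (xiCo0 • (⟨_, hb'⟩ : leechLattice)).2, ?_⟩
        rw [show b • (⟨vec l, hl⟩ : leechLattice) = ⟨_, hb'⟩ from Subtype.ext (hb l hl)]
        exact Subtype.ext e1
      rw [mul_smul, mul_smul, e, ha]
      simp only [runMoves, List.foldl_append, List.foldl_cons, List.foldl_nil]
    · have ht : ∀ p : GolayPt, app t (idx p) = idx p := by decide +kernel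
      funext q
      simp only [runMoves, List.foldl_cons, List.foldl_nil, Mv.act, vec_map_range, monoCo0_smul,
        monoFun, mem_setOf24, vec, Equiv.Perm.one_apply]
      rw [getD_map_range _ (idx_lt q), ht]
  have hxi : xiCo0 ∈ N := by
    have hb' : b = a⁻¹ := eq_inv_of_mul_eq_one_right hid
    obtain ⟨rfl, hε⟩ := hε
    rw [hb'] at hε
    have := Subgroup.Normal.conj_mem inferInstance _ (hε ▸ hsign _ τ₀ : a * xiCo0 * a⁻¹ ∈ N) a⁻¹
    simpa [mul_assoc] using this
  rcases monoGroup_isCoatom.2 |> fun h => eq_or_lt_of_le hmono with e | e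
  · exact absurd (e.symm ▸ hxi) xiCo0_not_mem_monoGroup
  · exact monoGroup_isCoatom.2 N e

/-- The only normal subgroup strictly above the centre is the whole group. -/
theorem normal_cases (hz : Subgroup.center Co0 ≤ N) : N = Subgroup.center Co0 ∨ N = ⊤ := by
  have := co0_finite
  have := Fact.mk (by norm_num : Nat.Prime 23)
  have hc := card_Co0
  have h2 : ¬ 23 ^ 2 ∣ Nat.card Co0 := by rw [hc]; decide +kernel
  by_cases hN : 23 ∣ Nat.card N
  · exact Or.inr (normal_eq_top (hz negCo0_mem_center) (mem_of_prime_order h2 hN orderOf_pi23))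
  left
  refine le_antisymm ?_ hz
  have hP : IsPGroup 2 N := by
    refine isPGroup_of_selfCentralizing orderOf_pi23 (by rw [hc]; norm_num) h2
      (fun q hq hq2 hq23 y hy hyc => ?_) (fun q hq hq2 hq23 k hk hdvd => ?_) N hN
    · have h := orderOf_dvd_of_pow_eq_one (no_commute_pi23 y hyc)
      rw [hy, show 46 = 2 * 23 from rfl] at h
      rcases hq.dvd_mul.1 h with h | h
      · exact hq2 ((Nat.prime_dvd_prime_iff_eq hq Nat.prime_two).1 h)
      · exact hq23 ((Nat.prime_dvd_prime_iff_eq hq (by norm_num)).1 h)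
    · rw [hc] at hdvd
      have hq' : q ∣ 2 ^ 22 * 3 ^ 9 * 5 ^ 4 * 7 ^ 2 * 11 * 13 * 23 := by
        refine (dvd_pow_self q hk).trans ?_
        norm_num; exact hdvd
      have hmem : q ∈ [3, 5, 7, 11, 13] := by
        simp only [List.mem_cons, List.not_mem_nil, or_false]
        have hp : ∀ {a : ℕ}, a.Prime → q ∣ a → q = a := fun ha h => (Nat.prime_dvd_prime_iff_eq hq ha).1 h
        rcases hq.dvd_mul.1 hq' with h | h
        rcases hq.dvd_mul.1 h with h | h
        rcases hq.dvd_mul.1 h with h | h
        rcases hq.dvd_mul.1 h with h | h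
        rcases hq.dvd_mul.1 h with h | h
        rcases hq.dvd_mul.1 h with h | h
        · exact absurd (hp Nat.prime_two (hq.dvd_of_dvd_pow h)) hq2
        · simp [hp Nat.prime_three (hq.dvd_of_dvd_pow h)]
        · simp [hp (by norm_num : Nat.Prime 5) (hq.dvd_of_dvd_pow h)]
        · simp [hp (by norm_num : Nat.Prime 7) (hq.dvd_of_dvd_pow h)]
        · simp [hp (by norm_num : Nat.Prime 11) h]
        · simp [hp (by norm_num : Nat.Prime 13) h]
        · exact absurd (hp (by norm_num : Nat.Prime 23) h) hq23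
      have hk64 : k < 64 := by
        by_contra hk'
        have h1 := Nat.le_of_dvd (by norm_num) hdvd
        have h2 : 2 ^ 64 ≤ q ^ k := (Nat.pow_le_pow_right (by norm_num) (by omega : 64 ≤ k)).trans
          (Nat.pow_le_pow_left hq.two_le k)
        omega
      exact (by decide +kernel : ∀ q ∈ [3, 5, 7, 11, 13], ∀ k < 64, k ≠ 0 →
        q ^ k ∣ 8315553613086720000 → q ^ k % 23 ≠ 1) q hmem k hk64 hk hdvd
  have hcardK : Nat.card monoGroup = 4096 * 244823040 := by
    rw [← card_crossStab]
    exact Nat.card_congr (Equiv.subtypeEquivRight fun g => mem_monoGroup_iff)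
  have hNK : N ≤ monoGroup := by
    by_contra hn
    have htop : monoGroup ⊔ N = ⊤ := monoGroup_isCoatom.2 _
      (lt_of_le_of_ne le_sup_left fun e => hn (e ▸ le_sup_right))
    have hdvd : N.index ∣ Nat.card monoGroup := by
      rw [← Subgroup.relIndex_top_right, ← htop, Subgroup.relIndex_sup_right]
      exact Subgroup.relIndex_dvd_card N monoGroup
    have h81 : 3 ^ 4 ∣ Nat.card N * N.index := by rw [Subgroup.card_mul_index, hc]; norm_num
    obtain ⟨n, hn'⟩ := hP.exists_card_eq
    rw [hn'] at h81
    have := (Nat.Coprime.dvd_of_dvd_mul_left (Nat.Coprime.pow _ _ (by norm_num)) h81).trans hdvd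
    rw [hcardK] at this
    norm_num at this
  let M : AddSubgroup (GolayPt → ℤ) :=
    { carrier := {x | ∃ hx : x ∈ leechLattice, ∀ n ∈ N, ∃ w : leechLattice,
        n • (⟨x, hx⟩ : leechLattice) - ⟨x, hx⟩ = (2 : ℤ) • w}
      zero_mem' := ⟨zero_mem _, fun n _ => ⟨0, by
        rw [show (⟨0, zero_mem _⟩ : leechLattice) = 0 from rfl, smul_zero, sub_zero]
        exact map_zero (co0Hom n)⟩⟩
      add_mem' := by
        rintro a b ⟨ha, Ha⟩ ⟨hb, Hb⟩
        refine ⟨add_mem ha hb, fun n hn => ?_⟩
        obtain ⟨u, hu⟩ := Ha n hn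
        obtain ⟨w, hw⟩ := Hb n hn
        refine ⟨u + w, ?_⟩
        rw [show (⟨a + b, add_mem ha hb⟩ : leechLattice) = ⟨a, ha⟩ + ⟨b, hb⟩ from rfl, co0_add,
          smul_add, ← hu, ← hw]
        abel
      neg_mem' := by
        rintro a ⟨ha, Ha⟩
        refine ⟨neg_mem ha, fun n hn => ?_⟩
        obtain ⟨u, hu⟩ := Ha n hn
        refine ⟨-u, ?_⟩
        rw [show (⟨-a, neg_mem ha⟩ : leechLattice) = -⟨a, ha⟩ from rfl, co0_neg, smul_neg, ← hu]
        abel }
  have hM := (Cfsg.Agent.S5392.result).2 M (fun v hv => ?_) (fun x hx => hx.1) (fun g v hv => ?_)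
  · have he : eight none ∈ M := by
      refine ⟨eight_mem none, fun n hn => ?_⟩
      have h := mem_monoGroup_iff.1 (hNK hn) (eightL none) (eightL_mem_stdCross none)
      rw [stdCross_eq_cross] at h
      obtain ⟨-, -, z, hz', e⟩ := h
      refine ⟨-⟨z, hz'⟩, Subtype.ext ?_⟩
      have e' : ((n • eightL none : leechLattice) : GolayPt → ℤ) - eight none = -(2 • z) := by
        rw [← e, neg_sub]
      simpa [eightL] using e'
    rcases hM with hM | hM
    · exfalso
      obtain ⟨w, hw, e⟩ := hM _ he
      have hh : leechB (fun p => eight none p / 2) = false := by decide +kernel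
      have : (fun p => eight none p / 2) = w := by
        funext p; rw [e]; simp
      rw [this, leechB_iff.mpr hw] at hh
      exact absurd hh (by simp)
    · intro n hn
      refine Cfsg.Agent.S5392.result.1 n fun v => ?_
      have hv : (v : GolayPt → ℤ) ∈ M := by rw [hM]; exact v.2
      obtain ⟨_, Hv⟩ := hv
      obtain ⟨w, hw⟩ := Hv n hn
      exact ⟨w, by simpa using congrArg Subtype.val hw⟩
  · refine ⟨zsmul_mem hv 2, fun n hn => ⟨n • (⟨v, hv⟩ : leechLattice) - ⟨v, hv⟩, ?_⟩⟩
    rw [show (⟨(2 : ℤ) • v, zsmul_mem hv 2⟩ : leechLattice) = (2 : ℤ) • ⟨v, hv⟩ from rfl, co0_zsmul,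
      smul_sub]
  · obtain ⟨hv', Hv⟩ := hv
    refine ⟨(g • v).2, fun n hn => ?_⟩
    obtain ⟨w, hw⟩ := Hv (g⁻¹ * n * g) (by simpa using Subgroup.Normal.conj_mem inferInstance n hn g⁻¹)
    refine ⟨g • w, ?_⟩
    have h := congrArg (fun x => g • x) hw
    simp only [co0_sub, co0_zsmul, ← mul_smul, mul_inv_cancel_left, ← mul_assoc, mul_inv_cancel, one_mul] at h
    rw [mul_smul] at h
    exact h

theorem isSimpleGroup_Co1 : IsSimpleGroup (Co0 ⧸ Subgroup.center Co0) := by
  have := co0_finite
  have : Nontrivial (Co0 ⧸ Subgroup.center Co0) :=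
    Finite.one_lt_card_iff_nontrivial.1 (by rw [card_Co1]; norm_num)
  refine ⟨fun H hH => ?_⟩
  have hle : Subgroup.center Co0 ≤ H.comap (QuotientGroup.mk' (Subgroup.center Co0)) := by
    intro x hx
    rw [Subgroup.mem_comap, show QuotientGroup.mk' (Subgroup.center Co0) x = 1 from
      (QuotientGroup.eq_one_iff x).2 hx]
    exact one_mem H
  have hsurj := QuotientGroup.mk'_surjective (Subgroup.center Co0)
  rcases normal_cases hle with h | h
  · left
    rw [← Subgroup.map_comap_eq_self_of_surjective hsurj H, h]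
    exact (Subgroup.map_eq_bot_iff _).2 (QuotientGroup.ker_mk' _).ge
  · right
    rw [← Subgroup.map_comap_eq_self_of_surjective hsurj H, h, Subgroup.map_top_of_surjective _ hsurj]

end CfsgLib.Leech
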