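import Cfsg.Agent.Leech.Signs
import Cfsg.Agent.Mathieu.General
import Cfsg.Agent.GolayConfig.OctadOrbits

/-!
Level sets of lattice vectors, the classification of norms 32, 48 and 64 by absolute values, and
position lemmas for the Mathieu group.
-/

set_option autoImplicit false

namespace CfsgLib.Leech

open Cfsg CfsgLib.Mathieu CfsgLib.GolayConfig
open scoped Pointwise

/-- The positions with a given absolute value. -/
def lev (x : GolayPt → ℤ) (v : ℕ) : Finset GolayPt := Finset.univ.filter fun p => (x p).natAbs = v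

/-- The number of positions with a given absolute value. -/
def nv (x : GolayPt → ℤ) (v : ℕ) : ℕ := (lev x v).card

theorem mem_lev {x : GolayPt → ℤ} {v : ℕ} {p : GolayPt} : p ∈ lev x v ↔ (x p).natAbs = v := by
  simp [lev]

theorem natAbs_le_eight {x : GolayPt → ℤ} (h : sqNorm x ≤ 80) (p : GolayPt) : (x p).natAbs ≤ 8 := by
  have h1 : x p ^ 2 ≤ sqNorm x :=
    Finset.single_le_sum (f := fun q => x q ^ 2) (fun q _ => sq_nonneg _) (Finset.mem_univ p)
  have h2 : x p ^ 2 < 9 ^ 2 := by omega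
  rw [sq_lt_sq, abs_lt] at h2
  norm_num at h2
  omega

theorem nv_sums {x : GolayPt → ℤ} (h : sqNorm x ≤ 80) :
    nv x 0 + nv x 1 + nv x 2 + nv x 3 + nv x 4 + nv x 5 + nv x 6 + nv x 7 + nv x 8 = 24 ∧
      (nv x 1 : ℤ) + 4 * nv x 2 + 9 * nv x 3 + 16 * nv x 4 + 25 * nv x 5 + 36 * nv x 6 + 49 * nv x 7 +
        64 * nv x 8 = sqNorm x := by
  have hmem : ∀ p ∈ (Finset.univ : Finset GolayPt), (x p).natAbs ∈ Finset.range 9 := fun p _ =>
    Finset.mem_range.mpr (by have := natAbs_le_eight h p; omega)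
  constructor
  · have h1 := Finset.card_eq_sum_card_fiberwise hmem
    rw [Finset.card_univ, show Fintype.card GolayPt = 24 by simp [ZMod.card]] at h1
    simp only [Finset.sum_range_succ, Finset.sum_range_zero, zero_add] at h1
    exact h1.symm
  · have h1 := Finset.sum_fiberwise_of_maps_to hmem (fun p => x p ^ 2)
    have e : ∀ v ∈ Finset.range 9, ∑ p ∈ Finset.univ.filter (fun p => (x p).natAbs = v), x p ^ 2 =
        (nv x v : ℤ) * (v : ℤ) ^ 2 := by
      intro v _
      rw [Finset.sum_congr rfl fun p hp => ?_, Finset.sum_const, nsmul_eq_mul]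
      · rfl
      · rw [← (Finset.mem_filter.mp hp).2, Int.natAbs_sq]
    rw [Finset.sum_congr rfl e] at h1
    simp only [Finset.sum_range_succ, Finset.sum_range_zero, zero_add, Nat.cast_ofNat, Nat.cast_zero,
      Nat.cast_one] at h1
    change _ = sqNorm x at h1
    norm_num at h1
    linarith

theorem parity_pt {x : GolayPt → ℤ} (hx : x ∈ leechLattice) (p : GolayPt) :
    (x p).natAbs % 2 = (x none).natAbs % 2 := by
  obtain ⟨m, a, ha, -, -⟩ := mem_leech.mp hx
  have := ha p; have := ha none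
  omega

theorem nv_parity {x : GolayPt → ℤ} (hx : x ∈ leechLattice) {v : ℕ}
    (hv : v % 2 ≠ (x none).natAbs % 2) : nv x v = 0 := by
  rw [nv, Finset.card_eq_zero, Finset.eq_empty_iff_forall_notMem]
  intro p hp
  have := parity_pt hx p
  rw [mem_lev.mp hp] at this
  exact hv this

theorem lev_twos_mem {x : GolayPt → ℤ} (hx : x ∈ leechLattice) (h : sqNorm x ≤ 80)
    (hev : (x none).natAbs % 2 = 0) :
    lev x 2 ∪ lev x 6 ∈ supports (golayCode : Set (GolayPt → ZMod 2)) := by
  obtain ⟨k', -, -, hres⟩ := (isLeech_iff x).mpr (mem_leech.mp hx)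
  have h2 := hres 2
  convert h2 using 1
  ext p
  simp only [Finset.mem_union, mem_lev, Finset.mem_filter, Finset.mem_univ, true_and]
  have := natAbs_le_eight h p
  have := parity_pt hx p
  unfold Int.ModEq
  omega

theorem twos_weight {x : GolayPt → ℤ} (hx : x ∈ leechLattice) (h : sqNorm x ≤ 80)
    (hev : (x none).natAbs % 2 = 0) :
    nv x 2 + nv x 6 = 0 ∨ nv x 2 + nv x 6 = 8 ∨ nv x 2 + nv x 6 = 12 ∨ nv x 2 + nv x 6 = 16 ∨
      nv x 2 + nv x 6 = 24 := by
  have hc := supports_card (lev_twos_mem hx h hev)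
  have hd : Disjoint (lev x 2) (lev x 6) := Finset.disjoint_left.mpr fun p h2 h6 => by
    rw [mem_lev] at h2 h6; omega
  rwa [Finset.card_union_of_disjoint hd] at hc

theorem fours_even {x : GolayPt → ℤ} (hx : x ∈ leechLattice) (h : sqNorm x ≤ 80)
    (hev : (x none).natAbs % 2 = 0) (h0 : nv x 2 + nv x 6 = 0) : nv x 4 % 2 = 0 := by
  obtain ⟨m, a, ha, hs, -⟩ := mem_leech.mp hx
  have := ha none
  unfold Int.ModEq at hs
  have h8 : (∑ p, x p) % 8 = 0 := by omega
  have key : ∀ p ∈ (Finset.univ : Finset GolayPt), x p % 8 = if (x p).natAbs = 4 then 4 else 0 := by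
    intro p _
    have h26 : (x p).natAbs ≠ 2 ∧ (x p).natAbs ≠ 6 := by
      constructor <;> intro e <;>
      · have : 0 < nv x (x p).natAbs := Finset.card_pos.mpr ⟨p, mem_lev.mpr rfl⟩
        rw [e] at this
        omega
    have := natAbs_le_eight h p
    have := parity_pt hx p
    split <;> omega
  rw [Finset.sum_int_mod, Finset.sum_congr rfl key, Finset.sum_ite, Finset.sum_const,
    Finset.sum_const_zero, add_zero, nsmul_eq_mul] at h8
  change (nv x 4 : ℤ) * 4 % 8 = 0 at h8
  omega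

/-- The absolute values of a permuted vector agree with those of a pattern. -/
theorem abs_of_levels {x y : GolayPt → ℤ} (σ : Equiv.Perm GolayPt) (vals : List ℕ) (b : ℕ)
    (hval : ∀ p, (x p).natAbs = b ∨ (x p).natAbs ∈ vals) (hy : ∀ p, (y p).natAbs = b ∨ (y p).natAbs ∈ vals)
    (h : ∀ v ∈ vals, (lev y v).image σ = lev x v) (p : GolayPt) :
    (x (σ p)).natAbs = (y p).natAbs := by
  by_cases hp : (y p).natAbs ∈ vals
  · have : σ p ∈ lev x (y p).natAbs := by
      rw [← h _ hp]; exact Finset.mem_image_of_mem _ (mem_lev.mpr rfl)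
    exact mem_lev.mp this
  · have hb := (hy p).resolve_right hp
    by_contra hne
    have hx := (hval (σ p)).resolve_left (fun e => hne (e.trans hb.symm))
    have : σ p ∈ (lev y (x (σ p)).natAbs).image σ := by rw [h _ hx]; exact mem_lev.mpr rfl
    obtain ⟨q, hq, e⟩ := Finset.mem_image.mp this
    rw [σ.injective e] at hq
    exact hne (mem_lev.mp hq).symm

theorem mem_of_nv {x : GolayPt → ℤ} (h : sqNorm x ≤ 80) (vals : List ℕ)
    (h0 : ∀ v ∈ List.range 9, v ∉ vals → nv x v = 0) (p : GolayPt) : (x p).natAbs ∈ vals := by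
  by_contra hne
  have := h0 _ (List.mem_range.mpr (by have := natAbs_le_eight h p; omega)) hne
  rw [nv, Finset.card_eq_zero] at this
  have : p ∈ (∅ : Finset GolayPt) := this ▸ mem_lev.mpr rfl
  simp at this

/-! ### Positions -/

theorem exists_map_fun {k : ℕ} (hk : k ≤ 5) (f g : Fin k → GolayPt) (hf : Function.Injective f)
    (hg : Function.Injective g) : ∃ σ ∈ M24, ∀ i, σ (f i) = g i := by
  have := M24_isMultiplyPretransitive hk
  obtain ⟨σ, h⟩ := MulAction.exists_smul_eq M24 (⟨f, hf⟩ : Fin k ↪ GolayPt) ⟨g, hg⟩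
  exact ⟨σ.1, σ.2, fun i => DFunLike.congr_fun h i⟩

theorem exists_map_set {s t : Finset GolayPt} (h : s.card = t.card) (hk : s.card ≤ 5) :
    ∃ σ ∈ M24, s.image σ = t := by
  obtain ⟨σ, hσ, e⟩ := exists_map_fun hk (fun i => (s.equivFin.symm i).1)
    (fun i => (t.equivFin.symm (Fin.cast h i)).1) (Subtype.val_injective.comp s.equivFin.symm.injective)
    (Subtype.val_injective.comp (t.equivFin.symm.injective.comp (Fin.cast_injective h)))
  refine ⟨σ, hσ, Finset.eq_of_subset_of_card_le ?_ (by rw [Finset.card_image_of_injective _ σ.injective, h])⟩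
  intro p hp
  obtain ⟨q, hq, rfl⟩ := Finset.mem_image.mp hp
  have := e (s.equivFin ⟨q, hq⟩)
  simp only [Equiv.symm_apply_apply] at this
  rw [this]
  exact (t.equivFin.symm _).2

/-- Orbit tree of the stabiliser of the extra point and an octad avoiding it, on the other 15 points. -/
def trPair : List (ℕ × ℕ) :=
  [(0, 0), (0, 0), (1, 1), (0, 0), (2, 0), (3, 1), (0, 0), (2, 0), (3, 1), (0, 1), (2, 0), (4, 0),
    (5, 1), (2, 1)]

theorem exists_move_second {b : GolayPt} (hb : b ∉ setOf24 cOctN) (hb' : b ≠ pt 23) :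
    ∃ σ ∈ M24, σ (pt 23) = pt 23 ∧ (setOf24 cOctN).image σ = setOf24 cOctN ∧ σ (pt 5) = b := by
  obtain ⟨τ, hτ, hτb⟩ := moves_pointSet hN23 5 trPair (fun i => !hasPt i cOctN && i != 23)
    (by decide +kernel) (p := b) (by
      simp only [Bool.and_eq_true, Bool.not_eq_true', bne_iff_ne, ne_eq]
      refine ⟨Bool.eq_false_iff.2 fun h => hb ?_, fun h => hb' ?_⟩
      · rw [hasPt_iff (idx_lt b), pt_idx] at h; exact h
      · rw [← pt_idx b, h])
  exact ⟨τ, hτ.1.1, hτ.1.2, hτ.2, hτb⟩

/-- An octad and an ordered pair of points outside it. -/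
theorem exists_octad_pair_out {o : Finset GolayPt} (ho : o ∈ octads) {a b : GolayPt} (hab : a ≠ b)
    (ha : a ∉ o) (hb : b ∉ o) :
    ∃ σ ∈ M24, σ (pt 23) = a ∧ σ (pt 5) = b ∧ (setOf24 cOctN).image σ = o := by
  obtain ⟨σ, hσ, rfl, hσo⟩ := exists_point_not_octad ho ha
  have hb1 : σ⁻¹ b ∉ setOf24 cOctN := fun h => hb (by
    rw [← hσo, ← perm_apply_inv σ b, smul_mem_iff]; exact h)
  have hb2 : σ⁻¹ b ≠ pt 23 := fun h => hab (by rw [← h, perm_apply_inv])
  obtain ⟨τ, hτ, h23, hN, hτb⟩ := exists_move_second hb1 hb2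
  refine ⟨σ * τ, mul_mem hσ hτ, congrArg σ h23, ?_, ?_⟩
  · show σ (τ (pt 5)) = b
    rw [hτb, perm_apply_inv]
  · rw [Equiv.Perm.coe_mul, ← Finset.image_image, hN]
    exact hσo

end CfsgLib.Leech
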