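import Cfsg.Agent.Leech.Co0
import Cfsg.Agent.Leech.Shapes

/-!
Orbits of stabilisers in `Cfsg.Co0` from breadth-first certificates checked in the kernel.
-/

set_option autoImplicit false

namespace CfsgLib.Leech

open Cfsg CfsgLib.Mathieu

/-- A binary search tree of numbers. -/
inductive KT where
  | leaf
  | node (l : KT) (k : ℕ) (r : KT)

/-- Insertion. -/
def KT.ins (k : ℕ) : KT → KT
  | .leaf => .node .leaf k .leaf
  | .node l a r => if Nat.blt k a then .node (l.ins k) a r else .node l a (r.ins k)

/-- Evaluate a numeral before use. -/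
def force {α : Type} (n : ℕ) (f : ℕ → α) : α :=
  match n with
  | 0 => f 0
  | m + 1 => f (m + 1)

theorem force_eq {α : Type} (n : ℕ) (f : ℕ → α) : force n f = f n := by cases n <;> rfl

/-- The keys in order. -/
def KT.toL : KT → List ℕ
  | .leaf => []
  | .node l a r => l.toL ++ a :: r.toL

/-- The tree of a list. -/
def KT.build : List ℕ → KT
  | [] => .leaf
  | k :: ks => force k fun k => (KT.build ks).ins k

theorem KT.toL_ins (k : ℕ) : ∀ t : KT, (t.ins k).toL.Perm (k :: t.toL)
  | .leaf => List.Perm.refl _
  | .node l a r => by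
    unfold KT.ins
    split
    · exact ((KT.toL_ins k l).append_right _).trans (List.Perm.of_eq (List.cons_append ..))
    · exact (((KT.toL_ins k r).cons a).append_left l.toL).trans
        ((((List.Perm.swap k a r.toL)).append_left l.toL).trans List.perm_middle)

theorem KT.toL_build : ∀ ks : List ℕ, (KT.build ks).toL.Perm ks
  | [] => List.Perm.refl _
  | k :: ks => by
    rw [KT.build, force_eq]
    exact (KT.toL_ins k _).trans ((KT.toL_build ks).cons k)

/-- Strictly increasing. -/
def incr : List ℕ → Bool
  | [] => true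
  | [_] => true
  | a :: b :: l => Nat.blt a b && incr (b :: l)

theorem pairwise_of_incr : ∀ l : List ℕ, incr l = true → l.Pairwise (· < ·)
  | [], _ => List.Pairwise.nil
  | [_], _ => List.pairwise_singleton _ _
  | a :: b :: l, h => by
    simp only [incr, Bool.and_eq_true, Nat.blt_eq] at h
    have ih := pairwise_of_incr (b :: l) h.2
    refine List.Pairwise.cons (fun x hx => ?_) ih
    rcases List.mem_cons.1 hx with rfl | hx
    · exact h.1
    · exact h.1.trans (List.rel_of_pairwise_cons ih hx)

/-- Insertion by the bare recursors, which the kernel evaluates with little garbage. -/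
noncomputable def KT.insR (k : ℕ) (t : KT) : KT :=
  KT.rec (motive := fun _ => KT) (.node .leaf k .leaf)
    (fun l a r l' r' => Bool.rec (motive := fun _ => KT) (.node l a r') (.node l' a r) (Nat.blt k a)) t

/-- The tree of a list, by the bare recursors. -/
noncomputable def KT.buildR (ks : List ℕ) : KT :=
  List.rec (motive := fun _ => KT) .leaf (fun k _ t => force k fun k => t.insR k) ks

/-- An in-order walk: from a lower bound to one more than the largest key, if strictly increasing. -/
noncomputable def KT.chkR (t : KT) : ℕ → Option ℕ :=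
  KT.rec (motive := fun _ => ℕ → Option ℕ) (fun p => some p)
    (fun _ a _ fl fr p => Option.rec (motive := fun _ => Option ℕ) none
      (fun q => Bool.rec (motive := fun _ => Option ℕ) none (fr (Nat.succ a)) (Nat.ble q a)) (fl p)) t

theorem KT.insR_eq (k : ℕ) : ∀ t : KT, t.insR k = t.ins k
  | .leaf => rfl
  | .node l a r => by
    show Bool.rec (motive := fun _ => KT) (.node l a (r.insR k)) (.node (l.insR k) a r) (Nat.blt k a) = _
    rw [KT.insR_eq k l, KT.insR_eq k r]
    conv_rhs => rw [KT.ins]
    cases Nat.blt k a <;> rfl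

theorem KT.buildR_eq : ∀ ks : List ℕ, KT.buildR ks = KT.build ks
  | [] => rfl
  | k :: ks => by
    show (force k fun k => (KT.buildR ks).insR k) = _
    rw [KT.buildR_eq ks, KT.build, force_eq, force_eq, KT.insR_eq]

theorem KT.chkR_spec : ∀ (t : KT) (p q : ℕ), t.chkR p = some q →
    t.toL.Pairwise (· < ·) ∧ p ≤ q ∧ ∀ x ∈ t.toL, p ≤ x ∧ x < q
  | .leaf, p, q, h => by
    cases h
    exact ⟨List.Pairwise.nil, le_rfl, fun x hx => by simp [KT.toL] at hx⟩
  | .node l a r, p, q, h => by
    change Option.rec (motive := fun _ => Option ℕ) none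
      (fun q => Bool.rec (motive := fun _ => Option ℕ) none (r.chkR (Nat.succ a)) (Nat.ble q a))
      (l.chkR p) = some q at h
    cases hl : l.chkR p with
    | none => rw [hl] at h; cases h
    | some m =>
      rw [hl] at h
      change Bool.rec (motive := fun _ => Option ℕ) none (r.chkR (Nat.succ a)) (Nat.ble m a) = some q at h
      cases hm : Nat.ble m a with
      | false => rw [hm] at h; cases h
      | true =>
        rw [hm] at h
        obtain ⟨hl1, hl2, hl3⟩ := KT.chkR_spec l p m hl
        obtain ⟨hr1, hr2, hr3⟩ := KT.chkR_spec r (Nat.succ a) q h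
        have hma : m ≤ a := Nat.le_of_ble_eq_true hm
        refine ⟨?_, by omega, ?_⟩
        · rw [KT.toL, List.pairwise_append]
          refine ⟨hl1, List.pairwise_cons.2 ⟨fun x hx => (hr3 x hx).1, hr1⟩, fun x hx y hy => ?_⟩
          have h1 := hl3 x hx
          rcases List.mem_cons.1 hy with rfl | hy
          · omega
          · have h2 := hr3 y hy; omega
        · intro x hx
          rw [KT.toL, List.mem_append, List.mem_cons] at hx
          rcases hx with hx | rfl | hx
          · have := hl3 x hx; omega
          · omega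
          · have := hr3 x hx; omega

/-- Pairwise distinct, decided by a search tree. -/
noncomputable def distinctB (L : List ℕ) : Bool := ((KT.buildR L).chkR 0).isSome

theorem nodup_of_distinctB {L : List ℕ} (h : distinctB L = true) : L.Nodup := by
  obtain ⟨q, hq⟩ := Option.isSome_iff_exists.1 h
  have h1 := (KT.chkR_spec _ 0 q hq).1
  rw [KT.buildR_eq] at h1
  rw [← (KT.toL_build _).nodup_iff]
  exact h1.imp Nat.ne_of_lt

/-! ### Vectors packed in five bits per coordinate -/

/-- Coordinate `i` of a packed vector. -/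
def pcoord (c i : ℕ) : ℤ := (((c >>> (5 * i)) % 32 : ℕ) : ℤ) - 16

/-- Pack `n` values from position `i` on. -/
def packFrom (f : ℕ → ℤ) : ℕ → ℕ → ℕ
  | 0, _ => 0
  | n + 1, i => (f i + 16).toNat % 32 + 32 * packFrom f n (i + 1)

/-- The coordinate list of a packed vector. -/
def dec (c : ℕ) : List ℤ := (List.range 24).map (pcoord c)

/-- The packed form of a coordinate list. -/
def penc (l : List ℤ) : ℕ := packFrom (fun i => l.getD i 0) 24 0

theorem pcoord_packFrom (f : ℕ → ℤ) : ∀ (n i j : ℕ), j < n →
    (f (i + j) + 16).toNat < 32 → 0 ≤ f (i + j) + 16 → pcoord (packFrom f n i) j = f (i + j)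
  | n + 1, i, 0, _, h1, h2 => by
    simp only [pcoord, Nat.mul_zero, Nat.shiftRight_zero, packFrom, Nat.add_zero] at *
    rw [Nat.add_mul_mod_self_left, Nat.mod_mod, Nat.mod_eq_of_lt h1]
    omega
  | n + 1, i, j + 1, hj, h1, h2 => by
    have e : packFrom f (n + 1) i >>> (5 * (j + 1)) = packFrom f n (i + 1) >>> (5 * j) := by
      rw [show 5 * (j + 1) = 5 + 5 * j by omega, Nat.shiftRight_add]
      congr 1
      rw [packFrom, Nat.shiftRight_eq_div_pow, show (2 : ℕ) ^ 5 = 32 from rfl,
        Nat.add_mul_div_left _ _ (by norm_num : 0 < 32), Nat.div_eq_of_lt (Nat.mod_lt _ (by norm_num)),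
        Nat.zero_add]
    have := pcoord_packFrom f n (i + 1) j (by omega)
      (by rwa [show i + 1 + j = i + (j + 1) by omega]) (by rwa [show i + 1 + j = i + (j + 1) by omega])
    rw [show i + 1 + j = i + (j + 1) by omega] at this
    rw [← this, pcoord, pcoord, e]

theorem dec_penc {l : List ℤ} (hl : l.length = 24) (hm : vec l ∈ leechLattice)
    (hn : sqNorm (vec l) ≤ 80) : dec (penc l) = l := by
  refine List.ext_getElem (by simp [dec, hl]) fun i h1 h2 => ?_
  simp only [dec, List.getElem_map, List.getElem_range]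
  rw [hl] at h2
  have h8 := natAbs_le_eight hn (pt i)
  have e : vec l (pt i) = l.getD i 0 := by rw [vec, idx_pt h2]
  rw [e] at h8
  rw [penc, pcoord_packFrom _ 24 0 i h2 (by simp only [Nat.zero_add]; omega)
    (by simp only [Nat.zero_add]; omega)]
  simp [List.getD_eq_getElem?_getD, List.getElem?_eq_getElem (by omega : i < l.length)]

/-- The positions of the six tetrads. -/
def tetPos : List (List ℕ) :=
  [[0, 1, 2, 23], [4, 13, 16, 22], [3, 5, 14, 17], [6, 7, 19, 21], [9, 10, 15, 20], [8, 11, 12, 18]]

/-- A move on packed vectors, coordinate by coordinate. -/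
def pactAt : Mv → ℕ → ℕ → ℤ
  | .mono t c, x, i => if c.testBit i then -pcoord x (app t i) else pcoord x (app t i)
  | .xi, x, i => (if tetList.getD i 0 = 0 then -1 else 1) * (pcoord x i -
      (((tetPos.getD (tetList.getD i 0) []).map fun j => pcoord x j).sum) / 2)

/-- Pack `n` stored fields from position `i` on. -/
def packN (f : ℕ → ℕ) : ℕ → ℕ → ℕ
  | 0, _ => 0
  | n + 1, i => Nat.add (f i) (Nat.mul 32 (packN f n (Nat.succ i)))

/-- The field at position `i`. -/
def fieldN (x i : ℕ) : ℕ := Nat.mod (Nat.shiftRight x (Nat.mul 5 i)) 32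

/-- A monomial move on fields, with the accelerated primitives only. -/
def monoAt (t m x i : ℕ) : ℕ :=
  match Nat.beq (Nat.mod (Nat.shiftRight m i) 2) 1 with
  | true => Nat.mod (Nat.sub 32 (fieldN x (Nat.mod (Nat.shiftRight t (Nat.mul 8 i)) 256))) 32
  | false => fieldN x (Nat.mod (Nat.shiftRight t (Nat.mul 8 i)) 256)

/-- The tetrad of each position, four bits each. -/
def xiTet : ℕ := 0x13435214215544533212000

/-- The four positions of each tetrad, five bits each and twenty for a tetrad. -/
def xiPos : ℕ :=
  0x93168a3d49acce68b8a3b41a4b8820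

/-- The sum of the four fields of tetrad `k`. -/
def xiSum (x k : ℕ) : ℕ :=
  let P := Nat.mod (Nat.shiftRight xiPos (Nat.mul 20 k)) 1048576
  Nat.add (Nat.add (fieldN x (Nat.mod P 32)) (fieldN x (Nat.mod (Nat.shiftRight P 5) 32)))
    (Nat.add (fieldN x (Nat.mod (Nat.shiftRight P 10) 32)) (fieldN x (Nat.mod (Nat.shiftRight P 15) 32)))

/-- The move on one field. -/
def xiAt (x i : ℕ) : ℕ :=
  let k := Nat.mod (Nat.shiftRight xiTet (Nat.mul 4 i)) 16
  let h := Nat.div (xiSum x k) 2
  match Nat.beq k 0 with
  | true => Nat.mod (Nat.sub h (fieldN x i)) 32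
  | false => Nat.mod (Nat.sub (Nat.add (fieldN x i) 32) h) 32

/-- A move on packed vectors. -/
def pact (x : ℕ) : Mv → ℕ
  | .mono t m => force x fun x => packN (monoAt t m x) 24 0
  | .xi => force x fun x => packN (xiAt x) 24 0

theorem monoAt_eq (t m x i : ℕ) :
    monoAt t m x i = (pactAt (.mono t m) x i + 16).toNat % 32 := by
  have hb : Nat.beq (Nat.mod (Nat.shiftRight m i) 2) 1 = m.testBit i := by
    rw [Nat.testBit_eq_decide_div_mod_eq]
    have h2 : Nat.mod (Nat.shiftRight m i) 2 = m / 2 ^ i % 2 := by
      show (m >>> i) % 2 = _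
      rw [Nat.shiftRight_eq_div_pow]
    rw [h2]
    exact Bool.eq_iff_iff.mpr (by simp [Nat.beq_eq])
  have hlt : fieldN x (app t i) < 32 := Nat.mod_lt _ (by norm_num)
  have e : pcoord x (app t i) = (fieldN x (app t i) : ℤ) - 16 := rfl
  simp only [monoAt, pactAt, show Nat.mod (Nat.shiftRight t (Nat.mul 8 i)) 256 = app t i from rfl, hb, e]
  generalize fieldN x (app t i) = f at hlt ⊢
  cases m.testBit i
  · simp only [Bool.false_eq_true, if_false]
    omega
  · simp only [if_true]
    show (32 - f) % 32 = _
    omega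

/-- The tables of tetrads agree with the lists. -/
theorem xi_tables : ∀ i < 24, Nat.mod (Nat.shiftRight xiTet (Nat.mul 4 i)) 16 = tetList.getD i 0 ∧
    (fun P => [Nat.mod P 32, Nat.mod (Nat.shiftRight P 5) 32, Nat.mod (Nat.shiftRight P 10) 32,
      Nat.mod (Nat.shiftRight P 15) 32]) (Nat.mod (Nat.shiftRight xiPos
        (Nat.mul 20 (tetList.getD i 0))) 1048576) = tetPos.getD (tetList.getD i 0) [] := by
  decide +kernel

theorem pcoord_field (x j : ℕ) : pcoord x j = (fieldN x j : ℤ) - 16 := rfl

theorem xiAt_eq (x : ℕ) {i : ℕ} (hi : i < 24) :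
    xiAt x i = (pactAt .xi x i + 16).toNat % 32 := by
  obtain ⟨hk, hp⟩ := xi_tables i hi
  simp only [] at hp
  have hlt : ∀ j, fieldN x j < 32 := fun j => Nat.mod_lt _ (by norm_num)
  simp only [pactAt, ← hp, List.map_cons, List.map_nil, List.sum_cons, List.sum_nil, pcoord_field,
    xiAt, xiSum, hk]
  generalize Nat.mod (Nat.shiftRight xiPos (Nat.mul 20 (tetList.getD i 0))) 1048576 = P
  have h0 := hlt i
  have h1 := hlt (P.mod 32)
  have h2 := hlt ((P.shiftRight 5).mod 32)
  have h3 := hlt ((P.shiftRight 10).mod 32)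
  have h4 := hlt ((P.shiftRight 15).mod 32)
  generalize fieldN x i = f at *
  generalize fieldN x (P.mod 32) = f1 at *
  generalize fieldN x ((P.shiftRight 5).mod 32) = f2 at *
  generalize fieldN x ((P.shiftRight 10).mod 32) = f3 at *
  generalize fieldN x ((P.shiftRight 15).mod 32) = f4 at *
  by_cases h : tetList.getD i 0 = 0
  · rw [if_pos h, h, show Nat.beq 0 0 = true from rfl]
    show (Nat.sub (Nat.div _ 2) f) % 32 = _
    simp only [Nat.sub_eq, Nat.add_eq]
    show ((f1 + f2 + (f3 + f4)) / 2 - f) % 32 = _
    omega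
  · rw [if_neg h, show Nat.beq (tetList.getD i 0) 0 = false from by
      rw [Bool.eq_false_iff]; exact fun e => h (Nat.eq_of_beq_eq_true e)]
    show (f + 32 - (f1 + f2 + (f3 + f4)) / 2) % 32 = _
    omega

theorem pact_eq (x : ℕ) (m : Mv) : pact x m = packFrom (pactAt m x) 24 0 := by
  cases m with
  | xi =>
    rw [pact, force_eq]
    have : ∀ n i, i + n ≤ 24 → packN (xiAt x) n i = packFrom (pactAt .xi x) n i := by
      intro n
      induction n with
      | zero => intros; rfl
      | succ n ih =>
        intro i hi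
        rw [packN, packFrom, ← ih (i + 1) (by omega), xiAt_eq x (by omega)]
        rfl
    exact this 24 0 le_rfl
  | mono t c =>
    rw [pact, force_eq]
    have : ∀ n i, packN (monoAt t c x) n i = packFrom (pactAt (.mono t c) x) n i := by
      intro n
      induction n with
      | zero => intro i; rfl
      | succ n ih =>
        intro i
        rw [packN, packFrom, ← ih, monoAt_eq]
        rfl
    exact this 24 0

theorem dec_getD (x : ℕ) {j : ℕ} (hj : j < 24) : (dec x).getD j 0 = pcoord x j :=
  getD_map_range _ hj 0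

theorem pactAt_eq {m : Mv} (hm : m.ok = true) (x i : ℕ) (hi : i < 24) :
    pactAt m x i = (m.act (dec x)).getD i 0 := by
  cases m with
  | mono t c =>
    simp only [Mv.ok, Bool.and_eq_true] at hm
    obtain ⟨τ, hr⟩ := exists_rep_of_valid hm.1.1
    have hlt : app t i < 24 := by
      have := hr (pt i)
      rw [show (enc (pt i)).val = i from idx_pt hi] at this
      rw [this]; exact (enc _).isLt
    simp only [pactAt, Mv.act, getD_map_range _ hi, dec_getD x hlt]
  | xi =>
    have h6 : ∀ i < 24, tetList.getD i 0 < 6 := by decide +kernel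
    have ht : ∀ k < 6, tetPos.getD k [] = (List.range 24).filter fun j => tetList.getD j 0 == k := by
      decide +kernel
    simp only [pactAt, ht _ (h6 i hi), Mv.act, getD_map_range _ hi, getD_map_range _ (h6 i hi), dec_getD x hi]
    congr 4
    exact List.map_congr_left fun j hj => (dec_getD x (List.mem_range.1 (List.mem_filter.1 hj).1)).symm

theorem pact_spec {m : Mv} (hm : m.ok = true) {x : ℕ} (hx : vec (dec x) ∈ leechLattice)
    (hn : sqNorm (vec (dec x)) ≤ 80) :
    dec (pact x m) = m.act (dec x) ∧ penc (dec (pact x m)) = pact x m := by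
  obtain ⟨g, hg⟩ := m.act_spec hm
  have h1 := hg (dec x) hx
  have hy : vec (m.act (dec x)) ∈ leechLattice := h1 ▸ (g • (⟨_, hx⟩ : leechLattice)).2
  have hyn : sqNorm (vec (m.act (dec x))) ≤ 80 := by rw [← h1, co0_norm]; exact hn
  have hpk : ∀ (n i : ℕ), i + n ≤ 24 →
      packFrom (pactAt m x) n i = packFrom (fun j => (m.act (dec x)).getD j 0) n i := by
    intro n
    induction n with
    | zero => intros; rfl
    | succ n ih =>
      intro i hi
      simp only [packFrom, ih (i + 1) (by omega), pactAt_eq hm x i (by omega)]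
  have e : pact x m = penc (m.act (dec x)) := (pact_eq x m).trans (hpk 24 0 le_rfl)
  have e2 : dec (pact x m) = m.act (dec x) := by
    rw [e]; exact dec_penc (by cases m <;> simp [Mv.act]) hy hyn
  exact ⟨e2, by rw [e2, e]⟩

theorem dec_length (c : ℕ) : (dec c).length = 24 := by simp [dec]

attribute [local irreducible] dec penc pact

theorem prun_spec : ∀ (ms : List Mv), ms.all Mv.ok = true → ∀ x : ℕ,
    vec (dec x) ∈ leechLattice → sqNorm (vec (dec x)) ≤ 80 → penc (dec x) = x →
      dec (ms.foldl pact x) = runMoves ms (dec x) ∧ penc (dec (ms.foldl pact x)) = ms.foldl pact x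
  | [], _, x, _, _, h => ⟨rfl, h⟩
  | m :: ms, h, x, hx, hn, _ => by
    simp only [List.all_cons, Bool.and_eq_true] at h
    obtain ⟨e, e'⟩ := pact_spec h.1 hx hn
    obtain ⟨g, hg⟩ := m.act_spec h.1
    have h1 := hg (dec x) hx
    obtain ⟨e3, e4⟩ := prun_spec ms h.2 (pact x m) (by rw [e, ← h1]; exact (g • (⟨_, hx⟩ : leechLattice)).2)
      (by rw [e, ← h1, co0_norm]; exact hn) e'
    exact ⟨by rw [List.foldl_cons, e3, e]; rfl, by rw [List.foldl_cons]; exact e4⟩

/-- The children of one vector. -/
def kids (gens : List (List Mv)) (mask : ℕ) (x : ℕ) : List ℕ :=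
  ((List.range gens.length).filter fun j => mask.testBit j).map fun j => (gens.getD j []).foldl pact x

/-- The next level of the breadth-first tree. -/
def nextLvl (gens : List (List Mv)) : List ℕ → ℕ → List ℕ
  | [], _ => []
  | x :: xs, m => kids gens (m % 2 ^ gens.length) x ++ nextLvl gens xs (m / 2 ^ gens.length)

/-- All vectors of the tree. -/
def treeList (gens : List (List Mv)) : List ℕ → List ℕ → List ℕ
  | cur, [] => cur
  | cur, m :: ms => cur ++ treeList gens (nextLvl gens cur m) ms

/-- The generators are members fixing `F`. -/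
def gensOK (F : List (List ℤ)) (gens : List (List Mv)) : Bool :=
  gens.all fun ms => ms.all Mv.ok && F.all fun f => runMoves ms f == f

/-- What the vectors of a tree satisfy. -/
def TreeGood (F : List (List ℤ)) (root : List ℤ) (c : ℕ) : Prop :=
  penc (dec c) = c ∧ sqNorm (vec (dec c)) ≤ 80 ∧ ReachL (F.map vec) (vec root) (vec (dec c))

theorem good_nextLvl {F : List (List ℤ)} {gens : List (List Mv)} (hg : gensOK F gens = true)
    {root : List ℤ} : ∀ (cur : List ℕ) (m : ℕ), (∀ c ∈ cur, TreeGood F root c) →
      ∀ c ∈ nextLvl gens cur m, TreeGood F root c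
  | [], _, _, c, hc => by simp [nextLvl] at hc
  | x :: xs, m, h, c, hc => by
    rw [nextLvl, List.mem_append] at hc
    rcases hc with hc | hc
    · simp only [kids, List.mem_map, List.mem_filter, List.mem_range] at hc
      obtain ⟨j, ⟨hj, -⟩, rfl⟩ := hc
      rw [List.getD_eq_getElem _ _ hj]
      have hms := List.all_eq_true.1 hg _ (List.getElem_mem hj)
      simp only [Bool.and_eq_true] at hms
      obtain ⟨hp, hn, hr⟩ := h x (by simp)
      obtain ⟨e, e'⟩ := prun_spec gens[j] hms.1 x hr.mem_right hn hp
      obtain ⟨g, -, hgs⟩ := runMoves_spec gens[j] hms.1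
      refine ⟨e', ?_, ?_⟩
      · rw [e, ← hgs _ hr.mem_right, co0_norm]; exact hn
      · rw [e]; exact hr.trans (reachL_of_moves F gens[j] (dec x) _ hms.1 hms.2 rfl hr.mem_right)
    · exact good_nextLvl hg xs _ (fun l hl => h l (by simp [hl])) c hc

theorem good_treeList {F : List (List ℤ)} {gens : List (List Mv)} (hg : gensOK F gens = true)
    {root : List ℤ} : ∀ (ms : List ℕ) (cur : List ℕ), (∀ c ∈ cur, TreeGood F root c) →
      ∀ c ∈ treeList gens cur ms, TreeGood F root c
  | [], _, h, c, hc => h c hc
  | m :: ms, cur, h, c, hc => by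
    rw [treeList, List.mem_append] at hc
    rcases hc with hc | hc
    · exact h c hc
    · exact good_treeList hg ms _ (good_nextLvl hg cur m h) c hc

/-- A certificate of an orbit with `N` points: checked generators, root and distinct vectors. -/
noncomputable def treeOK (F : List (List ℤ)) (gens : List (List Mv)) (root : List ℤ) (ms : List ℕ) (N : ℕ) : Bool :=
  gensOK F gens && (dec (penc root) == root && decide (sqNorm (vec root) ≤ 80)) && leechB (vec root) &&
    (let L := treeList gens [penc root] ms; L.length == N && distinctB L)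

theorem good_of_root {F : List (List ℤ)} {gens : List (List Mv)} (hg : gensOK F gens = true)
    {root : List ℤ} (hlen : (dec (penc root) == root && decide (sqNorm (vec root) ≤ 80)) = true)
    (hroot : leechB (vec root) = true) (ms : List ℕ) :
    ∀ l ∈ treeList gens [penc root] ms, TreeGood F root l :=
  good_treeList hg ms [penc root] fun l hl => by
    rw [List.mem_singleton] at hl; subst hl
    simp only [Bool.and_eq_true, beq_iff_eq, decide_eq_true_eq] at hlen
    unfold TreeGood
    rw [hlen.1]
    exact ⟨rfl, hlen.2, ReachG.refl _ (leechB_iff.mp hroot)⟩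

variable {F : List (List ℤ)} {gens : List (List Mv)} {root : List ℤ} {ms : List ℕ} {N : ℕ}
  {S : Set (GolayPt → ℤ)}

/-- A set of `N` vectors containing an orbit with an `N`-point certificate is that orbit. -/
theorem set_eq_tree (h : treeOK F gens root ms N = true) (hfin : S.Finite) (hS : S.ncard ≤ N)
    (hsub : ∀ x, ReachL (F.map vec) (vec root) x → x ∈ S) :
    S = (fun c => vec (dec c)) '' {c | c ∈ treeList gens [penc root] ms} := by
  simp only [treeOK, Bool.and_eq_true, beq_iff_eq] at h
  obtain ⟨⟨⟨hg, hlen⟩, hroot⟩, hcount, hdist⟩ := h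
  have hgood := good_of_root hg (by simpa using hlen) hroot ms
  symm
  refine Set.eq_of_subset_of_ncard_le ?_ ?_ hfin
  · rintro x ⟨l, hl, rfl⟩
    exact hsub _ (hgood l hl).2.2
  · rw [Set.InjOn.ncard_image]
    · rw [show {l | l ∈ treeList gens [penc root] ms} = ↑(treeList gens [penc root] ms).toFinset by ext; simp,
        Set.ncard_coe_finset, List.toFinset_card_of_nodup (nodup_of_distinctB hdist), hcount]
      exact hS
    · intro a ha b hb e
      rw [← (hgood a ha).1, ← (hgood b hb).1, ← toList_vec (dec_length a :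
        (dec a).length = 24), show vec (dec a) = vec (dec b) from e,
        toList_vec (dec_length b)]

/-- Transitivity from a certificate. -/
theorem reach_of_tree (h : treeOK F gens root ms N = true) (hfin : S.Finite) (hS : S.ncard ≤ N)
    (hsub : ∀ x, ReachL (F.map vec) (vec root) x → x ∈ S) {x : GolayPt → ℤ} (hx : x ∈ S) :
    ReachL (F.map vec) (vec root) x := by
  rw [set_eq_tree h hfin hS hsub] at hx
  obtain ⟨l, hl, rfl⟩ := hx
  simp only [treeOK, Bool.and_eq_true, beq_iff_eq] at h
  obtain ⟨⟨⟨hg, hlen⟩, hroot⟩, -⟩ := h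
  exact (good_of_root hg (by simpa using hlen) hroot ms l hl).2.2

/-- The number of members with a decidable property, read off the certificate. -/
theorem ncard_sep_tree (h : treeOK F gens root ms N = true) (hfin : S.Finite) (hS : S.ncard ≤ N)
    (hsub : ∀ x, ReachL (F.map vec) (vec root) x → x ∈ S) (P : ℕ → Bool)
    (Q : (GolayPt → ℤ) → Prop) (hPQ : ∀ c, P c = true ↔ Q (vec (dec c))) :
    {x | x ∈ S ∧ Q x}.ncard = (treeList gens [penc root] ms).countP P := by
  have e := set_eq_tree h hfin hS hsub
  simp only [treeOK, Bool.and_eq_true, beq_iff_eq] at h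
  obtain ⟨⟨⟨hg, hlen⟩, hroot⟩, -, hdist⟩ := h
  have hgood := good_of_root hg (by simpa using hlen) hroot ms
  have e2 : {x | x ∈ S ∧ Q x} =
      (fun c => vec (dec c)) '' ↑((treeList gens [penc root] ms).filter P).toFinset := by
    ext x
    simp only [e, Set.mem_image, List.coe_toFinset, List.mem_filter]
    constructor
    · rintro ⟨⟨c, hc, rfl⟩, hQ⟩
      exact ⟨c, ⟨hc, (hPQ c).2 hQ⟩, rfl⟩
    · rintro ⟨c, ⟨hc, hP⟩, rfl⟩
      exact ⟨⟨c, hc, rfl⟩, (hPQ c).1 hP⟩
  rw [e2, Set.InjOn.ncard_image, Set.ncard_coe_finset,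
    List.toFinset_card_of_nodup ((nodup_of_distinctB hdist).filter _), List.countP_eq_length_filter]
  intro a ha b hb e'
  simp only [List.coe_toFinset, List.mem_filter] at ha hb
  have hlen24 := dec_length
  rw [← (hgood a ha.1).1, ← (hgood b hb.1).1, ← toList_vec (hlen24 a),
    show vec (dec a) = vec (dec b) from e', toList_vec (hlen24 b)]

/-- Inner product of coordinate lists. -/
def dotL : List ℤ → List ℤ → ℤ
  | a :: l, b :: l' => a * b + dotL l l'
  | _, _ => 0

end CfsgLib.Leech
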