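import Mathlib

/-!
Classes modulo 2 of short vectors in an even positive definite lattice of rank 24 without vectors of
norm 2: a class holds at most one pair of norm 4 or 6 and at most 24 orthogonal pairs of norm 8.
With the Leech lattice's three counts every class is reached and every bound is attained.
-/

set_option autoImplicit false

namespace CfsgLib.Leech

open Matrix Finset

/-- The hypotheses: symmetric, positive definite, even, no vectors of norm 2. -/
structure IsRootless (B : Matrix (Fin 24) (Fin 24) ℤ) : Prop where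
  symm : B.IsSymm
  pos : ∀ x : Fin 24 → ℤ, x ≠ 0 → 0 < x ⬝ᵥ (B *ᵥ x)
  even : ∀ x : Fin 24 → ℤ, (2 : ℤ) ∣ x ⬝ᵥ (B *ᵥ x)
  no2 : ∀ x : Fin 24 → ℤ, x ⬝ᵥ (B *ᵥ x) ≠ 2

variable {B : Matrix (Fin 24) (Fin 24) ℤ}

theorem IsRootless.four_le (h : IsRootless B) {x : Fin 24 → ℤ} (hx : x ≠ 0) :
    4 ≤ x ⬝ᵥ (B *ᵥ x) := by
  have := h.pos x hx
  obtain ⟨k, hk⟩ := h.even x
  have := h.no2 x
  omega

theorem IsRootless.dot_comm (h : IsRootless B) (x y : Fin 24 → ℤ) :
    x ⬝ᵥ (B *ᵥ y) = y ⬝ᵥ (B *ᵥ x) := by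
  rw [dotProduct_mulVec, ← mulVec_transpose, h.symm.eq, dotProduct_comm]

theorem IsRootless.norm_add (h : IsRootless B) (x y : Fin 24 → ℤ) :
    (x + y) ⬝ᵥ (B *ᵥ (x + y)) = x ⬝ᵥ (B *ᵥ x) + 2 * (x ⬝ᵥ (B *ᵥ y)) + y ⬝ᵥ (B *ᵥ y) := by
  simp only [mulVec_add, dotProduct_add, add_dotProduct]
  rw [h.dot_comm y x]
  ring

theorem IsRootless.norm_sub (h : IsRootless B) (x y : Fin 24 → ℤ) :
    (x - y) ⬝ᵥ (B *ᵥ (x - y)) = x ⬝ᵥ (B *ᵥ x) - 2 * (x ⬝ᵥ (B *ᵥ y)) + y ⬝ᵥ (B *ᵥ y) := by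
  simp only [mulVec_sub, dotProduct_sub, sub_dotProduct]
  rw [h.dot_comm y x]
  ring

theorem IsRootless.sixteen_le (h : IsRootless B) {d : Fin 24 → ℤ} (hd : d ≠ 0)
    (h2 : ∀ i, (2 : ℤ) ∣ d i) : 16 ≤ d ⬝ᵥ (B *ᵥ d) := by
  choose z hz using h2
  have hdz : d = (2 : ℤ) • z := funext fun i => by simp [hz i]
  have hz0 : z ≠ 0 := by rintro rfl; exact hd (by simp [hdz])
  have := h.four_le hz0
  simp only [hdz, mulVec_smul, smul_dotProduct, dotProduct_smul, smul_eq_mul]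
  omega

/-- Two congruent vectors of norm at most 8 are equal, opposite, or orthogonal of norm 8. -/
theorem IsRootless.congr_cases (h : IsRootless B) {x y : Fin 24 → ℤ}
    (hx : x ⬝ᵥ (B *ᵥ x) ≤ 8) (hy : y ⬝ᵥ (B *ᵥ y) ≤ 8) (hc : ∀ i, (2 : ℤ) ∣ (x - y) i) :
    y = x ∨ y = -x ∨
      (x ⬝ᵥ (B *ᵥ x) = 8 ∧ y ⬝ᵥ (B *ᵥ y) = 8 ∧ x ⬝ᵥ (B *ᵥ y) = 0) := by
  by_cases h1 : x - y = 0
  · exact Or.inl (sub_eq_zero.mp h1).symm
  by_cases h2 : x + y = 0
  · exact Or.inr (Or.inl (eq_neg_of_add_eq_zero_right h2))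
  have hc' : ∀ i, (2 : ℤ) ∣ (x + y) i := fun i => by
    have := hc i
    simp only [Pi.sub_apply, Pi.add_apply] at *
    omega
  have a1 := h.sixteen_le h1 hc
  have a2 := h.sixteen_le h2 hc'
  rw [h.norm_sub] at a1
  rw [h.norm_add] at a2
  exact Or.inr (Or.inr ⟨by omega, by omega, by omega⟩)

theorem IsRootless.card_orth_le (h : IsRootless B) (F : Finset (Fin 24 → ℤ))
    (h0 : ∀ x ∈ F, x ≠ 0) (ho : ∀ x ∈ F, ∀ y ∈ F, x ≠ y → x ⬝ᵥ (B *ᵥ y) = 0) : F.card ≤ 24 := by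
  have li : LinearIndependent ℤ (fun x : F => (x : Fin 24 → ℤ)) := by
    rw [Fintype.linearIndependent_iff]
    intro g hg i
    have hi := congrArg (fun v => v ⬝ᵥ (B *ᵥ (i : Fin 24 → ℤ))) hg
    simp only [zero_dotProduct] at hi
    rw [sum_dotProduct, Finset.sum_eq_single i] at hi
    · rw [smul_dotProduct, smul_eq_mul, mul_eq_zero] at hi
      exact hi.resolve_right (h.pos _ (h0 _ i.2)).ne'
    · intro j _ hj
      rw [smul_dotProduct, ho _ j.2 _ i.2 (fun e => hj (Subtype.ext e)), smul_zero]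
    · simp
  have := li.fintype_card_le_finrank
  simpa using this

/-- A set of vectors in which any two members are equal, opposite or orthogonal has at most 48. -/
theorem IsRootless.card_frame_le (h : IsRootless B) (S : Finset (Fin 24 → ℤ))
    (h0 : ∀ x ∈ S, x ≠ 0)
    (ho : ∀ x ∈ S, ∀ y ∈ S, y = x ∨ y = -x ∨ x ⬝ᵥ (B *ᵥ y) = 0) : S.card ≤ 48 := by
  classical
  let p : (Fin 24 → ℤ) → Prop := fun x => toLex (-x) < toLex x
  let F := (S ∪ S.image Neg.neg).filter p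
  have hmem : ∀ x ∈ F, p x ∧ (x ∈ S ∨ -x ∈ S) := by
    intro x hx
    obtain ⟨hx, hp⟩ := mem_filter.mp hx
    refine ⟨hp, (mem_union.mp hx).imp_right fun hx => ?_⟩
    obtain ⟨z, hz, rfl⟩ := mem_image.mp hx
    simpa using hz
  have hF : F.card ≤ 24 := by
    refine h.card_orth_le F (fun x hx => ?_) (fun x hx y hy hne => ?_)
    · rintro rfl
      have := (hmem _ hx).1
      simp only [p, neg_zero] at this
      exact lt_irrefl _ this
    · obtain ⟨px, hx⟩ := hmem x hx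
      obtain ⟨py, hy⟩ := hmem y hy
      have key : ∀ a ∈ S, ∀ b ∈ S, a ≠ b → a ≠ -b → a ⬝ᵥ (B *ᵥ b) = 0 := by
        intro a ha b hb n1 n2
        rcases ho a ha b hb with e | e | e
        · exact absurd e.symm n1
        · exact absurd (by simp [e]) n2
        · exact e
      have hne' : x ≠ -y := by
        rintro rfl
        simp only [p, neg_neg] at px py
        exact lt_asymm px py
      have hne2 : -x ≠ y := fun e => hne' (by rw [← e, neg_neg])
      rcases hx with hx | hx <;> rcases hy with hy | hy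
      · exact key x hx y hy hne hne'
      · simpa [mulVec_neg] using key x hx (-y) hy hne' (by simpa using hne)
      · simpa using key (-x) hx y hy hne2 (by simpa using hne)
      · simpa [mulVec_neg] using key (-x) hx (-y) hy (by simpa using hne) (by simpa using hne2)
  have hS : S ⊆ F ∪ F.image Neg.neg := by
    intro x hx
    have hne : toLex (-x) ≠ toLex x := by
      intro e
      have e' : -x = x := toLex.injective e
      exact h0 x hx (funext fun i => by
        have := congrFun e' i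
        simp only [Pi.neg_apply] at this
        simp only [Pi.zero_apply]; omega)
    rcases hne.lt_or_gt with hlt | hlt
    · exact mem_union_left _ (mem_filter.mpr ⟨mem_union_left _ hx, hlt⟩)
    · refine mem_union_right _ (mem_image.mpr ⟨-x, mem_filter.mpr
        ⟨mem_union_right _ (mem_image_of_mem _ hx), ?_⟩, neg_neg x⟩)
      show toLex (- -x) < toLex (-x)
      rw [neg_neg]; exact hlt
  calc S.card ≤ (F ∪ F.image Neg.neg).card := card_le_card hS
    _ ≤ F.card + (F.image Neg.neg).card := card_union_le _ _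
    _ ≤ 48 := by have := (card_image_le : (F.image Neg.neg).card ≤ F.card); omega

/-- Reduction modulo 2. -/
def mod2 (x : Fin 24 → ℤ) : Fin 24 → ZMod 2 := fun i => (x i : ZMod 2)

theorem mod2_eq_iff {x y : Fin 24 → ℤ} : mod2 x = mod2 y ↔ ∀ i, (2 : ℤ) ∣ (x - y) i := by
  simp only [funext_iff, mod2]
  refine forall_congr' fun i => ?_
  rw [ZMod.intCast_eq_intCast_iff_dvd_sub]
  simp only [Pi.sub_apply, Nat.cast_ofNat]
  exact dvd_sub_comm

theorem IsRootless.mod2_ne_zero (h : IsRootless B) {x : Fin 24 → ℤ} (hx : x ≠ 0)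
    (hq : x ⬝ᵥ (B *ᵥ x) ≤ 8) : mod2 x ≠ 0 := by
  intro h0
  have h0' : mod2 x = mod2 0 := by rw [h0]; ext i; simp [mod2]
  have := h.sixteen_le hx (by simpa using mod2_eq_iff.mp h0')
  omega

/-- With the three counts of the Leech lattice, each class of a norm 8 vector holds exactly 48 such
vectors and every class holds a vector of norm at most 8. -/
theorem IsRootless.frames (h : IsRootless B)
    (h4 : {x : Fin 24 → ℤ | x ⬝ᵥ (B *ᵥ x) = 4}.ncard = 196560)
    (h6 : {x : Fin 24 → ℤ | x ⬝ᵥ (B *ᵥ x) = 6}.ncard = 16773120)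
    (h8 : {x : Fin 24 → ℤ | x ⬝ᵥ (B *ᵥ x) = 8}.ncard = 398034000) :
    (∀ x : Fin 24 → ℤ, x ⬝ᵥ (B *ᵥ x) = 8 →
      {y : Fin 24 → ℤ | y ⬝ᵥ (B *ᵥ y) = 8 ∧ ∀ i, (2 : ℤ) ∣ (x - y) i}.ncard = 48) ∧
    ∀ x : Fin 24 → ℤ, ∃ y, y ⬝ᵥ (B *ᵥ y) ≤ 8 ∧ ∀ i, (2 : ℤ) ∣ (x - y) i := by
  classical
  have fin : ∀ {n : ℤ} {k : ℕ}, {x : Fin 24 → ℤ | x ⬝ᵥ (B *ᵥ x) = n}.ncard = k → k ≠ 0 →
      {x : Fin 24 → ℤ | x ⬝ᵥ (B *ᵥ x) = n}.Finite := fun e hk =>
    Set.finite_of_ncard_ne_zero (e ▸ hk)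
  let S4 := (fin h4 (by norm_num)).toFinset
  let S6 := (fin h6 (by norm_num)).toFinset
  let S8 := (fin h8 (by norm_num)).toFinset
  have c4 : S4.card = 196560 := by rw [← h4, Set.ncard_eq_toFinset_card _ (fin h4 (by norm_num))]
  have c6 : S6.card = 16773120 := by rw [← h6, Set.ncard_eq_toFinset_card _ (fin h6 (by norm_num))]
  have c8 : S8.card = 398034000 := by
    rw [← h8, Set.ncard_eq_toFinset_card _ (fin h8 (by norm_num))]
  have m4 : ∀ {x}, x ∈ S4 ↔ x ⬝ᵥ (B *ᵥ x) = 4 := by simp [S4]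
  have m6 : ∀ {x}, x ∈ S6 ↔ x ⬝ᵥ (B *ᵥ x) = 6 := by simp [S6]
  have m8 : ∀ {x}, x ∈ S8 ↔ x ⬝ᵥ (B *ᵥ x) = 8 := by simp [S8]
  have ne : ∀ {x : Fin 24 → ℤ} {n : ℤ}, x ⬝ᵥ (B *ᵥ x) = n → n ≠ 0 → x ≠ 0 := by
    rintro x n e hn rfl
    simp at e
    exact hn e.symm
  have pairbd : ∀ (S : Finset (Fin 24 → ℤ)) (n : ℤ), 0 < n → n < 8 →
      (∀ x ∈ S, x ⬝ᵥ (B *ᵥ x) = n) → S.card ≤ 2 * (S.image mod2).card := by
    intro S n hn0 hn8 hS
    refine card_le_mul_card_image S 2 fun c _ => ?_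
    rcases (S.filter fun x => mod2 x = c).eq_empty_or_nonempty with e | ⟨a, ha⟩
    · simp [e]
    · refine le_trans (card_le_card (t := {a, -a}) fun b hb => ?_) card_le_two
      obtain ⟨hbS, hbc⟩ := mem_filter.mp hb
      obtain ⟨haS, hac⟩ := mem_filter.mp ha
      rcases h.congr_cases (x := a) (y := b) (by rw [hS a haS]; omega) (by rw [hS b hbS]; omega)
        (mod2_eq_iff.mp (hac.trans hbc.symm)) with e | e | ⟨e, -, -⟩
      · simp [e]
      · simp [e]
      · rw [hS a haS] at e; omega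
  have b4 := pairbd S4 4 (by norm_num) (by norm_num) fun x hx => m4.mp hx
  have b6 := pairbd S6 6 (by norm_num) (by norm_num) fun x hx => m6.mp hx
  have bf : ∀ c ∈ S8.image mod2, (S8.filter fun x => mod2 x = c).card ≤ 48 := by
    intro c _
    refine h.card_frame_le _ (fun x hx => ne (m8.mp (mem_filter.mp hx).1) (by norm_num)) ?_
    intro x hx y hy
    obtain ⟨hxS, hxc⟩ := mem_filter.mp hx
    obtain ⟨hyS, hyc⟩ := mem_filter.mp hy
    rcases h.congr_cases (x := x) (y := y) (m8.mp hxS).le (m8.mp hyS).le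
      (mod2_eq_iff.mp (hxc.trans hyc.symm)) with e | e | ⟨-, -, e⟩
    · exact Or.inl e
    · exact Or.inr (Or.inl e)
    · exact Or.inr (Or.inr e)
  have b8 : S8.card ≤ 48 * (S8.image mod2).card := card_le_mul_card_image S8 48 bf
  have disj : ∀ (S T : Finset (Fin 24 → ℤ)) (m n : ℤ), m ≤ 8 → n ≤ 8 → m ≠ n →
      (∀ x ∈ S, x ⬝ᵥ (B *ᵥ x) = m) → (∀ x ∈ T, x ⬝ᵥ (B *ᵥ x) = n) →
      Disjoint (S.image mod2) (T.image mod2) := by
    intro S T m n hm hn hmn hS hT
    rw [Finset.disjoint_left]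
    intro c hc hc'
    obtain ⟨a, ha, rfl⟩ := mem_image.mp hc
    obtain ⟨b, hb, e⟩ := mem_image.mp hc'
    rcases h.congr_cases (x := a) (y := b) (by rw [hS a ha]; exact hm) (by rw [hT b hb]; exact hn)
      (mod2_eq_iff.mp e.symm) with r | r | ⟨r, r', -⟩
    · subst r; exact hmn ((hS _ ha).symm.trans (hT _ hb))
    · subst r
      have := hT _ hb
      simp [mulVec_neg, hS a ha] at this
      exact hmn this
    · exact hmn ((hS a ha).symm.trans (r.trans (r'.symm.trans (hT b hb))))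
  have d46 := disj S4 S6 4 6 (by norm_num) (by norm_num) (by norm_num)
    (fun x hx => m4.mp hx) (fun x hx => m6.mp hx)
  have d48 := disj S4 S8 4 8 (by norm_num) (by norm_num) (by norm_num)
    (fun x hx => m4.mp hx) (fun x hx => m8.mp hx)
  have d68 := disj S6 S8 6 8 (by norm_num) (by norm_num) (by norm_num)
    (fun x hx => m6.mp hx) (fun x hx => m8.mp hx)
  set U := S4.image mod2 ∪ S6.image mod2 ∪ S8.image mod2 with hU
  have hUsub : U ⊆ univ.erase 0 := by
    intro c hc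
    refine mem_erase.mpr ⟨?_, mem_univ _⟩
    simp only [hU, mem_union, mem_image] at hc
    rcases hc with (⟨x, hx, rfl⟩ | ⟨x, hx, rfl⟩) | ⟨x, hx, rfl⟩
    · exact h.mod2_ne_zero (ne (m4.mp hx) (by norm_num)) (by rw [m4.mp hx]; norm_num)
    · exact h.mod2_ne_zero (ne (m6.mp hx) (by norm_num)) (by rw [m6.mp hx]; norm_num)
    · exact h.mod2_ne_zero (ne (m8.mp hx) (by norm_num)) (m8.mp hx).le
  have huniv : (univ.erase (0 : Fin 24 → ZMod 2)).card = 16777215 := by
    rw [card_erase_of_mem (mem_univ _), card_univ, Fintype.card_fun, ZMod.card, Fintype.card_fin]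
    norm_num
  have hUcard : U.card = (S4.image mod2).card + (S6.image mod2).card + (S8.image mod2).card := by
    rw [hU, card_union_of_disjoint (disjoint_union_left.mpr ⟨d48, d68⟩),
      card_union_of_disjoint d46]
  have hle := card_le_card hUsub
  have e8 : (S8.image mod2).card = 8292375 := by omega
  have eU : U = univ.erase 0 := eq_of_subset_of_card_le hUsub (by omega)
  constructor
  · intro x hx
    have hset : {y : Fin 24 → ℤ | y ⬝ᵥ (B *ᵥ y) = 8 ∧ ∀ i, (2 : ℤ) ∣ (x - y) i} =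
        ↑(S8.filter fun y => mod2 y = mod2 x) := by
      ext y
      simp only [Set.mem_setOf_eq, coe_filter, m8, mod2_eq_iff, Pi.sub_apply, dvd_sub_comm]
    rw [hset, Set.ncard_coe_finset]
    by_contra hne
    have hcx : mod2 x ∈ S8.image mod2 := mem_image_of_mem _ (m8.mpr hx)
    have hlt : (S8.filter fun y => mod2 y = mod2 x).card < 48 := lt_of_le_of_ne (bf _ hcx) hne
    have hsum := card_eq_sum_card_image mod2 S8
    have : ∑ c ∈ S8.image mod2, (S8.filter fun y => mod2 y = c).card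
        < ∑ c ∈ S8.image mod2, 48 := sum_lt_sum bf ⟨_, hcx, hlt⟩
    rw [sum_const, smul_eq_mul, e8] at this
    omega
  · intro x
    by_cases hx0 : mod2 x = 0
    · exact ⟨0, by simp, mod2_eq_iff.mp (hx0.trans (by ext i; simp [mod2]))⟩
    have : mod2 x ∈ U := by rw [eU]; simp [hx0]
    simp only [hU, mem_union, mem_image] at this
    rcases this with (⟨y, hy, e⟩ | ⟨y, hy, e⟩) | ⟨y, hy, e⟩
    · exact ⟨y, by rw [m4.mp hy]; norm_num, mod2_eq_iff.mp e.symm⟩
    · exact ⟨y, by rw [m6.mp hy]; norm_num, mod2_eq_iff.mp e.symm⟩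
    · exact ⟨y, (m8.mp hy).le, mod2_eq_iff.mp e.symm⟩

end CfsgLib.Leech
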