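import Cfsg.Agent.Leech.Count
import Cfsg.Agent.Leech.Frame

/-!
A triangular basis of the lattice, its Gram matrix, the index in the integer vectors, and the classes
modulo twice the lattice.
-/

set_option autoImplicit false

namespace CfsgLib.Leech

open Cfsg CfsgLib.Mathieu Matrix

/-- A triangular basis, as coordinate lists. -/
def basisList : List (List ℤ) := [
  [1, 1, 1, 1, 1, 1, 1, 1, 1, 1, 1, 1, 1, 1, 1, 1, 1, 1, 1, 1, 1, 1, 1, -3],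
  [0, 2, 0, 0, 0, 0, 0, 0, 0, 0, 0, 0, 2, 2, 2, 2, 2, 0, 0, 2, 0, 0, 2, 0],
  [0, 0, 2, 0, 0, 0, 0, 0, 0, 0, 0, 0, 2, 2, 0, 2, 0, 0, 2, 0, 2, 0, 2, 2],
  [0, 0, 0, 2, 0, 0, 0, 0, 0, 0, 0, 0, 2, 2, 0, 0, 0, 2, 2, 2, 0, 2, 2, 0],
  [0, 0, 0, 0, 2, 0, 0, 0, 0, 0, 0, 0, 2, 2, 0, 0, 2, 2, 0, 2, 2, 0, 0, 2],
  [0, 0, 0, 0, 0, 2, 0, 0, 0, 0, 0, 0, 0, 2, 2, 0, 0, 2, 2, 0, 2, 2, 0, 2],
  [0, 0, 0, 0, 0, 0, 2, 0, 0, 0, 0, 0, 0, 0, 2, 2, 0, 0, 2, 2, 0, 2, 2, 2],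
  [0, 0, 0, 0, 0, 0, 0, 2, 0, 0, 0, 0, 2, 0, 2, 2, 0, 2, 2, 2, 2, 0, 0, 0],
  [0, 0, 0, 0, 0, 0, 0, 0, 2, 0, 0, 0, 0, 2, 0, 2, 2, 0, 2, 2, 2, 2, 0, 0],
  [0, 0, 0, 0, 0, 0, 0, 0, 0, 2, 0, 0, 0, 0, 2, 0, 2, 2, 0, 2, 2, 2, 2, 0],
  [0, 0, 0, 0, 0, 0, 0, 0, 0, 0, 2, 0, 2, 0, 2, 2, 2, 0, 0, 0, 2, 2, 0, 2],
  [0, 0, 0, 0, 0, 0, 0, 0, 0, 0, 0, 2, 0, 2, 0, 2, 2, 2, 0, 0, 0, 2, 2, 2],
  [0, 0, 0, 0, 0, 0, 0, 0, 0, 0, 0, 0, 4, 0, 0, 0, 0, 0, 0, 0, 0, 0, 0, 4],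
  [0, 0, 0, 0, 0, 0, 0, 0, 0, 0, 0, 0, 0, 4, 0, 0, 0, 0, 0, 0, 0, 0, 0, 4],
  [0, 0, 0, 0, 0, 0, 0, 0, 0, 0, 0, 0, 0, 0, 4, 0, 0, 0, 0, 0, 0, 0, 0, 4],
  [0, 0, 0, 0, 0, 0, 0, 0, 0, 0, 0, 0, 0, 0, 0, 4, 0, 0, 0, 0, 0, 0, 0, 4],
  [0, 0, 0, 0, 0, 0, 0, 0, 0, 0, 0, 0, 0, 0, 0, 0, 4, 0, 0, 0, 0, 0, 0, 4],
  [0, 0, 0, 0, 0, 0, 0, 0, 0, 0, 0, 0, 0, 0, 0, 0, 0, 4, 0, 0, 0, 0, 0, 4],
  [0, 0, 0, 0, 0, 0, 0, 0, 0, 0, 0, 0, 0, 0, 0, 0, 0, 0, 4, 0, 0, 0, 0, 4],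
  [0, 0, 0, 0, 0, 0, 0, 0, 0, 0, 0, 0, 0, 0, 0, 0, 0, 0, 0, 4, 0, 0, 0, 4],
  [0, 0, 0, 0, 0, 0, 0, 0, 0, 0, 0, 0, 0, 0, 0, 0, 0, 0, 0, 0, 4, 0, 0, 4],
  [0, 0, 0, 0, 0, 0, 0, 0, 0, 0, 0, 0, 0, 0, 0, 0, 0, 0, 0, 0, 0, 4, 0, 4],
  [0, 0, 0, 0, 0, 0, 0, 0, 0, 0, 0, 0, 0, 0, 0, 0, 0, 0, 0, 0, 0, 0, 4, 4],
  [0, 0, 0, 0, 0, 0, 0, 0, 0, 0, 0, 0, 0, 0, 0, 0, 0, 0, 0, 0, 0, 0, 0, 8]]

/-- Coordinates of eight times each unit vector. -/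
def eightCoords : List (List ℤ) := [
  [8, -4, -4, -4, -4, -4, -4, -4, -4, -4, -4, -4, 10, 12, 10, 12, 10, 10, 10, 12, 12, 12, 10, -51],
  [0, 4, 0, 0, 0, 0, 0, 0, 0, 0, 0, 0, -2, -2, -2, -2, -2, 0, 0, -2, 0, 0, -2, 7],
  [0, 0, 4, 0, 0, 0, 0, 0, 0, 0, 0, 0, -2, -2, 0, -2, 0, 0, -2, 0, -2, 0, -2, 5],
  [0, 0, 0, 4, 0, 0, 0, 0, 0, 0, 0, 0, -2, -2, 0, 0, 0, -2, -2, -2, 0, -2, -2, 7],
  [0, 0, 0, 0, 4, 0, 0, 0, 0, 0, 0, 0, -2, -2, 0, 0, -2, -2, 0, -2, -2, 0, 0, 5],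
  [0, 0, 0, 0, 0, 4, 0, 0, 0, 0, 0, 0, 0, -2, -2, 0, 0, -2, -2, 0, -2, -2, 0, 5],
  [0, 0, 0, 0, 0, 0, 4, 0, 0, 0, 0, 0, 0, 0, -2, -2, 0, 0, -2, -2, 0, -2, -2, 5],
  [0, 0, 0, 0, 0, 0, 0, 4, 0, 0, 0, 0, -2, 0, -2, -2, 0, -2, -2, -2, -2, 0, 0, 7],
  [0, 0, 0, 0, 0, 0, 0, 0, 4, 0, 0, 0, 0, -2, 0, -2, -2, 0, -2, -2, -2, -2, 0, 7],
  [0, 0, 0, 0, 0, 0, 0, 0, 0, 4, 0, 0, 0, 0, -2, 0, -2, -2, 0, -2, -2, -2, -2, 7],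
  [0, 0, 0, 0, 0, 0, 0, 0, 0, 0, 4, 0, -2, 0, -2, -2, -2, 0, 0, 0, -2, -2, 0, 5],
  [0, 0, 0, 0, 0, 0, 0, 0, 0, 0, 0, 4, 0, -2, 0, -2, -2, -2, 0, 0, 0, -2, -2, 5],
  [0, 0, 0, 0, 0, 0, 0, 0, 0, 0, 0, 0, 2, 0, 0, 0, 0, 0, 0, 0, 0, 0, 0, -1],
  [0, 0, 0, 0, 0, 0, 0, 0, 0, 0, 0, 0, 0, 2, 0, 0, 0, 0, 0, 0, 0, 0, 0, -1],
  [0, 0, 0, 0, 0, 0, 0, 0, 0, 0, 0, 0, 0, 0, 2, 0, 0, 0, 0, 0, 0, 0, 0, -1],
  [0, 0, 0, 0, 0, 0, 0, 0, 0, 0, 0, 0, 0, 0, 0, 2, 0, 0, 0, 0, 0, 0, 0, -1],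
  [0, 0, 0, 0, 0, 0, 0, 0, 0, 0, 0, 0, 0, 0, 0, 0, 2, 0, 0, 0, 0, 0, 0, -1],
  [0, 0, 0, 0, 0, 0, 0, 0, 0, 0, 0, 0, 0, 0, 0, 0, 0, 2, 0, 0, 0, 0, 0, -1],
  [0, 0, 0, 0, 0, 0, 0, 0, 0, 0, 0, 0, 0, 0, 0, 0, 0, 0, 2, 0, 0, 0, 0, -1],
  [0, 0, 0, 0, 0, 0, 0, 0, 0, 0, 0, 0, 0, 0, 0, 0, 0, 0, 0, 2, 0, 0, 0, -1],
  [0, 0, 0, 0, 0, 0, 0, 0, 0, 0, 0, 0, 0, 0, 0, 0, 0, 0, 0, 0, 2, 0, 0, -1],
  [0, 0, 0, 0, 0, 0, 0, 0, 0, 0, 0, 0, 0, 0, 0, 0, 0, 0, 0, 0, 0, 2, 0, -1],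
  [0, 0, 0, 0, 0, 0, 0, 0, 0, 0, 0, 0, 0, 0, 0, 0, 0, 0, 0, 0, 0, 0, 2, -1],
  [0, 0, 0, 0, 0, 0, 0, 0, 0, 0, 0, 0, 0, 0, 0, 0, 0, 0, 0, 0, 0, 0, 0, 1]]

set_option maxHeartbeats 1000000 in
/-- Coordinates of the generators. -/
def genCoords : List (List ℤ) := [
  [1, 0, 0, 0, 0, 0, 0, 0, 0, 0, 0, 0, 0, 0, 0, 0, 0, 0, 0, 0, 0, 0, 0, 0],
  [2, -1, -1, -1, -1, -1, -1, -1, -1, -1, -1, -1, 3, 3, 3, 3, 3, 3, 3, 3, 3, 3, 3, -14],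
  [0, 1, 0, 0, 0, 0, 0, 0, 0, 0, 0, 0, 0, 0, 0, 0, 0, 0, 0, 0, 0, 0, 0, 0],
  [0, 0, 1, 0, 0, 0, 0, 0, 0, 0, 0, 0, 0, 0, 0, 0, 0, 0, 0, 0, 0, 0, 0, 0],
  [0, 0, 0, 1, 0, 0, 0, 0, 0, 0, 0, 0, 0, 0, 0, 0, 0, 0, 0, 0, 0, 0, 0, 0],
  [0, 0, 0, 0, 1, 0, 0, 0, 0, 0, 0, 0, 0, 0, 0, 0, 0, 0, 0, 0, 0, 0, 0, 0],
  [0, 0, 0, 0, 0, 1, 0, 0, 0, 0, 0, 0, 0, 0, 0, 0, 0, 0, 0, 0, 0, 0, 0, 0],
  [0, 0, 0, 0, 0, 0, 1, 0, 0, 0, 0, 0, 0, 0, 0, 0, 0, 0, 0, 0, 0, 0, 0, 0],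
  [0, 0, 0, 0, 0, 0, 0, 1, 0, 0, 0, 0, 0, 0, 0, 0, 0, 0, 0, 0, 0, 0, 0, 0],
  [0, 0, 0, 0, 0, 0, 0, 0, 1, 0, 0, 0, 0, 0, 0, 0, 0, 0, 0, 0, 0, 0, 0, 0],
  [0, 0, 0, 0, 0, 0, 0, 0, 0, 1, 0, 0, 0, 0, 0, 0, 0, 0, 0, 0, 0, 0, 0, 0],
  [0, 0, 0, 0, 0, 0, 0, 0, 0, 0, 1, 0, 0, 0, 0, 0, 0, 0, 0, 0, 0, 0, 0, 0],
  [0, 0, 0, 0, 0, 0, 0, 0, 0, 0, 0, 1, 0, 0, 0, 0, 0, 0, 0, 0, 0, 0, 0, 0],
  [4, -2, -2, -2, -2, -2, -2, -2, -2, -2, -2, -2, 5, 6, 5, 6, 5, 5, 5, 6, 6, 6, 5, -25],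
  [0, 2, 0, 0, 0, 0, 0, 0, 0, 0, 0, 0, -1, -1, -1, -1, -1, 0, 0, -1, 0, 0, -1, 4],
  [0, 0, 2, 0, 0, 0, 0, 0, 0, 0, 0, 0, -1, -1, 0, -1, 0, 0, -1, 0, -1, 0, -1, 3],
  [0, 0, 0, 2, 0, 0, 0, 0, 0, 0, 0, 0, -1, -1, 0, 0, 0, -1, -1, -1, 0, -1, -1, 4],
  [0, 0, 0, 0, 2, 0, 0, 0, 0, 0, 0, 0, -1, -1, 0, 0, -1, -1, 0, -1, -1, 0, 0, 3],
  [0, 0, 0, 0, 0, 2, 0, 0, 0, 0, 0, 0, 0, -1, -1, 0, 0, -1, -1, 0, -1, -1, 0, 3],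
  [0, 0, 0, 0, 0, 0, 2, 0, 0, 0, 0, 0, 0, 0, -1, -1, 0, 0, -1, -1, 0, -1, -1, 3],
  [0, 0, 0, 0, 0, 0, 0, 2, 0, 0, 0, 0, -1, 0, -1, -1, 0, -1, -1, -1, -1, 0, 0, 4],
  [0, 0, 0, 0, 0, 0, 0, 0, 2, 0, 0, 0, 0, -1, 0, -1, -1, 0, -1, -1, -1, -1, 0, 4],
  [0, 0, 0, 0, 0, 0, 0, 0, 0, 2, 0, 0, 0, 0, -1, 0, -1, -1, 0, -1, -1, -1, -1, 4],
  [0, 0, 0, 0, 0, 0, 0, 0, 0, 0, 2, 0, -1, 0, -1, -1, -1, 0, 0, 0, -1, -1, 0, 3],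
  [0, 0, 0, 0, 0, 0, 0, 0, 0, 0, 0, 2, 0, -1, 0, -1, -1, -1, 0, 0, 0, -1, -1, 3],
  [0, 0, 0, 0, 0, 0, 0, 0, 0, 0, 0, 0, 1, 0, 0, 0, 0, 0, 0, 0, 0, 0, 0, 0],
  [0, 0, 0, 0, 0, 0, 0, 0, 0, 0, 0, 0, 0, 1, 0, 0, 0, 0, 0, 0, 0, 0, 0, 0],
  [0, 0, 0, 0, 0, 0, 0, 0, 0, 0, 0, 0, 0, 0, 1, 0, 0, 0, 0, 0, 0, 0, 0, 0],
  [0, 0, 0, 0, 0, 0, 0, 0, 0, 0, 0, 0, 0, 0, 0, 1, 0, 0, 0, 0, 0, 0, 0, 0],
  [0, 0, 0, 0, 0, 0, 0, 0, 0, 0, 0, 0, 0, 0, 0, 0, 1, 0, 0, 0, 0, 0, 0, 0],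
  [0, 0, 0, 0, 0, 0, 0, 0, 0, 0, 0, 0, 0, 0, 0, 0, 0, 1, 0, 0, 0, 0, 0, 0],
  [0, 0, 0, 0, 0, 0, 0, 0, 0, 0, 0, 0, 0, 0, 0, 0, 0, 0, 1, 0, 0, 0, 0, 0],
  [0, 0, 0, 0, 0, 0, 0, 0, 0, 0, 0, 0, 0, 0, 0, 0, 0, 0, 0, 1, 0, 0, 0, 0],
  [0, 0, 0, 0, 0, 0, 0, 0, 0, 0, 0, 0, 0, 0, 0, 0, 0, 0, 0, 0, 1, 0, 0, 0],
  [0, 0, 0, 0, 0, 0, 0, 0, 0, 0, 0, 0, 0, 0, 0, 0, 0, 0, 0, 0, 0, 1, 0, 0],
  [0, 0, 0, 0, 0, 0, 0, 0, 0, 0, 0, 0, 0, 0, 0, 0, 0, 0, 0, 0, 0, 0, 1, 0],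
  [4, -2, -2, -2, -2, -2, -2, -2, -2, -2, -2, -2, 5, 6, 5, 6, 5, 5, 5, 6, 6, 6, 5, -26],
  [0, 2, 0, 0, 0, 0, 0, 0, 0, 0, 0, 0, -1, -1, -1, -1, -1, 0, 0, -1, 0, 0, -1, 3],
  [0, 0, 2, 0, 0, 0, 0, 0, 0, 0, 0, 0, -1, -1, 0, -1, 0, 0, -1, 0, -1, 0, -1, 2],
  [0, 0, 0, 2, 0, 0, 0, 0, 0, 0, 0, 0, -1, -1, 0, 0, 0, -1, -1, -1, 0, -1, -1, 3],
  [0, 0, 0, 0, 2, 0, 0, 0, 0, 0, 0, 0, -1, -1, 0, 0, -1, -1, 0, -1, -1, 0, 0, 2],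
  [0, 0, 0, 0, 0, 2, 0, 0, 0, 0, 0, 0, 0, -1, -1, 0, 0, -1, -1, 0, -1, -1, 0, 2],
  [0, 0, 0, 0, 0, 0, 2, 0, 0, 0, 0, 0, 0, 0, -1, -1, 0, 0, -1, -1, 0, -1, -1, 2],
  [0, 0, 0, 0, 0, 0, 0, 2, 0, 0, 0, 0, -1, 0, -1, -1, 0, -1, -1, -1, -1, 0, 0, 3],
  [0, 0, 0, 0, 0, 0, 0, 0, 2, 0, 0, 0, 0, -1, 0, -1, -1, 0, -1, -1, -1, -1, 0, 3],
  [0, 0, 0, 0, 0, 0, 0, 0, 0, 2, 0, 0, 0, 0, -1, 0, -1, -1, 0, -1, -1, -1, -1, 3],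
  [0, 0, 0, 0, 0, 0, 0, 0, 0, 0, 2, 0, -1, 0, -1, -1, -1, 0, 0, 0, -1, -1, 0, 2],
  [0, 0, 0, 0, 0, 0, 0, 0, 0, 0, 0, 2, 0, -1, 0, -1, -1, -1, 0, 0, 0, -1, -1, 2],
  [0, 0, 0, 0, 0, 0, 0, 0, 0, 0, 0, 0, 1, 0, 0, 0, 0, 0, 0, 0, 0, 0, 0, -1],
  [0, 0, 0, 0, 0, 0, 0, 0, 0, 0, 0, 0, 0, 1, 0, 0, 0, 0, 0, 0, 0, 0, 0, -1],
  [0, 0, 0, 0, 0, 0, 0, 0, 0, 0, 0, 0, 0, 0, 1, 0, 0, 0, 0, 0, 0, 0, 0, -1],
  [0, 0, 0, 0, 0, 0, 0, 0, 0, 0, 0, 0, 0, 0, 0, 1, 0, 0, 0, 0, 0, 0, 0, -1],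
  [0, 0, 0, 0, 0, 0, 0, 0, 0, 0, 0, 0, 0, 0, 0, 0, 1, 0, 0, 0, 0, 0, 0, -1],
  [0, 0, 0, 0, 0, 0, 0, 0, 0, 0, 0, 0, 0, 0, 0, 0, 0, 1, 0, 0, 0, 0, 0, -1],
  [0, 0, 0, 0, 0, 0, 0, 0, 0, 0, 0, 0, 0, 0, 0, 0, 0, 0, 1, 0, 0, 0, 0, -1],
  [0, 0, 0, 0, 0, 0, 0, 0, 0, 0, 0, 0, 0, 0, 0, 0, 0, 0, 0, 1, 0, 0, 0, -1],
  [0, 0, 0, 0, 0, 0, 0, 0, 0, 0, 0, 0, 0, 0, 0, 0, 0, 0, 0, 0, 1, 0, 0, -1],
  [0, 0, 0, 0, 0, 0, 0, 0, 0, 0, 0, 0, 0, 0, 0, 0, 0, 0, 0, 0, 0, 1, 0, -1],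
  [0, 0, 0, 0, 0, 0, 0, 0, 0, 0, 0, 0, 0, 0, 0, 0, 0, 0, 0, 0, 0, 0, 1, -1]]

/-- The basis vectors. -/
def basisVec (k : Fin 24) : GolayPt → ℤ := vec (basisList.getD k.val [])

/-- The combination of the basis with given coefficients. -/
def linComb : (Fin 24 → ℤ) →+ (GolayPt → ℤ) where
  toFun a := ∑ k, a k • basisVec k
  map_zero' := by simp
  map_add' a b := by simp [add_smul, Finset.sum_add_distrib]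

theorem linComb_apply (a : Fin 24 → ℤ) : linComb a = ∑ k, a k • basisVec k := rfl

/-- Integer coefficients from a list. -/
def coefOf (l : List ℤ) : Fin 24 → ℤ := fun k => l.getD k.val 0

theorem basisVec_mem : ∀ k, basisVec k ∈ leechLattice := fun k =>
  leechB_iff.mp ((by decide +kernel : ∀ k, leechB (basisVec k) = true) k)

theorem linComb_mem (a : Fin 24 → ℤ) : linComb a ∈ leechLattice := by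
  rw [linComb_apply]
  exact sum_mem fun k _ => zsmul_mem (basisVec_mem k) _

theorem genSet_range : ∀ x ∈ genSet, ∃ a, linComb a = x := by
  have h1 : ∀ p, linComb (coefOf (genCoords.getD 0 [])) p = oddVec p := by decide +kernel
  have h2 : ∀ i : Fin 12, ∀ p,
      linComb (coefOf (genCoords.getD (i.val + 1) [])) p = twiceMask (codeRows.getD i.val 0) p := by
    decide +kernel
  have h3 : ∀ q : ZMod 23, ∀ p,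
      linComb (coefOf (genCoords.getD (13 + q.val) [])) p = pairVec q 1 p := by decide +kernel
  have h4 : ∀ q : ZMod 23, ∀ p,
      linComb (coefOf (genCoords.getD (36 + q.val) [])) p = pairVec q (-1) p := by decide +kernel
  rintro x ((rfl | ⟨r, hr, rfl⟩) | ⟨q, t, rfl | rfl, rfl⟩)
  · exact ⟨_, funext h1⟩
  · obtain ⟨i, hi, rfl⟩ := List.getElem_of_mem hr
    refine ⟨_, funext fun p => (h2 ⟨i, hi⟩ p).trans ?_⟩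
    rw [List.getD_eq_getElem?_getD, List.getElem?_eq_getElem hi, Option.getD_some]
  · exact ⟨_, funext (h3 q)⟩
  · exact ⟨_, funext (h4 q)⟩

theorem range_linComb : linComb.range = leechLattice := by
  refine le_antisymm ?_ ?_
  · rintro _ ⟨a, rfl⟩; exact linComb_mem a
  · intro x hx
    exact (AddSubgroup.closure_le _).mpr (fun y hy => genSet_range y hy) (mem_closure_genSet hx)

/-- Eight times the coordinates of a vector. -/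
def eightCo (x : GolayPt → ℤ) : Fin 24 → ℤ :=
  fun l => ∑ p, x p * (eightCoords.getD (idx p) []).getD l.val 0

theorem eightCo_linComb (a : Fin 24 → ℤ) : eightCo (linComb a) = (8 : ℤ) • a := by
  have h : ∀ k l : Fin 24, (∑ p, basisVec k p * (eightCoords.getD (idx p) []).getD l.val 0) =
      if k = l then 8 else 0 := by decide +kernel
  funext l
  simp only [eightCo, linComb_apply, Finset.sum_apply, Pi.smul_apply, smul_eq_mul, Finset.sum_mul,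
    mul_assoc]
  rw [Finset.sum_comm]
  simp only [← Finset.mul_sum, h, mul_ite, mul_zero, Finset.sum_ite_eq', Finset.mem_univ, if_true]
  ring

theorem linComb_injective : Function.Injective linComb := fun a b e => by
  have := congrArg eightCo e
  rw [eightCo_linComb, eightCo_linComb] at this
  funext k
  have := congrFun this k
  simp only [Pi.smul_apply, smul_eq_mul] at this
  omega

/-- The coordinate isomorphism. -/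
noncomputable def coordEquiv : (Fin 24 → ℤ) ≃+ leechLattice :=
  AddEquiv.ofBijective (linComb.codRestrict leechLattice linComb_mem)
    ⟨fun _ _ e => linComb_injective (congrArg Subtype.val e), fun x => by
      have hx : (x : GolayPt → ℤ) ∈ linComb.range := range_linComb.symm ▸ x.2
      obtain ⟨a, ha⟩ := hx
      exact ⟨a, Subtype.ext ha⟩⟩

theorem coordEquiv_coe (a : Fin 24 → ℤ) : (coordEquiv a : GolayPt → ℤ) = linComb a := rfl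

theorem exists_linComb {x : GolayPt → ℤ} (hx : x ∈ leechLattice) : ∃ a, linComb a = x := by
  rw [← range_linComb] at hx
  exact hx

/-- The Gram matrix in the customary normalisation. -/
def gram : Matrix (Fin 24) (Fin 24) ℤ := Matrix.of fun k l => dotInt (basisVec k) (basisVec l) / 8

theorem dotInt_linComb (a b : Fin 24 → ℤ) :
    dotInt (linComb a) (linComb b) = 8 * (a ⬝ᵥ (gram *ᵥ b)) := by
  have h : ∀ k l, dotInt (basisVec k) (basisVec l) = 8 * gram k l := by decide +kernel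
  simp only [dotProduct, mulVec, Finset.mul_sum]
  calc dotInt (linComb a) (linComb b)
      = ∑ p, ∑ k, ∑ l, a k * (b l * (basisVec k p * basisVec l p)) := by
        simp only [dotInt, linComb_apply, Finset.sum_apply, Pi.smul_apply, smul_eq_mul,
          Finset.sum_mul_sum]
        exact Finset.sum_congr rfl fun p _ => Finset.sum_congr rfl fun k _ =>
          Finset.sum_congr rfl fun l _ => by ring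
    _ = ∑ k, ∑ l, a k * (b l * dotInt (basisVec k) (basisVec l)) := by
        rw [Finset.sum_comm]
        refine Finset.sum_congr rfl fun k _ => ?_
        rw [Finset.sum_comm]
        simp only [dotInt, Finset.mul_sum]
    _ = _ := Finset.sum_congr rfl fun k _ => Finset.sum_congr rfl fun l _ => by rw [h]; ring

theorem sqNorm_linComb (a : Fin 24 → ℤ) : sqNorm (linComb a) = 8 * (a ⬝ᵥ (gram *ᵥ a)) := by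
  rw [← dotInt_linComb]
  simp only [sqNorm, dotInt, sq]

theorem gram_isRootless : IsRootless gram where
  symm := by
    ext k l
    simp only [transpose_apply, CfsgLib.Leech.gram, Matrix.of_apply, dotInt, mul_comm]
  pos a ha := by
    have h := min_norm (linComb_mem a) fun e => ha (linComb_injective (e.trans (map_zero linComb).symm))
    rw [sqNorm_linComb] at h
    omega
  even a := by
    obtain ⟨t, ht⟩ := sixteen_dvd (linComb_mem a)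
    rw [sqNorm_linComb] at ht
    exact ⟨t, by omega⟩
  no2 a h := by
    have h' := sqNorm_linComb a
    rw [h] at h'
    have hne : linComb a ≠ 0 := by intro e; rw [e] at h'; simp [sqNorm] at h'
    have := min_norm (linComb_mem a) hne
    omega

theorem ncard_gram (n : ℤ) : {a : Fin 24 → ℤ | a ⬝ᵥ (gram *ᵥ a) = n}.ncard =
    {x : GolayPt → ℤ | x ∈ leechLattice ∧ sqNorm x = 8 * n}.ncard := by
  rw [← Set.ncard_image_of_injective _ linComb_injective]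
  congr 1
  ext x
  simp only [Set.mem_image, Set.mem_setOf_eq]
  constructor
  · rintro ⟨a, ha, rfl⟩
    exact ⟨linComb_mem a, by rw [sqNorm_linComb, ha]⟩
  · rintro ⟨hx, hn⟩
    obtain ⟨a, rfl⟩ := exists_linComb hx
    rw [sqNorm_linComb] at hn
    exact ⟨a, by omega, rfl⟩

theorem gram_frames :
    (∀ x : Fin 24 → ℤ, x ⬝ᵥ (gram *ᵥ x) = 8 →
      {y : Fin 24 → ℤ | y ⬝ᵥ (gram *ᵥ y) = 8 ∧ ∀ i, (2 : ℤ) ∣ (x - y) i}.ncard = 48) ∧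
    ∀ x : Fin 24 → ℤ, ∃ y, y ⬝ᵥ (gram *ᵥ y) ≤ 8 ∧ ∀ i, (2 : ℤ) ∣ (x - y) i :=
  gram_isRootless.frames (by rw [ncard_gram]; exact ncard_norm32)
    (by rw [ncard_gram]; exact ncard_norm48) (by rw [ncard_gram]; exact ncard_norm64)

theorem congr_two_iff (a b : Fin 24 → ℤ) :
    (∃ z ∈ leechLattice, linComb a - linComb b = 2 • z) ↔ ∀ i, (2 : ℤ) ∣ (a - b) i := by
  constructor
  · rintro ⟨z, hz, e⟩ i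
    obtain ⟨c, rfl⟩ := exists_linComb hz
    rw [← map_sub, ← map_nsmul] at e
    rw [linComb_injective e]
    exact ⟨c i, by simp⟩
  · intro h
    choose c hc using h
    refine ⟨linComb c, linComb_mem c, ?_⟩
    rw [← map_sub, ← map_nsmul]
    exact congrArg linComb (funext fun i => by simpa using hc i)

/-- Each cross through a norm 64 vector has 48 members. -/
theorem cross_ncard {x : GolayPt → ℤ} (hx : x ∈ leechLattice) (hn : sqNorm x = 64) :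
    (cross x).ncard = 48 := by
  obtain ⟨a, rfl⟩ := exists_linComb hx
  rw [sqNorm_linComb] at hn
  rw [← gram_frames.1 a (by omega), ← Set.ncard_image_of_injective _ linComb_injective]
  congr 1
  ext y
  simp only [cross, Set.mem_setOf_eq, Set.mem_image]
  constructor
  · rintro ⟨hy, hyn, hc⟩
    obtain ⟨b, rfl⟩ := exists_linComb hy
    rw [sqNorm_linComb, sqNorm_linComb] at hyn
    exact ⟨b, ⟨by omega, (congr_two_iff a b).mp hc⟩, rfl⟩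
  · rintro ⟨b, ⟨hb, hc⟩, rfl⟩
    exact ⟨linComb_mem b, by rw [sqNorm_linComb, sqNorm_linComb, hb]; omega, (congr_two_iff a b).mpr hc⟩

/-- Every class modulo twice the lattice holds a vector of norm at most 64. -/
theorem exists_short_congr {x : GolayPt → ℤ} (hx : x ∈ leechLattice) :
    ∃ y ∈ leechLattice, sqNorm y ≤ 64 ∧ ∃ z ∈ leechLattice, x - y = 2 • z := by
  obtain ⟨a, rfl⟩ := exists_linComb hx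
  obtain ⟨b, hb, hc⟩ := gram_frames.2 a
  exact ⟨linComb b, linComb_mem b, by rw [sqNorm_linComb]; omega, (congr_two_iff a b).mpr hc⟩

theorem leech_index : leechLattice.index = 2 ^ 36 := by
  let bE : Module.Basis (Fin 24) ℤ (GolayPt → ℤ) := (Pi.basisFun ℤ GolayPt).reindex enc
  let bN : Module.Basis (Fin 24) ℤ leechLattice :=
    Module.Basis.ofEquivFun coordEquiv.symm.toIntLinearEquiv
  rw [AddSubgroup.index_eq_natAbs_det bE leechLattice bN, Module.Basis.det_apply]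
  have hbN : ∀ k, (bN k : GolayPt → ℤ) = basisVec k := fun k => by
    simp only [bN, Module.Basis.coe_ofEquivFun]
    show (coordEquiv (Pi.single k 1) : GolayPt → ℤ) = _
    rw [coordEquiv_coe, linComb_apply, Finset.sum_eq_single k]
    · simp
    · intro j _ hj; simp [hj]
    · simp
  have e : bE.toMatrix (fun k => (bN k : GolayPt → ℤ)) =
      Matrix.of fun i k => basisVec k (pt i.val) := by
    ext i k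
    simp only [bE, Module.Basis.toMatrix_apply, Module.Basis.repr_reindex,
      Finsupp.mapDomain_equiv_apply, Pi.basisFun_repr, hbN]
    rfl
  have htri : ∀ k i : Fin 24, i < k → basisVec k (pt i.val) = 0 := by decide +kernel
  rw [e, Matrix.det_of_isLowerTriangular]
  · exact (by decide +kernel : (∏ i : Fin 24, basisVec i (pt i.val)).natAbs = 2 ^ 36)
  · intro i j hij
    exact htri j i hij

end CfsgLib.Leech
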