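import Cfsg.Agent.Leech.Orbits
import Cfsg.Agent.Leech.LatticeBasis

/-!
The stabiliser of the standard cross, the order and the centre of `Cfsg.Co0`.
-/

set_option autoImplicit false

namespace CfsgLib.Leech

open Cfsg CfsgLib.Mathieu
open scoped Pointwise

/-- Eight times a unit vector. -/
def eight (p : GolayPt) : GolayPt → ℤ := Pi.single p 8

theorem eight_mem (p : GolayPt) : eight p ∈ leechLattice :=
  leechB_iff.mp ((by decide +kernel : ∀ p, leechB (eight p) = true) p)

theorem sqNorm_eight (p : GolayPt) : sqNorm (eight p) = 64 :=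
  (by decide +kernel : ∀ p, sqNorm (eight p) = 64) p

/-- Eight times a unit vector in the lattice. -/
def eightL (p : GolayPt) : leechLattice := ⟨eight p, eight_mem p⟩

theorem mem_stdCross_iff {y : GolayPt → ℤ} :
    y ∈ stdCross ↔ ∃ p, y = eight p ∨ y = -eight p := by
  constructor
  · rintro ⟨p, s, rfl | rfl, rfl⟩
    · exact ⟨p, Or.inl rfl⟩
    · exact ⟨p, Or.inr (by rw [eight, ← Pi.single_neg])⟩
  · rintro ⟨p, rfl | rfl⟩
    · exact ⟨p, 8, Or.inl rfl, rfl⟩
    · exact ⟨p, -8, Or.inr rfl, by rw [eight, ← Pi.single_neg]⟩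

theorem stdCross_eq_cross : stdCross = cross (eight none) := by
  have hsub : stdCross ⊆ cross (eight none) := by
    intro y hy
    have h1 : ∀ p, leechB (fun q => (eight none q - eight p q) / 2) = true ∧
        leechB (fun q => (eight none q + eight p q) / 2) = true := by decide +kernel
    have h2 : ∀ p q, (eight none q - eight p q) % 2 = 0 ∧ (eight none q + eight p q) % 2 = 0 := by
      decide +kernel
    obtain ⟨p, rfl | rfl⟩ := mem_stdCross_iff.mp hy
    · refine ⟨eight_mem p, by rw [sqNorm_eight, sqNorm_eight],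
        ⟨_, leechB_iff.mp (h1 p).1, funext fun q => ?_⟩⟩
      have := (h2 p q).1
      simp only [Pi.sub_apply, Pi.smul_apply, nsmul_eq_mul, Nat.cast_ofNat]
      omega
    · refine ⟨neg_mem (eight_mem p), ?_, ⟨_, leechB_iff.mp (h1 p).2, funext fun q => ?_⟩⟩
      · rw [sqNorm_eight none, ← sqNorm_eight p]
        simp [sqNorm]
      · have := (h2 p q).2
        simp only [Pi.sub_apply, Pi.neg_apply, Pi.smul_apply, nsmul_eq_mul, Nat.cast_ofNat]
        omega
  have h48 := cross_ncard (eight_mem none) (sqNorm_eight none)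
  refine Set.eq_of_subset_of_ncard_le hsub ?_ (Set.finite_of_ncard_ne_zero (by rw [h48]; norm_num))
  rw [h48]
  classical
  let L : List (GolayPt → ℤ) :=
    ((List.range 24).map fun i => eight (pt i)) ++ ((List.range 24).map fun i => -eight (pt i))
  have hL : stdCross = ↑L.toFinset := by
    ext y
    simp only [mem_stdCross_iff, L, List.coe_toFinset, Set.mem_setOf_eq, List.mem_append, List.mem_map,
      List.mem_range]
    constructor
    · rintro ⟨p, rfl | rfl⟩
      · exact Or.inl ⟨idx p, idx_lt p, by rw [pt_idx]⟩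
      · exact Or.inr ⟨idx p, idx_lt p, by rw [pt_idx]⟩
    · rintro (⟨i, -, rfl⟩ | ⟨i, -, rfl⟩)
      · exact ⟨_, Or.inl rfl⟩
      · exact ⟨_, Or.inr rfl⟩
  have hnd : (((List.range 24).map fun i => toList (eight (pt i))) ++
      ((List.range 24).map fun i => toList (-eight (pt i)))).Nodup := by decide +kernel
  have hndL : L.Nodup := by
    refine List.Nodup.of_map toList ?_
    simpa [L, List.map_map, Function.comp_def] using hnd
  rw [hL, Set.ncard_coe_finset, List.toFinset_card_of_nodup hndL]
  simp [L]

/-- A member preserves the standard cross. -/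
def PreservesCross (g : Co0) : Prop :=
  ∀ v : leechLattice, (v : GolayPt → ℤ) ∈ stdCross →
    ((g • v : leechLattice) : GolayPt → ℤ) ∈ stdCross

theorem preservesCross_of_mem {g : Co0} {q : GolayPt}
    (h : ((g • eightL q : leechLattice) : GolayPt → ℤ) ∈ stdCross) : PreservesCross g := by
  have hcong : ∀ y ∈ stdCross, ∀ y' ∈ stdCross, ∃ z ∈ leechLattice, y - y' = 2 • z := by
    intro y hy y' hy'
    rw [stdCross_eq_cross] at hy hy'
    obtain ⟨-, -, a, ha, e⟩ := hy
    obtain ⟨-, -, b, hb, e'⟩ := hy'
    exact ⟨b - a, sub_mem hb ha, by rw [smul_sub, ← e, ← e']; abel⟩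
  intro v hv
  obtain ⟨w, hw, ew⟩ := hcong _ (mem_stdCross_iff.mpr ⟨q, Or.inl rfl⟩) _ hv
  obtain ⟨u, hu, eu⟩ := hcong _ (mem_stdCross_iff.mpr ⟨none, Or.inl rfl⟩) _ h
  rw [stdCross_eq_cross]
  refine ⟨(g • v).2, ?_, ?_⟩
  · rw [co0_norm]
    rw [stdCross_eq_cross] at hv
    exact hv.2.1
  · have e1 : eightL q - v = (2 : ℤ) • (⟨w, hw⟩ : leechLattice) :=
      Subtype.ext (by simpa [eightL] using ew.trans (natCast_zsmul w 2).symm)
    have e2 := congrArg (fun x => g • x) e1
    simp only [co0_sub, co0_zsmul] at e2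
    refine ⟨u + ((g • (⟨w, hw⟩ : leechLattice) : leechLattice) : GolayPt → ℤ),
      add_mem hu (g • (⟨w, hw⟩ : leechLattice)).2, ?_⟩
    have e3 : ((g • eightL q : leechLattice) : GolayPt → ℤ) - ((g • v : leechLattice) : GolayPt → ℤ) =
        2 • ((g • (⟨w, hw⟩ : leechLattice) : leechLattice) : GolayPt → ℤ) := by
      have := congrArg Subtype.val e2
      simpa using this
    rw [smul_add, ← eu, ← e3]
    abel

/-- A member preserving the standard cross is monomial. -/
theorem eq_monoCo0 {g : Co0} (h : PreservesCross g) :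
    ∃ (τ : Equiv.Perm GolayPt) (hτ : τ ∈ M24) (c : Finset GolayPt)
      (hc : c ∈ supports (golayCode : Set (GolayPt → ZMod 2))), g = monoCo0 τ hτ c hc := by
  classical
  have hsp : ∀ p, ∃ (q : GolayPt) (s : ℤ), (s = 1 ∨ s = -1) ∧
      ((g • eightL p : leechLattice) : GolayPt → ℤ) = s • eight q := fun p => by
    obtain ⟨q, e | e⟩ := mem_stdCross_iff.mp (h (eightL p) (mem_stdCross_iff.mpr ⟨p, Or.inl rfl⟩))
    · exact ⟨q, 1, Or.inl rfl, by rw [e, one_smul]⟩
    · exact ⟨q, -1, Or.inr rfl, by rw [e, neg_smul, one_smul]⟩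
  choose π s hs hπ using hsp
  have hinj : Function.Injective π := by
    intro p q e
    by_contra hne
    have hd := co0_dot g (eightL p) (eightL q)
    rw [hπ p, hπ q, e] at hd
    have h0 : dotInt (eight p) (eight q) = 0 :=
      (by decide +kernel : ∀ p q, p ≠ q → dotInt (eight p) (eight q) = 0) p q hne
    have h64 : ∀ r, dotInt (eight r) (eight r) = 64 := by decide +kernel
    have e2 : dotInt (s p • eight (π q)) (s q • eight (π q)) =
        s p * s q * dotInt (eight (π q)) (eight (π q)) := by
      simp only [dotInt, Pi.smul_apply, smul_eq_mul, Finset.mul_sum]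
      exact Finset.sum_congr rfl fun i _ => by ring
    rw [e2, h64] at hd
    change _ = dotInt (eight p) (eight q) at hd
    rw [h0] at hd
    rcases hs p with a | a <;> rcases hs q with b | b <;> simp [a, b] at hd
  let πe : Equiv.Perm GolayPt := Equiv.ofBijective π (Finite.injective_iff_bijective.mp hinj)
  set τ := πe⁻¹ with hτdef
  let c : Finset GolayPt := Finset.univ.filter fun q => s (τ q) = -1
  have happ : ∀ v : leechLattice, ((g • v : leechLattice) : GolayPt → ℤ) = monoFun τ c v := by
    intro v
    have e : (8 : ℤ) • v = ∑ p, (v : GolayPt → ℤ) p • eightL p := by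
      apply Subtype.ext
      rw [AddSubgroup.coe_zsmul, AddSubgroup.val_finsetSum]
      funext q
      simp only [Pi.smul_apply, Finset.sum_apply, AddSubgroup.coe_zsmul, eightL, eight, smul_eq_mul]
      rw [Finset.sum_eq_single q]
      · simp [mul_comm]
      · intro b _ hb; simp [Pi.single_apply, Ne.symm hb]
      · simp
    have e2 := congrArg (co0Hom g) e
    rw [map_sum, map_zsmul, Finset.sum_congr rfl fun p _ => map_zsmul (co0Hom g) _ _] at e2
    funext q
    have e3 := congrFun (congrArg Subtype.val e2) q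
    rw [AddSubgroup.coe_zsmul, AddSubgroup.val_finsetSum] at e3
    simp only [Pi.smul_apply, Finset.sum_apply, AddSubgroup.coe_zsmul, smul_eq_mul] at e3
    rw [Finset.sum_eq_single (τ q)] at e3
    · change 8 * ((g • v : leechLattice) : GolayPt → ℤ) q =
        (v : GolayPt → ℤ) (τ q) * ((g • eightL (τ q) : leechLattice) : GolayPt → ℤ) q at e3
      rw [hπ] at e3
      have hq : π (τ q) = q := Equiv.apply_symm_apply πe q
      rw [hq] at e3
      simp only [monoFun, c, Finset.mem_filter, Finset.mem_univ, true_and]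
      rcases hs (τ q) with a | a <;> simp [a, eight] at e3 ⊢ <;> omega
    · intro p _ hp
      change (v : GolayPt → ℤ) p * ((g • eightL p : leechLattice) : GolayPt → ℤ) q = 0
      rw [hπ]
      have : π p ≠ q := fun e => hp (by rw [← e]; exact (Equiv.symm_apply_apply πe p).symm)
      simp [eight, Pi.single_apply, Ne.symm this]
    · simp
  have res : ∀ x : GolayPt → ℤ, x ∈ leechLattice → ∀ k : ℤ,
      (Finset.univ.filter fun i => monoFun τ c x i ≡ k [ZMOD 4]) ∈
        supports (golayCode : Set (GolayPt → ZMod 2)) := by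
    intro x hx k
    have hmem : monoFun τ c x ∈ leechLattice := by
      rw [← happ ⟨x, hx⟩]; exact (g • (⟨x, hx⟩ : leechLattice)).2
    obtain ⟨m, -, -, hres⟩ := (isLeech_iff _).mpr (mem_leech.mp hmem)
    exact hres k
  have hc : c ∈ supports (golayCode : Set (GolayPt → ZMod 2)) := by
    have h3 := res oddVec (genSet_spec oddVec (by simp [genSet])).1 3
    have hval : ∀ q, monoFun τ c oddVec q ≡ 3 [ZMOD 4] ↔ q ∈ c := fun q => by
      simp only [monoFun, oddVec, Int.ModEq]
      by_cases hqc : q ∈ c <;> by_cases hn : τ q = none <;> simp [hqc, hn]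
    convert h3 using 1
    refine Finset.ext fun q => ?_
    exact (hval q).symm.trans (by simp)
  have hτ : τ ∈ M24 := by
    have key : τ⁻¹ ∈ M24 := by
      refine mem_setSystemAut_of_image fun b hb => ?_
      have hb2 : (fun p => if p ∈ b then (2 : ℤ) else 0) ∈ leechLattice := by
        rw [mem_leech]
        refine ⟨0, fun p => if p ∈ b then 1 else 0, fun p => by by_cases hp : p ∈ b <;> simp [hp], ?_, ?_⟩
        · rw [Finset.sum_ite_mem, Finset.univ_inter, Finset.sum_const, nsmul_eq_mul]
          rcases supports_card hb with e | e | e | e | e <;> rw [e] <;> decide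
        · rw [mem_golayCode_iff_support]
          convert hb using 1
          ext p
          by_cases hp : p ∈ b <;> simp [support₂, res2, hp]
      have h2 := res _ hb2 2
      have hval : ∀ q, monoFun τ c (fun p => if p ∈ b then (2 : ℤ) else 0) q ≡ 2 [ZMOD 4] ↔
          τ q ∈ b := fun q => by
        simp only [monoFun, Int.ModEq]
        by_cases hqc : q ∈ c <;> by_cases hn : τ q ∈ b <;> simp [hqc, hn]
      convert h2 using 1
      ext q
      rw [Finset.mem_filter, Finset.mem_image, hval]
      constructor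
      · rintro ⟨p, hp, rfl⟩
        exact ⟨Finset.mem_univ _, by rw [perm_apply_inv]; exact hp⟩
      · intro hq
        exact ⟨τ q, hq.2, perm_inv_apply τ q⟩
    exact inv_mem_iff.mp key
  exact ⟨τ, hτ, c, hc, co0_ext fun v => Subtype.ext ((happ v).trans (monoCo0_smul τ hτ c hc v).symm)⟩

theorem monoCo0_eight (τ : Equiv.Perm GolayPt) (hτ : τ ∈ M24) (c : Finset GolayPt)
    (hc : c ∈ supports (golayCode : Set (GolayPt → ZMod 2))) (p : GolayPt) :
    ((monoCo0 τ hτ c hc • eightL p : leechLattice) : GolayPt → ℤ) =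
      if τ⁻¹ p ∈ c then -eight (τ⁻¹ p) else eight (τ⁻¹ p) := by
  funext q
  rw [monoCo0_smul]
  show monoFun τ c (eight p) q = _
  have hτr : τ (τ⁻¹ p) = p := perm_apply_inv τ p
  generalize τ⁻¹ p = r at hτr ⊢
  subst hτr
  have e : eight (τ r) (τ q) = eight r q := by
    simp [eight, Pi.single_apply]
  simp only [monoFun, e]
  by_cases hq : q = r
  · subst hq
    by_cases hc' : q ∈ c <;> simp [hc']
  · have h0 : eight r q = 0 := by simp [eight, Pi.single_apply, hq]
    by_cases hc' : r ∈ c <;> simp [hc', h0]

theorem monoCo0_preserves (τ : Equiv.Perm GolayPt) (hτ : τ ∈ M24) (c : Finset GolayPt)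
    (hc : c ∈ supports (golayCode : Set (GolayPt → ZMod 2))) :
    PreservesCross (monoCo0 τ hτ c hc) := by
  refine preservesCross_of_mem (q := none) ?_
  rw [monoCo0_eight]
  split
  · exact mem_stdCross_iff.mpr ⟨_, Or.inr rfl⟩
  · exact mem_stdCross_iff.mpr ⟨_, Or.inl rfl⟩

/-- The monomial element of a pair. -/
def monoOf (x : M24 × supports (golayCode : Set (GolayPt → ZMod 2))) : Co0 :=
  monoCo0 x.1.1 x.1.2 x.2.1 x.2.2

theorem monoOf_injective : Function.Injective monoOf := by
  rintro ⟨⟨τ, hτ⟩, c, hc⟩ ⟨⟨τ', hτ'⟩, c', hc'⟩ e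
  have h : ∀ p, ((monoCo0 τ hτ c hc • eightL p : leechLattice) : GolayPt → ℤ) =
      ((monoCo0 τ' hτ' c' hc' • eightL p : leechLattice) : GolayPt → ℤ) := fun p => by
    have e' : monoCo0 τ hτ c hc = monoCo0 τ' hτ' c' hc' := e
    rw [e']
  have hp : ∀ a b : GolayPt, (eight a = eight b → a = b) ∧ eight a ≠ -eight b := by
    intro a b
    refine ⟨fun h => ?_, fun h => ?_⟩
    · have := congrFun h a
      by_contra hne
      simp [eight, Ne.symm hne, Pi.single_apply, hne] at this
    · have := congrFun h a
      simp [eight, Pi.single_apply] at this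
      split at this <;> omega
  simp only [monoCo0_eight] at h
  have key : ∀ p, τ⁻¹ p = τ'⁻¹ p ∧ (τ⁻¹ p ∈ c ↔ τ⁻¹ p ∈ c') := fun p => by
    have hh := h p
    split at hh <;> split at hh
    · have e1 := (hp _ _).1 (neg_injective hh)
      refine ⟨e1, ?_⟩
      simp_all
    · exact absurd hh.symm (hp _ _).2
    · exact absurd hh (hp _ _).2
    · have e1 := (hp _ _).1 hh
      refine ⟨e1, ?_⟩
      simp_all
  have hτe : τ = τ' := inv_injective (Equiv.ext fun p => (key p).1)
  subst hτe
  have hce : c = c' := Finset.ext fun q => by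
    have := (key (τ q)).2
    rwa [perm_inv_apply] at this
  subst hce
  rfl

theorem range_monoOf : Set.range monoOf = {g | PreservesCross g} := by
  ext g
  constructor
  · rintro ⟨x, rfl⟩
    exact monoCo0_preserves _ _ _ _
  · intro hg
    obtain ⟨τ, hτ, c, hc, rfl⟩ := eq_monoCo0 hg
    exact ⟨(⟨τ, hτ⟩, ⟨c, hc⟩), rfl⟩

theorem ncard_supports : (supports (golayCode : Set (GolayPt → ZMod 2))).ncard = 4096 := by
  rw [supports_eq, Set.InjOn.ncard_image setOf24_injOn_code, ncard_codeMasks]

theorem card_crossStab : Nat.card {g : Co0 // PreservesCross g} = 4096 * 244823040 := by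
  have : Nat.card (Set.range monoOf) = Nat.card (M24 × supports (golayCode : Set (GolayPt → ZMod 2))) :=
    Nat.card_range_of_injective monoOf_injective
  rw [range_monoOf, Nat.card_prod, card_M24, Nat.card_coe_set_eq (supports _), ncard_supports] at this
  rw [mul_comm]
  exact this

theorem card_stab_eight : Nat.card (MulAction.stabilizer Co0 (eightL none)) = 2048 * 10200960 := by
  have hset : {g : Co0 | g • eightL none = eightL none} = monoOf ''
      {x | x.1.1 none = none ∧ none ∉ x.2.1} := by
    ext g
    constructor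
    · intro hg
      have hg' : g • eightL none = eightL none := hg
      have hP : PreservesCross g := preservesCross_of_mem (q := none)
        (by rw [hg']; exact mem_stdCross_iff.mpr ⟨none, Or.inl rfl⟩)
      obtain ⟨τ, hτ, c, hc, rfl⟩ := eq_monoCo0 hP
      refine ⟨(⟨τ, hτ⟩, ⟨c, hc⟩), ?_, rfl⟩
      have h1 := congrArg Subtype.val hg'
      rw [monoCo0_eight] at h1
      have h2 := congrFun h1 none
      by_cases hn : τ⁻¹ none = none
      · refine ⟨?_, fun hmem => ?_⟩
        · show τ none = none
          conv_lhs => rw [← hn]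
          exact perm_apply_inv τ none
        · rw [if_pos (by rw [hn]; exact hmem), hn] at h2
          simp [eight, eightL] at h2
      · generalize τ⁻¹ none = r at h2 hn
        split at h2 <;> simp [eight, eightL, Pi.single_apply, Ne.symm hn] at h2
    · rintro ⟨⟨⟨τ, hτ⟩, c, hc⟩, ⟨hfix, hn⟩, rfl⟩
      apply Subtype.ext
      show ((monoCo0 τ hτ c hc • eightL none : leechLattice) : GolayPt → ℤ) = eight none
      have hinv : τ⁻¹ none = none := by
        conv_lhs => rw [← (hfix : τ none = none)]
        exact perm_inv_apply τ none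
      rw [monoCo0_eight, hinv, if_neg hn]
  have hhalf : {c : supports (golayCode : Set (GolayPt → ZMod 2)) | none ∉ c.1}.ncard = 2048 := by
    have h0 : {s : Finset GolayPt | s ∈ supports (golayCode : Set (GolayPt → ZMod 2)) ∧ none ∉ s} =
        (fun m => setOf24 (codeMask m)) '' {m | m < 4096 ∧ (codeMask m).testBit 23 = false} := by
      ext s
      constructor
      · rintro ⟨hs, hn⟩
        obtain ⟨m, hm, e⟩ := exists_codeMask ((mem_supports_iff s).mp hs)
        refine ⟨m, ⟨hm, ?_⟩, by show setOf24 (codeMask m) = s; rw [← e, setOf24_maskOf]⟩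
        rw [← e]
        by_contra hb
        apply hn
        rw [← setOf24_maskOf s, mem_setOf24]
        simpa [idx] using hb
      · rintro ⟨m, ⟨hm, hb⟩, rfl⟩
        refine ⟨setOf24_mem_supports (isCode_codeMask m), ?_⟩
        rw [mem_setOf24]
        simp [idx, hb]
    have h1 : Subtype.val '' {c : supports (golayCode : Set (GolayPt → ZMod 2)) | none ∉ c.1} =
        {s : Finset GolayPt | s ∈ supports (golayCode : Set (GolayPt → ZMod 2)) ∧ none ∉ s} := by
      ext s
      simp only [Set.mem_image, Set.mem_setOf_eq, Subtype.exists, exists_and_right, exists_eq_right]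
      exact ⟨fun ⟨h, hn⟩ => ⟨h, hn⟩, fun ⟨h, hn⟩ => ⟨h, hn⟩⟩
    rw [← Set.ncard_image_of_injective _ Subtype.val_injective, h1, h0]
    have h2 : {m | m < 4096 ∧ (codeMask m).testBit 23 = false} =
        ↑((Finset.range 4096).filter fun m => (codeMask m).testBit 23 = false) := by
      ext m; simp
    rw [Set.InjOn.ncard_image, h2, Set.ncard_coe_finset]
    · rw [Finset.card_def, Finset.filter_val, Finset.range_val, Multiset.range, Multiset.filter_coe,
        Multiset.coe_card]
      decide +kernel
    · intro a ha b hb e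
      exact codeMask_injOn ha.1 hb.1
        (setOf24_inj (isCode_lt (isCode_codeMask a)) (isCode_lt (isCode_codeMask b)) e)
  have hM23 : {τ : M24 | τ.1 none = none}.ncard = 10200960 := by
    rw [← card_M24_point none, ← Nat.card_coe_set_eq]
    rfl
  show Nat.card ↥{g : Co0 | g • eightL none = eightL none} = _
  rw [Nat.card_coe_set_eq, hset, Set.ncard_image_of_injective _ monoOf_injective,
    show {x : M24 × supports (golayCode : Set (GolayPt → ZMod 2)) | x.1.1 none = none ∧ none ∉ x.2.1} =
      {τ : M24 | τ.1 none = none} ×ˢ {c | none ∉ c.1} from Set.ext fun x => Iff.rfl,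
    Set.ncard_prod, hM23, hhalf, mul_comm]

theorem card_mul_stab {n : ℤ} (v : leechLattice) (hv : sqNorm (v : GolayPt → ℤ) = n)
    (htr : ∀ w : leechLattice, sqNorm (w : GolayPt → ℤ) = n → ∃ g : Co0, g • v = w) :
    Nat.card Co0 = {x : GolayPt → ℤ | x ∈ leechLattice ∧ sqNorm x = n}.ncard *
      Nat.card (MulAction.stabilizer Co0 v) := by
  rw [← Subgroup.index_mul_card (MulAction.stabilizer Co0 v)]
  congr 1
  rw [MulAction.index_stabilizer, ← Set.ncard_image_of_injective _ Subtype.val_injective]
  congr 1
  ext x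
  constructor
  · rintro ⟨w, ⟨g, rfl⟩, rfl⟩
    exact ⟨(g • v).2, by rw [co0_norm]; exact hv⟩
  · rintro ⟨hx, hn⟩
    obtain ⟨g, e⟩ := htr ⟨x, hx⟩ hn
    exact ⟨⟨x, hx⟩, ⟨g, e⟩, rfl⟩

theorem card_Co0 : Nat.card Co0 = 8315553613086720000 := by
  rw [card_mul_stab (eightL none) (sqNorm_eight none)
    (fun w hw => transitive_norm64 _ w (sqNorm_eight none) hw), ncard_norm64, card_stab_eight]

theorem co0_finite : Finite Co0 := Nat.finite_of_card_ne_zero (by rw [card_Co0]; norm_num)

theorem card_stab_norm32 {v : leechLattice} (hv : sqNorm (v : GolayPt → ℤ) = 32) :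
    Nat.card (MulAction.stabilizer Co0 v) = 42305421312000 := by
  have h := card_mul_stab v hv fun w hw => transitive_norm32 v w hv hw
  rw [card_Co0, ncard_norm32] at h
  omega

theorem card_stab_norm48 {v : leechLattice} (hv : sqNorm (v : GolayPt → ℤ) = 48) :
    Nat.card (MulAction.stabilizer Co0 v) = 495766656000 := by
  have h := card_mul_stab v hv fun w hw => transitive_norm48 v w hv hw
  rw [card_Co0, ncard_norm48] at h
  omega

/-! ### The centre -/

theorem negCo0_mem_center : negCo0 ∈ Subgroup.center Co0 := by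
  rw [Subgroup.mem_center_iff]
  intro h
  refine co0_ext fun v => ?_
  have e : ∀ w : leechLattice, negCo0 • w = -w := fun w => Subtype.ext (negCo0_smul w)
  rw [mul_smul, mul_smul, e, e, co0_neg]

theorem negCo0_sq : negCo0 * negCo0 = 1 :=
  co0_ext fun v => Subtype.ext (by rw [mul_smul, negCo0_smul, negCo0_smul, neg_neg, one_smul])

theorem negCo0_ne_one : negCo0 ≠ 1 := fun e => by
  have h := negCo0_smul (eightL none)
  rw [e, one_smul] at h
  have := congrFun h none
  simp [eightL, eight] at this

/-- A code word avoiding the extra point and containing `q`. -/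
theorem exists_code_sep (q : GolayPt) (hq : q ≠ none) :
    ∃ c ∈ supports (golayCode : Set (GolayPt → ZMod 2)), q ∈ c ∧ none ∉ c := by
  have h : ∀ q : GolayPt, q ≠ none → (genMasks.any fun M => M.testBit (idx q) && !M.testBit 23) = true := by
    decide +kernel
  have hcode : ∀ M ∈ genMasks, isCode M = true := by decide +kernel
  obtain ⟨M, hM, hb⟩ := List.any_eq_true.mp (h q hq)
  simp only [Bool.and_eq_true, Bool.not_eq_true'] at hb
  refine ⟨setOf24 M, setOf24_mem_supports (hcode M hM), mem_setOf24.mpr hb.1, ?_⟩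
  rw [mem_setOf24]
  simp [idx, hb.2]

theorem center_cases {g : Co0} (hg : g ∈ Subgroup.center Co0) : g = 1 ∨ g = negCo0 := by
  have hcomm : ∀ (h : Co0) (v : leechLattice), h • g • v = g • h • v := fun h v => by
    rw [smul_smul, smul_smul, Subgroup.mem_center_iff.mp hg h]
  set y : GolayPt → ℤ := ((g • eightL none : leechLattice) : GolayPt → ℤ) with hy
  have hz : ∀ q, q ≠ none → y q = 0 := by
    intro q hq
    obtain ⟨c, hc, hqc, hnc⟩ := exists_code_sep q hq
    have hfix : monoCo0 1 (one_mem _) c hc • eightL none = eightL none := Subtype.ext (by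
      rw [monoCo0_eight, inv_one, Equiv.Perm.one_apply, if_neg hnc]; rfl)
    have := hcomm (monoCo0 1 (one_mem _) c hc) (eightL none)
    rw [hfix] at this
    have h2 := congrFun (congrArg Subtype.val this) q
    rw [monoCo0_smul] at h2
    simp only [monoFun, hqc, if_true, Equiv.Perm.one_apply] at h2
    change -(y q) = y q at h2
    omega
  have hn : sqNorm y = 64 := by rw [hy, co0_norm]; exact sqNorm_eight none
  rw [sqNorm, Finset.sum_eq_single none (fun q _ hq => by rw [hz q hq]; rfl) (by simp)] at hn
  have h8 : y none = 8 ∨ y none = -8 := by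
    have h9 : y none ^ 2 < 9 ^ 2 := by omega
    rw [sq_lt_sq, abs_lt] at h9
    norm_num at h9
    obtain ⟨h9, h9'⟩ := h9
    interval_cases (y none) <;> simp_all
  suffices ∀ g' : Co0, g' ∈ Subgroup.center Co0 → g' • eightL none = eightL none → g' = 1 by
    rcases h8 with e | e
    · refine Or.inl (this g hg (Subtype.ext (funext fun q => ?_)))
      by_cases hq : q = none
      · subst hq
        show y none = eight none none
        rw [e]; simp [eight]
      · show y q = _
        rw [hz q hq]; simp [eightL, eight, Ne.symm hq, hq]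
    · right
      have h1 := this (negCo0 * g) (mul_mem negCo0_mem_center hg) (Subtype.ext (funext fun q => ?_))
      · calc g = negCo0 * (negCo0 * g) := by rw [← mul_assoc, negCo0_sq, one_mul]
          _ = negCo0 := by rw [h1, mul_one]
      · rw [mul_smul, negCo0_smul]
        show -(y q) = _
        by_cases hq : q = none
        · subst hq; rw [e]; simp [eightL, eight]
        · rw [hz q hq]; simp [eightL, eight, hq]
  intro g' hg' hfix
  refine co0_ext fun v => ?_
  have hall : ∀ p, g' • eightL p = eightL p := fun p => by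
    obtain ⟨h, hh⟩ := transitive_norm64 (eightL none) (eightL p) (sqNorm_eight _) (sqNorm_eight _)
    rw [← hh, smul_smul, ← Subgroup.mem_center_iff.mp hg' h, ← smul_smul, hfix]
  have e : (8 : ℤ) • v = ∑ p, (v : GolayPt → ℤ) p • eightL p := by
    apply Subtype.ext
    rw [AddSubgroup.coe_zsmul, AddSubgroup.val_finsetSum]
    funext q
    simp only [Pi.smul_apply, Finset.sum_apply, AddSubgroup.coe_zsmul, eightL, eight, smul_eq_mul]
    rw [Finset.sum_eq_single q]
    · simp [mul_comm]
    · intro b _ hb; simp [Pi.single_apply, Ne.symm hb]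
    · simp
  have e2 : (8 : ℤ) • (g' • v) = (8 : ℤ) • v := by
    rw [← co0_zsmul, e]
    change co0Hom g' _ = _
    rw [map_sum]
    exact Finset.sum_congr rfl fun p _ => by rw [map_zsmul]; exact congrArg _ (hall p)
  rw [one_smul]
  apply Subtype.ext
  funext q
  have := congrFun (congrArg Subtype.val e2) q
  simp only [AddSubgroup.coe_zsmul, Pi.smul_apply, smul_eq_mul] at this
  omega

theorem center_eq : (Subgroup.center Co0 : Set Co0) = {1, negCo0} := by
  ext g
  refine ⟨fun h => center_cases h, ?_⟩
  rintro (rfl | rfl)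
  · exact one_mem _
  · exact negCo0_mem_center

theorem card_center : Nat.card (Subgroup.center Co0) = 2 := by
  show Nat.card ↥(Subgroup.center Co0 : Set Co0) = 2
  rw [Nat.card_coe_set_eq, center_eq, Set.ncard_pair negCo0_ne_one.symm]

theorem card_Co1 : Nat.card (Co0 ⧸ Subgroup.center Co0) = 4157776806543360000 := by
  have h := Subgroup.card_eq_card_quotient_mul_card_subgroup (Subgroup.center Co0)
  rw [card_Co0, card_center] at h
  omega

/-- An element squaring to negation. -/
theorem exists_sqrt_neg : ∃ g : Co0, g * g = negCo0 := by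
  let t : ℕ := 491551345732791245919985944909761169387042575249123968776
  let m : ℕ := 11472927
  have hok : tableValid t = true ∧ preservesCode t = true ∧ isCode m = true := by decide +kernel
  obtain ⟨τ, hr⟩ := exists_rep_of_valid hok.1
  have hτ := mem_M24_of_table hr hok.2.1
  have hsq : ∀ i < 24, app t (app t i) = i ∧ m.testBit (app t i) = !m.testBit i := by decide +kernel
  refine ⟨monoCo0 τ hτ (setOf24 m) (setOf24_mem_supports hok.2.2), co0_ext fun v => Subtype.ext ?_⟩
  rw [mul_smul, negCo0_smul]
  funext p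
  rw [monoCo0_smul]
  obtain ⟨h1, h2⟩ := hsq (idx p) (idx_lt p)
  have e1 : app t (idx p) = idx (τ p) := hr p
  rw [e1] at h1 h2
  have e2 : τ (τ p) = p := idx_injective ((hr (τ p)).symm.trans h1)
  simp only [monoFun, monoCo0_smul, mem_setOf24, e2, h2, Pi.neg_apply]
  cases m.testBit (idx p) <;> simp

/-- The centre has no complement. -/
theorem no_complement (K : Subgroup Co0) : ¬ (Subgroup.zpowers negCo0).IsComplement' K := by
  intro hK
  obtain ⟨g, hg⟩ := exists_sqrt_neg
  obtain ⟨⟨⟨z, hz⟩, ⟨k, hk⟩⟩, e⟩ := hK.2 g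
  change z * k = g at e
  obtain ⟨n, rfl⟩ := Subgroup.mem_zpowers_iff.mp hz
  have hc : k * negCo0 ^ n = negCo0 ^ n * k :=
    Subgroup.mem_center_iff.mp (zpow_mem negCo0_mem_center n) k
  have hkk : k * k = negCo0 := by
    calc k * k = (negCo0 * negCo0) ^ n * (k * k) := by rw [negCo0_sq, one_zpow, one_mul]
      _ = negCo0 ^ n * negCo0 ^ n * (k * k) := by rw [(Commute.refl negCo0).mul_zpow]
      _ = negCo0 ^ n * k * (negCo0 ^ n * k) := by
        simp only [mul_assoc]; rw [← mul_assoc k, hc, mul_assoc]
      _ = negCo0 := by rw [e]; exact hg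
  have h1 : negCo0 ∈ Subgroup.zpowers negCo0 ⊓ K :=
    ⟨Subgroup.mem_zpowers _, hkk ▸ mul_mem hk hk⟩
  rw [hK.disjoint.eq_bot] at h1
  exact negCo0_ne_one (Subgroup.mem_bot.mp h1)

end CfsgLib.Leech
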