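import Cfsg.Agent.Leech.Co1Data

/-!
`Cfsg.Co0` is generated by the monomial group and the sextet involution; the stabiliser of the standard
cross is a maximal subgroup.
-/

set_option autoImplicit false

namespace CfsgLib.Leech

open Cfsg CfsgLib.Mathieu
open scoped Pointwise symmDiff

theorem monoCo0_congr {τ τ' : Equiv.Perm GolayPt} {hτ : τ ∈ M24} {hτ' : τ' ∈ M24}
    {c c' : Finset GolayPt} {hc : c ∈ supports (golayCode : Set (GolayPt → ZMod 2))}
    {hc' : c' ∈ supports (golayCode : Set (GolayPt → ZMod 2))} (e₁ : τ = τ') (e₂ : c = c') :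
    monoCo0 τ hτ c hc = monoCo0 τ' hτ' c' hc' := by
  subst e₁; subst e₂; rfl

theorem co0_eq_of_eight {g h : Co0} (H : ∀ p, g • eightL p = h • eightL p) : g = h := by
  refine co0_ext fun v => ?_
  have e : (8 : ℤ) • v = ∑ p, (v : GolayPt → ℤ) p • eightL p := by
    apply Subtype.ext
    rw [AddSubgroup.coe_zsmul, AddSubgroup.val_finsetSum]
    funext q
    simp only [Pi.smul_apply, Finset.sum_apply, AddSubgroup.coe_zsmul, eightL, eight, smul_eq_mul]
    rw [Finset.sum_eq_single q]
    · simp [mul_comm]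
    · intro b _ hb; simp [Pi.single_apply, Ne.symm hb]
    · simp
  have e2 : co0Hom g ((8 : ℤ) • v) = co0Hom h ((8 : ℤ) • v) := by
    rw [e, map_sum, map_sum]
    exact Finset.sum_congr rfl fun p _ => by
      rw [map_zsmul, map_zsmul]; exact congrArg _ (H p)
  rw [map_zsmul, map_zsmul] at e2
  apply Subtype.ext
  funext q
  have h8 := congrFun (congrArg Subtype.val e2) q
  simp only [AddSubgroup.coe_zsmul, Pi.smul_apply, smul_eq_mul] at h8
  change 8 * ((g • v : leechLattice) : GolayPt → ℤ) q = 8 * ((h • v : leechLattice) : GolayPt → ℤ) q at h8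
  omega

theorem eight_eq_vec : ∀ p : GolayPt,
    eight p = vec ((List.range 24).map fun i => if i = idx p then (8 : ℤ) else 0) := by
  decide +kernel

/-- Two members of `Co0` acting as the move lists `a`, `b` are equal if those agree on unit vectors. -/
theorem co0_eq_of_moves {g h : Co0} {a b : List Mv}
    (hg : ∀ (l : List ℤ) (hl : vec l ∈ leechLattice),
      ((g • (⟨vec l, hl⟩ : leechLattice) : leechLattice) : GolayPt → ℤ) = vec (runMoves a l))
    (hh : ∀ (l : List ℤ) (hl : vec l ∈ leechLattice),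
      ((h • (⟨vec l, hl⟩ : leechLattice) : leechLattice) : GolayPt → ℤ) = vec (runMoves b l))
    (hab : ((List.range 24).all fun j =>
      runMoves a ((List.range 24).map fun i => if i = j then (8 : ℤ) else 0) ==
        runMoves b ((List.range 24).map fun i => if i = j then (8 : ℤ) else 0)) = true) : g = h := by
  refine co0_eq_of_eight fun p => Subtype.ext ?_
  have hm : vec ((List.range 24).map fun i => if i = idx p then (8 : ℤ) else 0) ∈ leechLattice :=
    eight_eq_vec p ▸ eight_mem p
  rw [show eightL p = ⟨_, hm⟩ from Subtype.ext (eight_eq_vec p), hg, hh,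
    beq_iff_eq.1 (List.all_eq_true.1 hab (idx p) (List.mem_range.2 (idx_lt p)))]

theorem monoCo0_mul (τ : Equiv.Perm GolayPt) (hτ : τ ∈ M24) (c : Finset GolayPt)
    (hc : c ∈ supports (golayCode : Set (GolayPt → ZMod 2))) (σ : Equiv.Perm GolayPt) (hσ : σ ∈ M24)
    (d : Finset GolayPt) (hd : d ∈ supports (golayCode : Set (GolayPt → ZMod 2))) :
    monoCo0 τ hτ c hc * monoCo0 σ hσ d hd = monoCo0 (σ * τ) (mul_mem hσ hτ) (c ∆ d.image ⇑τ⁻¹)
      (supports_symmDiff hc (setSystemAut_image_mem (inv_mem hτ : τ⁻¹ ∈ M24) hd)) := by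
  refine co0_ext fun v => Subtype.ext ?_
  rw [mul_smul, monoCo0_smul, monoCo0_smul, monoCo0_smul]
  funext p
  have h1 : p ∈ d.image ⇑τ⁻¹ ↔ τ p ∈ d := by
    rw [Finset.mem_image]
    exact ⟨fun ⟨q, hq, e⟩ => by rw [← e, perm_apply_inv]; exact hq,
      fun h => ⟨τ p, h, perm_inv_apply τ p⟩⟩
  by_cases hp : p ∈ c <;> by_cases hq : τ p ∈ d <;>
    simp only [monoFun, Finset.mem_symmDiff, h1, hp, hq, not_true_eq_false, not_false_eq_true, and_self,
      and_false, false_and, or_self, or_true, true_or, if_true, if_false, neg_neg, Equiv.Perm.mul_apply]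

/-! ### The monomial group is the stabiliser of the standard cross -/

theorem eightL_mem_stdCross (p : GolayPt) : ((eightL p : leechLattice) : GolayPt → ℤ) ∈ stdCross :=
  mem_stdCross_iff.mpr ⟨p, Or.inl rfl⟩

theorem preservesCross_inv {g : Co0} (h : PreservesCross g) : PreservesCross g⁻¹ := by
  obtain ⟨τ, hτ, c, hc, rfl⟩ := eq_monoCo0 h
  refine preservesCross_of_mem (q := none) ?_
  have hn := monoCo0_eight τ hτ c hc (τ none)
  rw [perm_inv_apply] at hn
  by_cases hm : none ∈ c
  · rw [if_pos hm] at hn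
    have e : monoCo0 τ hτ c hc • eightL (τ none) = -eightL none := Subtype.ext hn
    have e2 : (monoCo0 τ hτ c hc)⁻¹ • eightL none = -eightL (τ none) := by
      rw [inv_smul_eq_iff, co0_neg, e, neg_neg]
    rw [e2]
    exact mem_stdCross_iff.mpr ⟨τ none, Or.inr rfl⟩
  · rw [if_neg hm] at hn
    have e : monoCo0 τ hτ c hc • eightL (τ none) = eightL none := Subtype.ext hn
    rw [inv_smul_eq_iff.2 e.symm]
    exact eightL_mem_stdCross _

theorem mem_monoGroup_iff {g : Co0} : g ∈ monoGroup ↔ PreservesCross g := by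
  refine ⟨fun h => ?_, fun h => ?_⟩
  · induction h using Subgroup.closure_induction with
    | mem x hx =>
      obtain ⟨τ, hτ, c, hc, rfl⟩ := hx
      exact monoCo0_preserves τ hτ c hc
    | one => intro v hv; rwa [one_smul]
    | mul a b _ _ ha hb => intro v hv; rw [mul_smul]; exact ha _ (hb v hv)
    | inv a _ ha => exact preservesCross_inv ha
  · obtain ⟨τ, hτ, c, hc, rfl⟩ := eq_monoCo0 h
    exact monoCo0_mem_monoGroup τ hτ c hc

theorem xiCo0_not_mem_monoGroup : xiCo0 ∉ monoGroup := fun h => by
  have h1 := mem_monoGroup_iff.1 h (eightL none) (eightL_mem_stdCross none)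
  rw [xiCo0_smul] at h1
  have : ∀ p, xiFun (eight none) ≠ eight p ∧ xiFun (eight none) ≠ -eight p := by decide +kernel
  obtain ⟨p, e | e⟩ := mem_stdCross_iff.mp h1
  exacts [(this p).1 e, (this p).2 e]

theorem moveGroup_eq_top : moveGroup = ⊤ := by
  refine (Subgroup.eq_top_iff' _).2 fun g => ?_
  have hn : sqNorm ((g • eightL none : leechLattice) : GolayPt → ℤ) = 64 := by
    rw [co0_norm]; exact sqNorm_eight none
  obtain ⟨h, hh, e⟩ :=
    ((reach64 (eightL none).2 (sqNorm_eight none)).trans (reach64 (g • eightL none).2 hn).symm).exists_smul_mem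
  have hK : PreservesCross (h⁻¹ * g) := by
    refine preservesCross_of_mem (q := none) ?_
    rw [mul_smul, inv_smul_eq_iff.2 e.symm]
    exact eightL_mem_stdCross none
  have := mul_mem hh (monoGroup_le (mem_monoGroup_iff.2 hK))
  rwa [mul_inv_cancel_left] at this

/-! ### Maximality -/

variable {L : Subgroup Co0}

/-- A move list leading back to the standard cross gives a member of `L`. -/
theorem path_mem (hK : monoGroup ≤ L) {a : Co0} (ha : a ∈ L) {r : List ℤ}
    (har : ((a • eightL none : leechLattice) : GolayPt → ℤ) = vec r) {P : List Mv}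
    (hok : P.all Mv.ok = true)
    (hP : ∃ q, vec (runMoves P r) = eight q ∨ vec (runMoves P r) = -eight q) :
    ∃ p ∈ L, ∀ (l : List ℤ) (hl : vec l ∈ leechLattice),
      ((p • (⟨vec l, hl⟩ : leechLattice) : leechLattice) : GolayPt → ℤ) = vec (runMoves P l) := by
  obtain ⟨p, -, hp⟩ := runMoves_spec P hok
  refine ⟨p, ?_, hp⟩
  have hr : vec r ∈ leechLattice := har ▸ (a • eightL none).2
  have hK' : PreservesCross (p * a) := by
    refine preservesCross_of_mem (q := none) ?_
    rw [mul_smul, show a • eightL none = ⟨vec r, hr⟩ from Subtype.ext har, hp r hr]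
    exact mem_stdCross_iff.mpr hP
  have := mul_mem (hK (mem_monoGroup_iff.2 hK')) (inv_mem ha)
  rwa [mul_inv_cancel_right] at this

theorem top_of_shapeF (hK : monoGroup ≤ L) {a : Co0} (ha : a ∈ L)
    (hs : HasShape ((a • eightL none : leechLattice) : GolayPt → ℤ) shF64) : L = ⊤ := by
  obtain ⟨hy, k, hk, ek, -⟩ := toF64 hs
  have har : (((k * a) • eightL none : leechLattice) : GolayPt → ℤ) = vec repF64 := by
    rw [mul_smul]; exact ek
  obtain ⟨p, hp, hpa⟩ := path_mem hK (mul_mem (hK hk) ha) har (P := edgeF64) (by decide +kernel)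
    (by decide +kernel)
  have hm : ∀ t c : ℕ, (Mv.mono t c).ok = true → ∃ g ∈ monoGroup, ∀ (l : List ℤ)
      (hl : vec l ∈ leechLattice),
      ((g • (⟨vec l, hl⟩ : leechLattice) : leechLattice) : GolayPt → ℤ) = vec ((Mv.mono t c).act l) := by
    intro t c h
    simp only [Mv.ok, Bool.and_eq_true] at h
    obtain ⟨⟨ht, hp⟩, hc⟩ := h
    obtain ⟨τ, hr⟩ := exists_rep_of_valid ht
    refine ⟨monoCo0 τ (mem_M24_of_table hr hp) (setOf24 c) (setOf24_mem_supports hc),
      monoCo0_mem_monoGroup _ _ _ _, fun l hl => ?_⟩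
    funext q
    rw [monoCo0_smul, Mv.act, vec_map_range]
    simp only [monoFun, vec, mem_setOf24]
    rw [show app t (idx q) = idx (τ q) from hr q]
  obtain ⟨m, hm', hma⟩ := hm 99523554125418361323594235533272121747706306557924677136 3380271
    (by decide +kernel)
  have hxm : p = xiCo0 * m := by
    refine co0_eq_of_moves (a := edgeF64) (b := edgeF64) hpa (fun l hl => ?_) (by simp)
    have hl' : vec ((Mv.mono 99523554125418361323594235533272121747706306557924677136 3380271).act l) ∈
        leechLattice := hma l hl ▸ (m • (⟨vec l, hl⟩ : leechLattice)).2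
    obtain ⟨x, hxv, hx⟩ := Mv.act_spec_mem .xi rfl
    rw [mul_smul, show m • (⟨vec l, hl⟩ : leechLattice) = ⟨_, hl'⟩ from Subtype.ext (hma l hl), xiCo0_smul]
    funext q
    simp only [edgeF64, runMoves, List.foldl_cons, List.foldl_nil]
    have h6 : ∀ q, tetOf q < 6 := by decide +kernel
    have := h6 q
    rw [Mv.act.eq_def .xi]
    simp only [vec_map_range, xiFun, tetSum_vec, tetOf] at this ⊢
    simp only [getD_map_range _ this]
    rfl
  have hxi : xiCo0 ∈ L := by
    have := mul_mem hp (inv_mem (hK hm'))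
    rwa [hxm, mul_inv_cancel_right] at this
  rw [eq_top_iff, ← moveGroup_eq_top, moveGroup, Subgroup.closure_le, Set.insert_subset_iff]
  refine ⟨hxi, ?_⟩
  rintro g ⟨τ, hτ, c, hc, rfl⟩
  exact hK (monoCo0_mem_monoGroup τ hτ c hc)

/-- The certificate for one representative. -/
def certOK (r : List ℤ) (P : List Mv) (k : Mv) : Bool :=
  P.all Mv.ok && k.ok &&
    (decide (∃ q, vec (runMoves P r) = eight q ∨ vec (runMoves P r) = -eight q) &&
      shapeB (runMoves P (k.act r)) shF64 && (match k with | .mono _ _ => true | .xi => false))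

theorem top_of_cert (hK : monoGroup ≤ L) {a : Co0} (ha : a ∈ L) {r : List ℤ}
    (har : ((a • eightL none : leechLattice) : GolayPt → ℤ) = vec r) {P : List Mv} {k : Mv}
    (h : certOK r P k = true) : L = ⊤ := by
  simp only [certOK, Bool.and_eq_true, decide_eq_true_eq] at h
  obtain ⟨⟨hok, hk⟩, ⟨hP, hF⟩, hmono⟩ := h
  obtain ⟨p, hp, hpa⟩ := path_mem hK ha har hok hP
  cases k with
  | xi => simp at hmono
  | mono t c =>
    simp only [Mv.ok, Bool.and_eq_true] at hk
    obtain ⟨⟨ht, hpc⟩, hc⟩ := hk
    obtain ⟨τ, hr⟩ := exists_rep_of_valid ht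
    let m := monoCo0 τ (mem_M24_of_table hr hpc) (setOf24 c) (setOf24_mem_supports hc)
    have hma : ∀ (l : List ℤ) (hl : vec l ∈ leechLattice),
        ((m • (⟨vec l, hl⟩ : leechLattice) : leechLattice) : GolayPt → ℤ) = vec ((Mv.mono t c).act l) := by
      intro l hl
      funext q
      rw [monoCo0_smul, Mv.act, vec_map_range]
      simp only [monoFun, vec, mem_setOf24]
      rw [show app t (idx q) = idx (τ q) from hr q]
    refine top_of_shapeF hK (a := p * (m * a))
      (mul_mem hp (mul_mem (hK (monoCo0_mem_monoGroup _ _ _ _)) ha)) ?_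
    have hrm : vec r ∈ leechLattice := har ▸ (a • eightL none).2
    have hl' : vec ((Mv.mono t c).act r) ∈ leechLattice := hma r hrm ▸ (m • (⟨vec r, hrm⟩ : leechLattice)).2
    rw [mul_smul, mul_smul, show a • eightL none = ⟨vec r, hrm⟩ from Subtype.ext har,
      show m • (⟨vec r, hrm⟩ : leechLattice) = ⟨_, hl'⟩ from Subtype.ext (hma r hrm), hpa]
    exact hasShape_of_b hF

theorem certs_ok : certOK repG64 pathG64 shiftG64 = true ∧ certOK repH64 pathH64 shiftH64 = true ∧
    certOK repI64 pathI64 shiftI64 = true ∧ certOK repJa64 pathJa64 shiftJa64 = true ∧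
    certOK repJb64 pathJb64 shiftJb64 = true ∧ certOK repK64 pathK64 shiftK64 = true ∧
    certOK repL64 pathL64 shiftL64 = true := by
  decide +kernel

theorem monoGroup_isCoatom : IsCoatom monoGroup := by
  refine ⟨fun h => xiCo0_not_mem_monoGroup (h ▸ Subgroup.mem_top _), fun L hL => ?_⟩
  obtain ⟨g, hg, hgn⟩ := SetLike.exists_of_lt hL
  have hK := hL.le
  have hn : sqNorm ((g • eightL none : leechLattice) : GolayPt → ℤ) = 64 := by
    rw [co0_norm]; exact sqNorm_eight none
  obtain ⟨r, hr, _, k, hk, ek, -⟩ := classify64 (g • eightL none).2 hn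
  have ha : k * g ∈ L := mul_mem (hK hk) hg
  have har : (((k * g) • eightL none : leechLattice) : GolayPt → ℤ) = vec r := by
    rw [mul_smul]; exact ek
  obtain ⟨c1, c2, c3, c4, c5, c6, c7⟩ := certs_ok
  simp only [reps64, List.mem_cons, List.not_mem_nil, or_false] at hr
  rcases hr with rfl | rfl | rfl | rfl | rfl | rfl | rfl | rfl | rfl
  · exfalso
    apply hgn
    have e : vec repE64 = eight none := funext (by decide +kernel)
    have h1 : k * g ∈ monoGroup := mem_monoGroup_iff.2
      (preservesCross_of_mem (q := none) (by rw [har, e]; exact eightL_mem_stdCross none))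
    have := mul_mem (inv_mem hk) h1
    rwa [inv_mul_cancel_left] at this
  · exact top_of_shapeF hK ha (har ▸ hasShape_of_b (by decide +kernel))
  exacts [top_of_cert hK ha har c1, top_of_cert hK ha har c2, top_of_cert hK ha har c3,
    top_of_cert hK ha har c4, top_of_cert hK ha har c5, top_of_cert hK ha har c6,
    top_of_cert hK ha har c7]

end CfsgLib.Leech
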