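import Cfsg.Agent.Leech.Tree
import Cfsg.Agent.Leech.TreeData

/-!
Kernel checks of the orbit certificates and the inner product counts read off them.
-/

set_option autoImplicit false
set_option maxRecDepth 100000

namespace CfsgLib.Leech

open TreeData

theorem co2_tree : treeOK co2Fix co2Gens co2Root co2Lvls 4600 = true := by decide +kernel
theorem co3v_tree : treeOK co3vFix co3vGens co3vRoot co3vLvls 552 = true := by decide +kernel
theorem co3m_tree : treeOK co3mFix co3mGens co3mRoot co3mLvls 11178 = true := by decide +kernel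
theorem mcl_tree : treeOK mclFix mclGens mclRoot mclLvls 275 = true := by decide +kernel
theorem hs_tree : treeOK hsFix hsGens hsRoot hsLvls 100 = true := by decide +kernel
theorem u43a_tree : treeOK u43aFix u43aGens u43aRoot u43aLvls 112 = true := by decide +kernel
theorem u43b_tree : treeOK u43bFix u43bGens u43bRoot u43bLvls 162 = true := by decide +kernel
theorem m22a_tree : treeOK m22aFix m22aGens m22aRoot m22aLvls 22 = true := by decide +kernel
theorem m22b_tree : treeOK m22bFix m22bGens m22bRoot m22bLvls 77 = true := by decide +kernel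

/-- The sum of the weighted fields, by the bare recursor. -/
noncomputable def wsum (g : ℤ → ℕ) (f : List ℤ) : ℕ → ℕ :=
  List.rec (motive := fun _ => ℕ → ℕ) (fun _ => 0)
    (fun a _ ih x => Nat.add (Nat.mul (g a) (Nat.mod x 32)) (ih (Nat.shiftRight x 5))) f

/-- The sum of the weights. -/
noncomputable def wtot (g : ℤ → ℕ) (f : List ℤ) : ℕ :=
  List.rec (motive := fun _ => ℕ) 0 (fun a _ ih => Nat.add (g a) ih) f

/-- The inner product with `f`, on packed vectors, in natural numbers until the last step. -/
noncomputable def dotP (f : List ℤ) (c : ℕ) : ℤ :=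
  Int.subNatNat
    (Nat.add (wsum Int.toNat (f.take 24) c) (Nat.mul 16 (wtot (fun a => (-a).toNat) (f.take 24))))
    (Nat.add (wsum (fun a => (-a).toNat) (f.take 24) c) (Nat.mul 16 (wtot Int.toNat (f.take 24))))

theorem dotL_range' (c : ℕ) : ∀ (l : List ℤ) (i n : ℕ), l.length ≤ n →
    dotL l ((List.range' i n).map (pcoord c)) =
      ((wsum Int.toNat l (c >>> (5 * i)) : ℤ) + 16 * (wtot (fun a => (-a).toNat) l : ℕ)) -
        ((wsum (fun a => (-a).toNat) l (c >>> (5 * i)) : ℤ) + 16 * (wtot Int.toNat l : ℕ))
  | [], i, n, _ => by cases n <;> simp [dotL, wsum, wtot, List.range'_succ]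
  | a :: l, i, 0, h => by simp at h
  | a :: l, i, n + 1, h => by
    rw [List.range'_succ, List.map_cons, dotL, dotL_range' c l (i + 1) n (by simpa using h)]
    have e : c >>> (5 * i) >>> 5 = c >>> (5 * (i + 1)) := by
      rw [← Nat.shiftRight_add]; congr 1
    have e1 : ∀ g : ℤ → ℕ, wsum g (a :: l) (c >>> (5 * i)) =
        g a * ((c >>> (5 * i)) % 32) + wsum g l (c >>> (5 * (i + 1))) := fun g => by
      rw [← e]; rfl
    have e2 : ∀ g : ℤ → ℕ, wtot g (a :: l) = g a + wtot g l := fun g => rfl
    rw [e1, e1, e2, e2, pcoord]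
    have ha : a = (a.toNat : ℤ) - ((-a).toNat : ℤ) := by omega
    push_cast
    conv_lhs => rw [ha]
    ring

theorem dotL_take : ∀ (l L : List ℤ), dotL l L = dotL (l.take L.length) L
  | [], _ => by simp
  | _ :: _, [] => by simp [dotL]
  | a :: l, b :: L => by rw [List.length_cons, List.take_succ_cons, dotL, dotL, ← dotL_take l L]

theorem dotP_def (f : List ℤ) (c : ℕ) : dotP f c = dotL f (dec c) := by
  rw [dotL_take, dec_length, dec, List.range_eq_range',
    dotL_range' c (f.take 24) 0 24 (by rw [List.length_take]; omega), dotP, Int.subNatNat_eq_coe,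
    Nat.mul_zero, Nat.shiftRight_zero]
  simp only [Nat.add_eq, Nat.mul_eq]
  push_cast
  ring

theorem co3v_counts :
    ((treeList co3vGens [penc co3vRoot] co3vLvls).countP fun c => dotP mclFix[1] c == 16) = 275 ∧
      ((treeList co3vGens [penc co3vRoot] co3vLvls).countP fun c => dotP hsFix[1] c == -24) = 100 := by
  decide +kernel

theorem mcl_counts :
    ((treeList mclGens [penc mclRoot] mclLvls).countP fun c => dotP mclRoot c == 8) = 112 ∧
      ((treeList mclGens [penc mclRoot] mclLvls).countP fun c => dotP mclRoot c == 16) = 162 ∧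
      ((treeList mclGens [penc mclRoot] mclLvls).countP fun c =>
        dotP mclRoot c != 8 && dotP mclRoot c != 16 && dotP mclRoot c != 32) = 0 := by
  decide +kernel

theorem hs_counts :
    ((treeList hsGens [penc hsRoot] hsLvls).countP fun c => dotP hsRoot c == 8) = 22 ∧
      ((treeList hsGens [penc hsRoot] hsLvls).countP fun c =>
        dotP hsRoot c != 8 && dotP hsRoot c != 32) = 77 := by
  decide +kernel

end CfsgLib.Leech
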