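import Cfsg.Agent.Leech.Configs

/-!
The configurations transported to arbitrary base vectors.
-/

set_option autoImplicit false

namespace CfsgLib.Leech

open Cfsg CfsgLib.Mathieu TreeData

theorem smul_dot_eq {g : Co0} {a b : leechLattice} (e : g • a = b) (x : leechLattice) :
    dotInt (b : GolayPt → ℤ) ((g • x : leechLattice) : GolayPt → ℤ) =
      dotInt (a : GolayPt → ℤ) (x : GolayPt → ℤ) := by
  subst e; exact co0_dot g a x

theorem dot24_iff {u x : GolayPt → ℤ} (hu : sqNorm u = 48) (hx : sqNorm x = 32) :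
    sqNorm (u - x) = 32 ↔ dotInt u x = 24 := by
  rw [sqNorm_sub_dot, hu, hx]; omega

theorem trans4600 (v w w' : leechLattice) (hv : sqNorm (v : GolayPt → ℤ) = 32)
    (hw : sqNorm (w : GolayPt → ℤ) = 32) (hw' : sqNorm (w' : GolayPt → ℤ) = 32)
    (hd : dotInt (v : GolayPt → ℤ) (w : GolayPt → ℤ) = -16)
    (hd' : dotInt (v : GolayPt → ℤ) (w' : GolayPt → ℤ) = -16) : ∃ g : Co0, g • v = v ∧ g • w = w' := by
  obtain ⟨g, hg⟩ := transitive_norm32 v bA hv base_facts.2.1.2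
  obtain ⟨h, hA, e⟩ := to4600 (x := g • w) ⟨(g • w).2, by rw [co0_norm]; exact hw,
    (smul_dot_eq hg w).trans hd⟩ (y := g • w') ⟨(g • w').2, by rw [co0_norm]; exact hw',
    (smul_dot_eq hg w').trans hd'⟩
  refine ⟨g⁻¹ * h * g, ?_, ?_⟩
  · rw [mul_smul, mul_smul, hg, hA, ← hg, inv_smul_smul]
  · rw [mul_smul, mul_smul, e, inv_smul_smul]

theorem trans552 (u v v' : leechLattice) (hu : sqNorm (u : GolayPt → ℤ) = 48)
    (hv : sqNorm (v : GolayPt → ℤ) = 32 ∧ sqNorm ((u : GolayPt → ℤ) - (v : GolayPt → ℤ)) = 32)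
    (hv' : sqNorm (v' : GolayPt → ℤ) = 32 ∧ sqNorm ((u : GolayPt → ℤ) - (v' : GolayPt → ℤ)) = 32) :
    ∃ g : Co0, g • u = u ∧ g • v = v' := by
  obtain ⟨g, gu, gv⟩ := canon552 u v hu hv
  obtain ⟨g', gu', gv'⟩ := canon552 u v' hu hv'
  exact ⟨g'⁻¹ * g, by rw [mul_smul, gu, ← gu', inv_smul_smul], by rw [mul_smul, gv, ← gv', inv_smul_smul]⟩

theorem trans47104 (v w w' : leechLattice) (hv : sqNorm (v : GolayPt → ℤ) = 32)
    (hw : sqNorm (w : GolayPt → ℤ) = 32) (hw' : sqNorm (w' : GolayPt → ℤ) = 32)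
    (hd : dotInt (v : GolayPt → ℤ) (w : GolayPt → ℤ) = -8)
    (hd' : dotInt (v : GolayPt → ℤ) (w' : GolayPt → ℤ) = -8) : ∃ g : Co0, g • v = v ∧ g • w = w' := by
  have hsum : ∀ z : leechLattice, sqNorm (z : GolayPt → ℤ) = 32 →
      dotInt (v : GolayPt → ℤ) (z : GolayPt → ℤ) = -8 →
      ∃ g : Co0, g • (v + z) = bD ∧ g • v = bA := by
    intro z hz hdz
    refine canon552 (v + z) v ?_ ⟨hv, ?_⟩
    · have e : sqNorm ((v : GolayPt → ℤ) + (z : GolayPt → ℤ)) = sqNorm (v : GolayPt → ℤ) +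
          2 * dotInt (v : GolayPt → ℤ) (z : GolayPt → ℤ) + sqNorm (z : GolayPt → ℤ) := by
        simp only [sqNorm, dotInt, Pi.add_apply, Finset.mul_sum, ← Finset.sum_add_distrib]
        exact Finset.sum_congr rfl fun i _ => by ring
      rw [AddSubgroup.coe_add, e, hv, hz, hdz]; norm_num
    · rw [AddSubgroup.coe_add, add_sub_cancel_left]; exact hz
  obtain ⟨g, gs, gv⟩ := hsum w hw hd
  obtain ⟨g', gs', gv'⟩ := hsum w' hw' hd'
  have hv' : (g'⁻¹ * g) • v = v := by rw [mul_smul, gv, ← gv', inv_smul_smul]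
  have hs : (g'⁻¹ * g) • (v + w) = v + w' := by rw [mul_smul, gs, ← gs', inv_smul_smul]
  rw [co0_add, hv'] at hs
  exact ⟨_, hv', add_left_cancel hs⟩

theorem mcl_transport {g : Co0} {u v : leechLattice} (gu : g • u = bD) (gv : g • v = bA)
    (hu : sqNorm (u : GolayPt → ℤ) = 48) (x : leechLattice) :
    (sqNorm (x : GolayPt → ℤ) = 32 ∧ sqNorm ((u : GolayPt → ℤ) - (x : GolayPt → ℤ)) = 32 ∧
        dotInt (v : GolayPt → ℤ) (x : GolayPt → ℤ) = 16) ↔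
      ((g • x : leechLattice) : GolayPt → ℤ) ∈ set275 := by
  have e1 := smul_dot_eq gu x
  have e2 := smul_dot_eq gv x
  constructor
  · rintro ⟨h1, h2, h3⟩
    exact ⟨⟨(g • x).2, by rw [co0_norm]; exact h1, e1.trans ((dot24_iff hu h1).1 h2)⟩, e2.trans h3⟩
  · rintro ⟨⟨-, h1, h2⟩, h3⟩
    rw [co0_norm] at h1
    exact ⟨h1, (dot24_iff hu h1).2 (e1.symm.trans h2), e2.symm.trans h3⟩

theorem mcl_config (u v : leechLattice) (hu : sqNorm (u : GolayPt → ℤ) = 48)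
    (hv : sqNorm (v : GolayPt → ℤ) = 32 ∧ sqNorm ((u : GolayPt → ℤ) - (v : GolayPt → ℤ)) = 32) :
    {x : leechLattice | sqNorm (x : GolayPt → ℤ) = 32 ∧
        sqNorm ((u : GolayPt → ℤ) - (x : GolayPt → ℤ)) = 32 ∧
        dotInt (v : GolayPt → ℤ) (x : GolayPt → ℤ) = 16}.ncard = 275 ∧
      ∀ x : leechLattice, (sqNorm (x : GolayPt → ℤ) = 32 ∧
          sqNorm ((u : GolayPt → ℤ) - (x : GolayPt → ℤ)) = 32 ∧
          dotInt (v : GolayPt → ℤ) (x : GolayPt → ℤ) = 16) →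
        ∃ g : Co0, g • u = bD ∧ g • v = bA ∧ g • x = bX := by
  obtain ⟨g, gu, gv⟩ := canon552 u v hu hv
  refine ⟨?_, fun x hx => ?_⟩
  · rw [ncard_transport g _ (fun z : leechLattice => (z : GolayPt → ℤ) ∈ set275)
      (mcl_transport gu gv hu), ncard_val (fun z => z ∈ set275) fun z hz => hz.1.1]
    exact ncard_set275
  · obtain ⟨h, hD, hA, hX⟩ := to275 ((mcl_transport gu gv hu x).1 hx)
    exact ⟨h * g, by rw [mul_smul, gu, hD], by rw [mul_smul, gv, hA], by rw [mul_smul, hX]⟩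

theorem hs_transport {g : Co0} {v w : leechLattice} (gv : g • v = bD) (gw : g • w = bW)
    (x : leechLattice) :
    (sqNorm (x : GolayPt → ℤ) = 32 ∧ dotInt (v : GolayPt → ℤ) (x : GolayPt → ℤ) = 24 ∧
        dotInt (w : GolayPt → ℤ) (x : GolayPt → ℤ) = -24) ↔
      ((g • x : leechLattice) : GolayPt → ℤ) ∈ set100 := by
  have e1 := smul_dot_eq gv x
  have e2 := smul_dot_eq gw x
  constructor
  · rintro ⟨h1, h2, h3⟩
    exact ⟨⟨(g • x).2, by rw [co0_norm]; exact h1, e1.trans h2⟩, e2.trans h3⟩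
  · rintro ⟨⟨-, h1, h2⟩, h3⟩
    rw [co0_norm] at h1
    exact ⟨h1, e1.symm.trans h2, e2.symm.trans h3⟩

theorem hs_config (v w : leechLattice) (hv : sqNorm (v : GolayPt → ℤ) = 48)
    (hw : sqNorm (w : GolayPt → ℤ) = 48) (hd : dotInt (v : GolayPt → ℤ) (w : GolayPt → ℤ) = -32) :
    {x : leechLattice | sqNorm (x : GolayPt → ℤ) = 32 ∧
        dotInt (v : GolayPt → ℤ) (x : GolayPt → ℤ) = 24 ∧
        dotInt (w : GolayPt → ℤ) (x : GolayPt → ℤ) = -24}.ncard = 100 ∧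
      ∀ x : leechLattice, (sqNorm (x : GolayPt → ℤ) = 32 ∧
          dotInt (v : GolayPt → ℤ) (x : GolayPt → ℤ) = 24 ∧
          dotInt (w : GolayPt → ℤ) (x : GolayPt → ℤ) = -24) →
        ∃ g : Co0, g • v = bD ∧ g • w = bW ∧ g • x = bA := by
  obtain ⟨g, gv, gw⟩ := canonHS v w hv hw hd
  refine ⟨?_, fun x hx => ?_⟩
  · rw [ncard_transport g _ (fun z : leechLattice => (z : GolayPt → ℤ) ∈ set100)
      (hs_transport gv gw), ncard_val (fun z => z ∈ set100) fun z hz => hz.1.1]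
    exact ncard_set100
  · obtain ⟨h, hD, hW, hA⟩ := to100 ((hs_transport gv gw x).1 hx)
    exact ⟨h * g, by rw [mul_smul, gv, hD], by rw [mul_smul, gw, hW], by rw [mul_smul, hA]⟩

theorem mcl_rank3 (u v x : leechLattice) (hu : sqNorm (u : GolayPt → ℤ) = 48)
    (hv : sqNorm (v : GolayPt → ℤ) = 32 ∧ sqNorm ((u : GolayPt → ℤ) - (v : GolayPt → ℤ)) = 32)
    (hx : sqNorm (x : GolayPt → ℤ) = 32 ∧ sqNorm ((u : GolayPt → ℤ) - (x : GolayPt → ℤ)) = 32 ∧
      dotInt (v : GolayPt → ℤ) (x : GolayPt → ℤ) = 16) :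
    ∃ g : Co0, g • u = bD ∧ g • v = bA ∧ g • x = bX ∧
      (∀ y : leechLattice, (sqNorm (y : GolayPt → ℤ) = 32 ∧
          sqNorm ((u : GolayPt → ℤ) - (y : GolayPt → ℤ)) = 32 ∧
          dotInt (v : GolayPt → ℤ) (y : GolayPt → ℤ) = 16) ↔
        ((g • y : leechLattice) : GolayPt → ℤ) ∈ set275) ∧
      ∀ y : leechLattice, dotInt (x : GolayPt → ℤ) (y : GolayPt → ℤ) =
        dotInt baseX ((g • y : leechLattice) : GolayPt → ℤ) := by
  obtain ⟨g, gu, gv, gx⟩ := (mcl_config u v hu hv).2 x hx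
  exact ⟨g, gu, gv, gx, mcl_transport gu gv hu, fun y => (smul_dot_eq gx y).symm⟩

theorem hs_rank3 (v w x : leechLattice) (hv : sqNorm (v : GolayPt → ℤ) = 48)
    (hw : sqNorm (w : GolayPt → ℤ) = 48) (hd : dotInt (v : GolayPt → ℤ) (w : GolayPt → ℤ) = -32)
    (hx : sqNorm (x : GolayPt → ℤ) = 32 ∧ dotInt (v : GolayPt → ℤ) (x : GolayPt → ℤ) = 24 ∧
      dotInt (w : GolayPt → ℤ) (x : GolayPt → ℤ) = -24) :
    ∃ g : Co0, g • v = bD ∧ g • w = bW ∧ g • x = bA ∧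
      (∀ y : leechLattice, (sqNorm (y : GolayPt → ℤ) = 32 ∧
          dotInt (v : GolayPt → ℤ) (y : GolayPt → ℤ) = 24 ∧
          dotInt (w : GolayPt → ℤ) (y : GolayPt → ℤ) = -24) ↔
        ((g • y : leechLattice) : GolayPt → ℤ) ∈ set100) ∧
      ∀ y : leechLattice, dotInt (x : GolayPt → ℤ) (y : GolayPt → ℤ) =
        dotInt baseA ((g • y : leechLattice) : GolayPt → ℤ) := by
  obtain ⟨g, gv, gw, gx⟩ := (hs_config v w hv hw hd).2 x hx
  exact ⟨g, gv, gw, gx, hs_transport gv gw, fun y => (smul_dot_eq gx y).symm⟩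

theorem hs_pair (v w : leechLattice) (hv : sqNorm (v : GolayPt → ℤ) = 48)
    (hw : sqNorm (w : GolayPt → ℤ) = 48) (hd : dotInt (v : GolayPt → ℤ) (w : GolayPt → ℤ) = -32) :
    ∃ g : Co0, g • v = w ∧ g • w = v := by
  obtain ⟨g, gv, gw⟩ := canonHS v w hv hw hd
  obtain ⟨h, hw', hv'⟩ := canonHS w v hw hv (by
    rw [← hd]; exact Finset.sum_congr rfl fun i _ => mul_comm _ _)
  exact ⟨h⁻¹ * g, by rw [mul_smul, gv, ← hw', inv_smul_smul],
    by rw [mul_smul, gw, ← hv', inv_smul_smul]⟩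

end CfsgLib.Leech
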