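import Cfsg.Agent.Leech.Co0

/-!
Certificate data for the orbits of the automorphism group on short lattice vectors.
-/

set_option autoImplicit false

namespace CfsgLib.Leech

/-- Representative A32. -/
def repA32 : List ℤ := [4, 0, 0, 0, 0, 0, 0, 0, 0, 0, 0, 0, 0, 0, 0, 0, 0, 0, 0, 0, 0, 0, 0, 4]

/-- Representative B32. -/
def repB32 : List ℤ := [2, 2, 2, 2, 2, 0, 0, 2, 0, 0, 2, 0, 2, 0, 0, 0, 0, 0, 0, 0, 0, 0, 0, 0]

/-- Representative C32. -/
def repC32 : List ℤ := [1, 1, 1, 1, 1, 1, 1, 1, 1, 1, 1, 1, 1, 1, 1, 1, 1, 1, 1, 1, 1, 1, 1, -3]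

/-- Representative A48. -/
def repA48 : List ℤ := [2, 2, 2, 2, 2, 0, 2, 0, 2, 2, 0, 0, 2, 2, 0, 0, 2, 0, 2, 0, 0, 0, 0, 0]

/-- Representative B48. -/
def repB48 : List ℤ := [-3, -3, 1, 1, 1, 1, 1, 1, 1, 1, 1, 1, 1, 1, 1, 1, 1, 1, 1, 1, 1, 1, 1, -3]

/-- Representative C48. -/
def repC48 : List ℤ := [-2, 2, 2, 2, 2, 0, 0, 2, 0, 0, 2, 0, 2, 0, 0, 0, 0, 0, 0, 0, 0, 0, 0, 4]

/-- Representative D48. -/
def repD48 : List ℤ := [1, 1, 1, 1, 1, 1, 1, 1, 1, 1, 1, 1, 1, 1, 1, 1, 1, 1, 1, 1, 1, 1, 1, 5]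

/-- Representative E64. -/
def repE64 : List ℤ := [0, 0, 0, 0, 0, 0, 0, 0, 0, 0, 0, 0, 0, 0, 0, 0, 0, 0, 0, 0, 0, 0, 0, 8]

/-- Representative F64. -/
def repF64 : List ℤ := [4, 4, 4, 0, 0, 0, 0, 0, 0, 0, 0, 0, 0, 0, 0, 0, 0, 0, 0, 0, 0, 0, 0, 4]

/-- Representative G64. -/
def repG64 : List ℤ := [2, 0, 2, 0, 2, 2, 2, 0, 0, 0, 2, 2, 0, 0, 0, 0, 0, 0, 0, 0, 0, 0, 0, -6]

/-- Representative H64. -/
def repH64 : List ℤ := [2, 2, 2, 2, 2, 4, 0, 2, 0, 0, 2, 0, 2, 0, 0, 0, 0, 0, 0, 0, 0, 0, 0, 4]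

/-- Representative I64. -/
def repI64 : List ℤ := [4, 0, 0, 0, 0, -2, 0, 2, 0, 0, 2, 2, 0, 0, 2, 2, 0, 2, 0, 2, 2, 2, 2, 2]

/-- Representative Ja64. -/
def repJa64 : List ℤ := [0, 0, 0, 0, 0, 2, 2, 0, 2, 2, 0, 2, 0, 2, 2, 2, 2, 2, 2, 2, 2, 2, 2, 2]

/-- Representative Jb64. -/
def repJb64 : List ℤ := [0, 0, 0, 0, 0, -2, 2, 0, 2, 2, 0, 2, 0, 2, 2, 2, 2, 2, 2, 2, 2, 2, 2, -2]

/-- Representative K64. -/
def repK64 : List ℤ := [-3, -3, -3, -3, 1, 1, 1, 1, 1, 1, 1, 1, 1, 1, 1, 1, 1, 1, 1, 1, 1, 1, 1, -3]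

/-- Representative L64. -/
def repL64 : List ℤ := [-3, -3, 1, 1, 1, 1, 1, 1, 1, 1, 1, 1, 1, 1, 1, 1, 1, 1, 1, 1, 1, 1, 1, 5]

/-- Moves from B32 to the shape A32. -/
def edgeB32 : List Mv := [.mono 467986202882515198379002831222525888367340740662530675981 13850200, .xi]

/-- Moves from C32 to the shape B32. -/
def edgeC32 : List Mv := [.mono 343286868542894264670707800150518207413538906014563439376 2225919, .xi]

/-- Moves from B48 to the shape A48. -/
def edgeB48 : List Mv := [.mono 345387324007078986359457920142229054024031873689626940176 3223281, .xi]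

/-- Moves from C48 to the shape A48. -/
def edgeC48 : List Mv := [.mono 270104605986853696984537152035086423568882817385071970836 16451734, .xi]

/-- Moves from D48 to the shape C48. -/
def edgeD48 : List Mv := [.mono 295295375578325470227494409572994872520552946171092406281 8049738, .xi]

/-- Moves from F64 to the shape E64. -/
def edgeF64 : List Mv := [.mono 99523554125418361323594235533272121747706306557924677136 3380271, .xi]

/-- Moves from G64 to the shape F64. -/
def edgeG64 : List Mv := [.mono 124520889585397108557771204362182495258861126255516849926 5884439, .xi]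

/-- Moves from H64 to the shape F64. -/
def edgeH64 : List Mv := [.mono 392511561837368058805239146664633406616172023111711328531 10991421, .xi]

/-- Moves from I64 to the shape H64. -/
def edgeI64 : List Mv := [.mono 442606494846570872877410282213597246171214375275276732931 14369053, .xi]

/-- Moves from Ja64 to the shape F64. -/
def edgeJa64 : List Mv := [.mono 443372371344094208943644981230211680008399119993762157576 15171795, .xi]

/-- Moves from Jb64 to the shape F64. -/
def edgeJb64 : List Mv := [.mono 75477667918113410716170912502638722594584065642885808386 2104311, .xi]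

/-- Moves from K64 to the shape H64. -/
def edgeK64 : List Mv := [.mono 516170771933776746678705729984756627189328375717682545431 12347715, .xi]

/-- Moves from L64 to the shape H64. -/
def edgeL64 : List Mv := [.mono 296449621233529981780008656412914381154865269762785741061 8201865, .xi]

/-- Sign witnesses of A32. -/
def witA32 : ℕ × List ℕ := (24, [1302533, 13938692])

/-- Sign witnesses of B32. -/
def witB32 : ℕ × List ℕ := (12, [13062145, 4845570, 13938692, 7221256, 10170384, 2019456, 11654144])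

/-- Sign witnesses of A48. -/
def witA48 : ℕ × List ℕ := (18, [7767041, 5129250, 8126628, 13009064, 10257456, 15515712, 2409888, 13911680, 2019456, 11952160, 11469952])

/-- Sign witnesses of C48. -/
def witC48 : ℕ × List ℕ := (12, [7417889, 4845570, 6475812, 7221256, 2969648, 2019456, 504864, 11952160])

/-- Sign witnesses of E64. -/
def witE64 : ℕ × List ℕ := (24, [13062145])

/-- Sign witnesses of F64. -/
def witF64 : ℕ × List ℕ := (24, [6053905, 4845570, 5210132, 10170384])

/-- Sign witnesses of G64. -/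
def witG64 : ℕ × List ℕ := (23, [13062145, 13938692, 10170384, 11952160, 15515712, 11654144, 14919680])

/-- Sign witnesses of H64. -/
def witH64 : ℕ × List ℕ := (12, [2854977, 4845570, 3698756, 7221256, 7860304, 5939296, 2019456, 6100032, 15515712])

/-- Sign witnesses of I64. -/
def witI64 : ℕ × List ℕ := (23, [340831, 8455014, 8401364, 8721940, 8464984, 8474906, 8683614, 8855820, 8925710, 9708306, 10825794, 12849992])

/-- Sign classes off the octad. -/
def witJ : List ((ℕ × ℕ) × (ℕ × ℕ)) := List.flatten [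
  [((5, 5), (23, 0)), ((5, 6), (11, 8394986)), ((5, 8), (15, 8421811)), ((5, 9), (22, 12587685))],
  [((5, 11), (6, 8394986)), ((5, 13), (18, 8663097)), ((5, 14), (17, 8536111)), ((5, 15), (8, 8421811))],
  [((5, 16), (19, 8978620)), ((5, 17), (14, 8536111)), ((5, 18), (13, 8663097)), ((5, 19), (16, 8978620))],
  [((5, 20), (21, 11538486)), ((5, 21), (20, 11538486)), ((5, 22), (9, 12587685)), ((5, 23), (5, 0))],
  [((6, 5), (11, 8394986)), ((6, 6), (23, 0)), ((6, 8), (13, 8401364)), ((6, 9), (17, 8524371))],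
  [((6, 11), (5, 8394986)), ((6, 13), (8, 8401364)), ((6, 14), (22, 12599513)), ((6, 15), (18, 8683614))],
  [((6, 16), (20, 9506893)), ((6, 17), (9, 8524371)), ((6, 18), (15, 8683614)), ((6, 19), (21, 11010247))],
  [((6, 20), (16, 9506893)), ((6, 21), (19, 11010247)), ((6, 22), (14, 12599513)), ((6, 23), (6, 0))],
  [((8, 5), (15, 8421811)), ((8, 6), (13, 8401364)), ((8, 8), (23, 0)), ((8, 9), (21, 10486557))],
  [((8, 11), (18, 8657159)), ((8, 13), (6, 8401364)), ((8, 14), (16, 8474906)), ((8, 15), (5, 8421811))],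
  [((8, 16), (14, 8474906)), ((8, 17), (19, 9048457)), ((8, 18), (11, 8657159)), ((8, 19), (17, 9048457))],
  [((8, 20), (22, 13631886)), ((8, 21), (9, 10486557)), ((8, 22), (20, 13631886)), ((8, 23), (8, 0))],
  [((9, 5), (22, 12587685)), ((9, 6), (17, 8524371)), ((9, 8), (21, 10486557)), ((9, 9), (23, 0))],
  [((9, 11), (14, 8407702)), ((9, 13), (19, 8925710)), ((9, 14), (11, 8407702)), ((9, 15), (20, 9474712))],
  [((9, 16), (18, 8716939)), ((9, 17), (6, 8524371)), ((9, 18), (16, 8716939)), ((9, 19), (13, 8925710))],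
  [((9, 20), (15, 9474712)), ((9, 21), (8, 10486557)), ((9, 22), (5, 12587685)), ((9, 23), (9, 0))],
  [((11, 5), (6, 8394986)), ((11, 6), (5, 8394986)), ((11, 8), (18, 8657159)), ((11, 9), (14, 8407702))],
  [((11, 11), (23, 0)), ((11, 13), (15, 8431757)), ((11, 14), (9, 8407702)), ((11, 15), (13, 8431757))],
  [((11, 16), (21, 10557585)), ((11, 17), (22, 12720156)), ((11, 18), (8, 8657159)), ((11, 19), (20, 9963547))],
  [((11, 20), (19, 9963547)), ((11, 21), (16, 10557585)), ((11, 22), (17, 12720156)), ((11, 23), (11, 0))],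
  [((13, 5), (18, 8663097)), ((13, 6), (8, 8401364)), ((13, 8), (6, 8401364)), ((13, 9), (19, 8925710))],
  [((13, 11), (15, 8431757)), ((13, 13), (23, 0)), ((13, 14), (20, 9465987)), ((13, 15), (11, 8431757))],
  [((13, 16), (22, 12656663)), ((13, 17), (21, 10625178)), ((13, 18), (5, 8663097)), ((13, 19), (9, 8925710))],
  [((13, 20), (14, 9465987)), ((13, 21), (17, 10625178)), ((13, 22), (16, 12656663)), ((13, 23), (13, 0))],
  [((14, 5), (17, 8536111)), ((14, 6), (22, 12599513)), ((14, 8), (16, 8474906)), ((14, 9), (11, 8407702))],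
  [((14, 11), (9, 8407702)), ((14, 13), (20, 9465987)), ((14, 14), (23, 0)), ((14, 15), (19, 8966165))],
  [((14, 16), (8, 8474906)), ((14, 17), (5, 8536111)), ((14, 18), (21, 10768524)), ((14, 19), (15, 8966165))],
  [((14, 20), (13, 9465987)), ((14, 21), (18, 10768524)), ((14, 22), (6, 12599513)), ((14, 23), (14, 0))],
  [((15, 5), (8, 8421811)), ((15, 6), (18, 8683614)), ((15, 8), (5, 8421811)), ((15, 9), (20, 9474712))],
  [((15, 11), (13, 8431757)), ((15, 13), (11, 8431757)), ((15, 14), (19, 8966165)), ((15, 15), (23, 0))],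
  [((15, 16), (17, 8622214)), ((15, 17), (16, 8622214)), ((15, 18), (6, 8683614)), ((15, 19), (14, 8966165))],
  [((15, 20), (9, 9474712)), ((15, 21), (22, 14716939)), ((15, 22), (21, 14716939)), ((15, 23), (15, 0))],
  [((16, 5), (19, 8978620)), ((16, 6), (20, 9506893)), ((16, 8), (14, 8474906)), ((16, 9), (18, 8716939))],
  [((16, 11), (21, 10557585)), ((16, 13), (22, 12656663)), ((16, 14), (8, 8474906)), ((16, 15), (17, 8622214))],
  [((16, 16), (23, 0)), ((16, 17), (15, 8622214)), ((16, 18), (9, 8716939)), ((16, 19), (5, 8978620))],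
  [((16, 20), (6, 9506893)), ((16, 21), (11, 10557585)), ((16, 22), (13, 12656663)), ((16, 23), (16, 0))],
  [((17, 5), (14, 8536111)), ((17, 6), (9, 8524371)), ((17, 8), (19, 9048457)), ((17, 9), (6, 8524371))],
  [((17, 11), (22, 12720156)), ((17, 13), (21, 10625178)), ((17, 14), (5, 8536111)), ((17, 15), (16, 8622214))],
  [((17, 16), (15, 8622214)), ((17, 17), (23, 0)), ((17, 18), (20, 9830549)), ((17, 19), (8, 9048457))],
  [((17, 20), (18, 9830549)), ((17, 21), (13, 10625178)), ((17, 22), (11, 12720156)), ((17, 23), (17, 0))],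
  [((18, 5), (13, 8663097)), ((18, 6), (15, 8683614)), ((18, 8), (11, 8657159)), ((18, 9), (16, 8716939))],
  [((18, 11), (8, 8657159)), ((18, 13), (5, 8663097)), ((18, 14), (21, 10768524)), ((18, 15), (6, 8683614))],
  [((18, 16), (9, 8716939)), ((18, 17), (20, 9830549)), ((18, 18), (23, 0)), ((18, 19), (22, 13373586))],
  [((18, 20), (17, 9830549)), ((18, 21), (14, 10768524)), ((18, 22), (19, 13373586)), ((18, 23), (18, 0))],
  [((19, 5), (16, 8978620)), ((19, 6), (21, 11010247)), ((19, 8), (17, 9048457)), ((19, 9), (13, 8925710))],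
  [((19, 11), (20, 9963547)), ((19, 13), (9, 8925710)), ((19, 14), (15, 8966165)), ((19, 15), (14, 8966165))],
  [((19, 16), (5, 8978620)), ((19, 17), (8, 9048457)), ((19, 18), (22, 13373586)), ((19, 19), (23, 0))],
  [((19, 20), (11, 9963547)), ((19, 21), (6, 11010247)), ((19, 22), (18, 13373586)), ((19, 23), (19, 0))],
  [((20, 5), (21, 11538486)), ((20, 6), (16, 9506893)), ((20, 8), (22, 13631886)), ((20, 9), (15, 9474712))],
  [((20, 11), (19, 9963547)), ((20, 13), (14, 9465987)), ((20, 14), (13, 9465987)), ((20, 15), (9, 9474712))],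
  [((20, 16), (6, 9506893)), ((20, 17), (18, 9830549)), ((20, 18), (17, 9830549)), ((20, 19), (11, 9963547))],
  [((20, 20), (23, 0)), ((20, 21), (5, 11538486)), ((20, 22), (8, 13631886)), ((20, 23), (20, 0))],
  [((21, 5), (20, 11538486)), ((21, 6), (19, 11010247)), ((21, 8), (9, 10486557)), ((21, 9), (8, 10486557))],
  [((21, 11), (16, 10557585)), ((21, 13), (17, 10625178)), ((21, 14), (18, 10768524)), ((21, 15), (22, 14716939))],
  [((21, 16), (11, 10557585)), ((21, 17), (13, 10625178)), ((21, 18), (14, 10768524)), ((21, 19), (6, 11010247))],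
  [((21, 20), (5, 11538486)), ((21, 21), (23, 0)), ((21, 22), (15, 14716939)), ((21, 23), (21, 0))],
  [((22, 5), (9, 12587685)), ((22, 6), (14, 12599513)), ((22, 8), (20, 13631886)), ((22, 9), (5, 12587685))],
  [((22, 11), (17, 12720156)), ((22, 13), (16, 12656663)), ((22, 14), (6, 12599513)), ((22, 15), (21, 14716939))],
  [((22, 16), (13, 12656663)), ((22, 17), (11, 12720156)), ((22, 18), (19, 13373586)), ((22, 19), (18, 13373586))],
  [((22, 20), (8, 13631886)), ((22, 21), (15, 14716939)), ((22, 22), (23, 0)), ((22, 23), (22, 0))],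
  [((23, 5), (5, 0)), ((23, 6), (6, 0)), ((23, 8), (8, 0)), ((23, 9), (9, 0))],
  [((23, 11), (11, 0)), ((23, 13), (13, 0)), ((23, 14), (14, 0)), ((23, 15), (15, 0))],
  [((23, 16), (16, 0)), ((23, 17), (17, 0)), ((23, 18), (18, 0)), ((23, 19), (19, 0))],
  [((23, 20), (20, 0)), ((23, 21), (21, 0)), ((23, 22), (22, 0)), ((23, 23), (23, 0))]]

end CfsgLib.Leech
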