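import Cfsg.Agent.Leech.Shapes
import Cfsg.Agent.Leech.OrbitData

/-!
Transitivity of `Cfsg.Co0` on the lattice vectors of norm 32, 48 and 64.
-/

set_option autoImplicit false

namespace CfsgLib.Leech

open Cfsg CfsgLib.Mathieu CfsgLib.GolayConfig
open scoped Pointwise symmDiff

theorem reach_of_abs_odd {x y : GolayPt → ℤ} (hx : x ∈ leechLattice) (hy : y ∈ leechLattice)
    {σ : Equiv.Perm GolayPt} (hσ : σ ∈ M24) (h : ∀ p, (x (σ p)).natAbs = (y p).natAbs)
    (hodd : y none % 2 = 1) : ReachG monoGroup [] x y := by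
  obtain ⟨c, hc, e⟩ := exists_signs_odd (perm_mem hσ hx) hy h hodd
  refine (reachL_perm hσ hx).trans ?_
  have := reachL_mono (F := []) (one_mem M24) hc (by simp) (perm_mem hσ hx)
  rwa [e] at this

theorem reach_of_abs_even {x y : GolayPt → ℤ} (hx : x ∈ leechLattice) (hy : y ∈ leechLattice)
    {σ : Equiv.Perm GolayPt} (hσ : σ ∈ M24) (h : ∀ p, (x (σ p)).natAbs = (y p).natAbs)
    (hev : y none % 2 = 0) {w : ℕ × List ℕ} (hw : witOK y w.1 w.2 = true) : ReachG monoGroup [] x y := by
  obtain ⟨c, hc, e⟩ := exists_signs_even (perm_mem hσ hx) hy h hev hw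
  refine (reachL_perm hσ hx).trans ?_
  have := reachL_mono (F := []) (one_mem M24) hc (by simp) (perm_mem hσ hx)
  rwa [e] at this

/-- A vector with prescribed nonzero counts of absolute values. -/
structure HasShape (x : GolayPt → ℤ) (spec : List (ℕ × ℕ)) : Prop where
  mem : x ∈ leechLattice
  small : sqNorm x ≤ 80
  counts : ∀ v ∈ List.range 9, nv x v = ((spec.find? fun e => e.1 == v).map Prod.snd).getD 0

theorem HasShape.val_mem {x : GolayPt → ℤ} {spec : List (ℕ × ℕ)} (h : HasShape x spec) (p : GolayPt) :
    (x p).natAbs ∈ spec.map Prod.fst := by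
  refine mem_of_nv h.small _ (fun v hv hne => ?_) p
  rw [h.counts v hv, List.find?_eq_none.mpr]
  · rfl
  · intro e he h'
    exact hne (List.mem_map.mpr ⟨e, he, beq_iff_eq.mp h'⟩)

/-- Decidable form of `HasShape` for explicit vectors. -/
def shapeB (l : List ℤ) (spec : List (ℕ × ℕ)) : Bool :=
  leechB (vec l) && decide (sqNorm (vec l) ≤ 80) &&
    (List.range 9).all fun v => nv (vec l) v == ((spec.find? fun e => e.1 == v).map Prod.snd).getD 0

theorem hasShape_of_b {l : List ℤ} {spec : List (ℕ × ℕ)} (h : shapeB l spec = true) :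
    HasShape (vec l) spec := by
  simp only [shapeB, Bool.and_eq_true, decide_eq_true_eq, List.all_eq_true, beq_iff_eq] at h
  exact ⟨leechB_iff.mp h.1.1, h.1.2, h.2⟩

theorem one_level_abs {x y : GolayPt → ℤ} {v b n m : ℕ} (hx : HasShape x [(b, m), (v, n)])
    (hy : HasShape y [(b, m), (v, n)]) (hne : b ≠ v) (hv : v < 9) (hn : n ≤ 5) :
    ∃ σ ∈ M24, ∀ p, (x (σ p)).natAbs = (y p).natAbs := by
  have hc : ∀ z : GolayPt → ℤ, HasShape z [(b, m), (v, n)] → (lev z v).card = n := fun z hz => by
    have := hz.counts v (List.mem_range.mpr hv)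
    simp only [List.find?_cons, beq_eq_false_iff_ne.mpr hne, beq_self_eq_true, Option.map_some,
      Option.getD_some] at this
    exact this
  obtain ⟨σ, hσ, e⟩ := exists_map_set (s := lev y v) (t := lev x v) (by rw [hc x hx, hc y hy])
    (by rw [hc y hy]; exact hn)
  refine ⟨σ, hσ, abs_of_levels σ [v] b (fun p => by simpa using hx.val_mem p)
    (fun p => by simpa using hy.val_mem p) (fun w hw => ?_)⟩
  rw [List.mem_singleton.mp hw]; exact e

theorem twos_octad {x : GolayPt → ℤ} (hx : x ∈ leechLattice) (h : sqNorm x ≤ 80)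
    (hev : (x none).natAbs % 2 = 0) (h8 : nv x 2 + nv x 6 = 8) : lev x 2 ∪ lev x 6 ∈ octads := by
  refine ⟨lev_twos_mem hx h hev, ?_⟩
  rw [Finset.card_union_of_disjoint]
  · exact h8
  · exact Finset.disjoint_left.mpr fun p h2 h6 => by rw [mem_lev] at h2 h6; omega

theorem even_none {x : GolayPt → ℤ} {spec : List (ℕ × ℕ)} (h : HasShape x spec)
    (hs : ∀ e ∈ spec, e.1 % 2 = 0) : (x none).natAbs % 2 = 0 := by
  obtain ⟨e, he, e1⟩ := List.mem_map.mp (h.val_mem none)
  rw [← e1]; exact hs e he

theorem exists_single {x : GolayPt → ℤ} {v : ℕ} (h : nv x v = 1) : ∃ a, lev x v = {a} :=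
  Finset.card_eq_one.mp h

theorem image_compl_perm (σ : Equiv.Perm GolayPt) (s : Finset GolayPt) :
    sᶜ.image σ = (s.image σ)ᶜ := by
  ext p
  simp only [Finset.mem_image, Finset.mem_compl]
  constructor
  · rintro ⟨q, hq, rfl⟩ ⟨r, hr, e⟩; exact hq (σ.injective e ▸ hr)
  · intro hp; exact ⟨σ⁻¹ p, fun h => hp ⟨_, h, perm_apply_inv σ p⟩, perm_apply_inv σ p⟩

/-! ### Norm 32 -/

/-- Shape with two fours. -/
def shA32 : List (ℕ × ℕ) := [(0, 22), (4, 2)]
/-- Shape of an octad of twos. -/
def shB32 : List (ℕ × ℕ) := [(0, 16), (2, 8)]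
/-- Shape with one three. -/
def shC32 : List (ℕ × ℕ) := [(1, 23), (3, 1)]

theorem toA32 {x : GolayPt → ℤ} (hx : HasShape x shA32) : ReachG monoGroup [] x (vec repA32) := by
  have hy : HasShape (vec repA32) shA32 := hasShape_of_b (by decide +kernel)
  obtain ⟨σ, hσ, h⟩ := one_level_abs hx hy (by norm_num) (by norm_num) (by norm_num)
  exact reach_of_abs_even hx.mem hy.mem hσ h (by decide +kernel) (w := witA32) (by decide +kernel)

theorem toB32 {x : GolayPt → ℤ} (hx : HasShape x shB32) : ReachG monoGroup [] x (vec repB32) := by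
  have hy : HasShape (vec repB32) shB32 := hasShape_of_b (by decide +kernel)
  have h2 : nv x 2 = 8 := hx.counts 2 (by simp)
  have h6 : nv x 6 = 0 := hx.counts 6 (by simp)
  have ho := twos_octad hx.mem hx.small (even_none hx (by decide)) (by omega)
  rw [nv, Finset.card_eq_zero] at h6
  rw [h6, Finset.union_empty] at ho
  have hyo : lev (vec repB32) 2 = setOf24 cOctN := by decide +kernel
  obtain ⟨σ, hσ, e⟩ := M24_octad_transitive (o := lev (vec repB32) 2)
    (hyo ▸ setOf24_mem_wordsOfWeight (by decide +kernel) (by decide +kernel)) ho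
  refine reach_of_abs_even hx.mem hy.mem hσ (abs_of_levels σ [2] 0
    (fun p => by simpa [shB32] using hx.val_mem p) (fun p => by simpa [shB32] using hy.val_mem p)
    (fun w hw => by rw [List.mem_singleton.mp hw]; exact e))
    (by decide +kernel) (w := witB32) (by decide +kernel)

theorem toC32 {x : GolayPt → ℤ} (hx : HasShape x shC32) : ReachG monoGroup [] x (vec repC32) := by
  have hy : HasShape (vec repC32) shC32 := hasShape_of_b (by decide +kernel)
  obtain ⟨σ, hσ, h⟩ := one_level_abs hx hy (by norm_num) (by norm_num) (by norm_num)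
  exact reach_of_abs_odd hx.mem hy.mem hσ h (by decide +kernel)

/-- A move from a representative into a known shape. -/
theorem reach_edge {l : List ℤ} (ms : List Mv) {spec : List (ℕ × ℕ)} {t : GolayPt → ℤ}
    (hl : leechB (vec l) = true) (hok : ms.all Mv.ok = true)
    (hshape : shapeB (runMoves ms l) spec = true) (hto : ∀ {y}, HasShape y spec → ReachL [] y t) :
    ReachL [] (vec l) t :=
  (reachL_of_moves [] ms l _ hok (by simp) rfl (leechB_iff.mp hl)).trans
    (hto (hasShape_of_b hshape))

theorem reachB32 : ReachL [] (vec repB32) (vec repA32) :=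
  reach_edge edgeB32 (by decide +kernel) (by decide +kernel) (spec := shA32) (by decide +kernel) fun h => (toA32 h).up

theorem reachC32 : ReachL [] (vec repC32) (vec repA32) :=
  reach_edge edgeC32 (by decide +kernel) (by decide +kernel) (spec := shB32) (by decide +kernel)
    fun h => (toB32 h).up.trans reachB32

theorem counts_of {x : GolayPt → ℤ} (hx : x ∈ leechLattice) (hn : sqNorm x ≤ 80)
    (spec : List (ℕ × ℕ)) (h : nv x 0 = ((spec.find? fun e => e.1 == 0).map Prod.snd).getD 0 ∧
      nv x 1 = ((spec.find? fun e => e.1 == 1).map Prod.snd).getD 0 ∧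
      nv x 2 = ((spec.find? fun e => e.1 == 2).map Prod.snd).getD 0 ∧
      nv x 3 = ((spec.find? fun e => e.1 == 3).map Prod.snd).getD 0 ∧
      nv x 4 = ((spec.find? fun e => e.1 == 4).map Prod.snd).getD 0 ∧
      nv x 5 = ((spec.find? fun e => e.1 == 5).map Prod.snd).getD 0 ∧
      nv x 6 = ((spec.find? fun e => e.1 == 6).map Prod.snd).getD 0 ∧
      nv x 7 = ((spec.find? fun e => e.1 == 7).map Prod.snd).getD 0 ∧
      nv x 8 = ((spec.find? fun e => e.1 == 8).map Prod.snd).getD 0) : HasShape x spec := by
  refine ⟨hx, hn, fun v hv => ?_⟩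
  obtain ⟨h0, h1, h2, h3, h4, h5, h6, h7, h8⟩ := h
  rw [List.mem_range] at hv
  interval_cases v <;> assumption

theorem reach32 {x : GolayPt → ℤ} (hx : x ∈ leechLattice) (hn : sqNorm x = 32) :
    ReachL [] x (vec repA32) := by
  have hs : sqNorm x ≤ 80 := by omega
  obtain ⟨t1, t2⟩ := nv_sums hs
  rw [hn] at t2
  norm_cast at t2
  rcases Nat.mod_two_eq_zero_or_one (x none).natAbs with h | h
  · have p1 := nv_parity hx (v := 1) (by omega)
    have p3 := nv_parity hx (v := 3) (by omega)
    have p5 := nv_parity hx (v := 5) (by omega)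
    have p7 := nv_parity hx (v := 7) (by omega)
    have w := twos_weight hx hs h
    have z6 : nv x 6 = 0 := by omega
    have z8 : nv x 8 = 0 := by omega
    simp only [p1, p3, p5, p7, z6, z8, mul_zero, add_zero, zero_add] at t1 t2 w
    rcases (by omega : nv x 2 = 0 ∨ nv x 2 = 8) with e2 | e2
    · have e0 : nv x 0 = 22 ∧ nv x 4 = 2 := by omega
      exact (toA32 (counts_of hx hs shA32 (by simp [shA32, p1, p3, p5, p7, z6, z8, e2, e0]))).up
    · have e0 : nv x 0 = 16 ∧ nv x 4 = 0 := by omega
      exact (toB32 (counts_of hx hs shB32 (by simp [shB32, p1, p3, p5, p7, z6, z8, e2, e0]))).up.trans reachB32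
  · have p0 := nv_parity hx (v := 0) (by omega)
    have p2 := nv_parity hx (v := 2) (by omega)
    have p4 := nv_parity hx (v := 4) (by omega)
    have p6 := nv_parity hx (v := 6) (by omega)
    have p8 := nv_parity hx (v := 8) (by omega)
    simp only [p0, p2, p4, p6, p8, mul_zero, add_zero, zero_add] at t1 t2
    have z7 : nv x 7 = 0 ∨ nv x 7 = 1 := by omega
    have e : nv x 1 = 23 ∧ nv x 3 = 1 ∧ nv x 5 = 0 ∧ nv x 7 = 0 := by omega
    exact (toC32 (counts_of hx hs shC32 (by simp [shC32, p0, p2, p4, p6, p8, e]))).up.trans reachC32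

/-! ### Norm 48 -/

/-- Shape of a dodecad of twos. -/
def shA48 : List (ℕ × ℕ) := [(0, 12), (2, 12)]
/-- Shape with three threes. -/
def shB48 : List (ℕ × ℕ) := [(1, 21), (3, 3)]
/-- Shape of an octad of twos and a four. -/
def shC48 : List (ℕ × ℕ) := [(0, 15), (2, 8), (4, 1)]
/-- Shape with a five. -/
def shD48 : List (ℕ × ℕ) := [(1, 23), (5, 1)]

theorem toA48 {x : GolayPt → ℤ} (hx : HasShape x shA48) : ReachG monoGroup [] x (vec repA48) := by
  have hy : HasShape (vec repA48) shA48 := hasShape_of_b (by decide +kernel)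
  have h2 : nv x 2 = 12 := hx.counts 2 (by simp)
  have h6 : nv x 6 = 0 := hx.counts 6 (by simp)
  have hm := lev_twos_mem hx.mem hx.small (even_none hx (by decide))
  rw [nv, Finset.card_eq_zero] at h6
  rw [h6, Finset.union_empty] at hm
  have hyd : lev (vec repA48) 2 = setOf24 cD := by decide +kernel
  obtain ⟨σ, hσ, e⟩ := exists_dodecad (d := lev x 2) ⟨hm, h2⟩
  refine reach_of_abs_even hx.mem hy.mem hσ (abs_of_levels σ [2] 0
    (fun p => by simpa [shA48] using hx.val_mem p) (fun p => by simpa [shA48] using hy.val_mem p)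
    (fun w hw => by rw [List.mem_singleton.mp hw, hyd]; exact e))
    (by decide +kernel) (w := witA48) (by decide +kernel)

theorem toB48 {x : GolayPt → ℤ} (hx : HasShape x shB48) : ReachG monoGroup [] x (vec repB48) := by
  have hy : HasShape (vec repB48) shB48 := hasShape_of_b (by decide +kernel)
  obtain ⟨σ, hσ, h⟩ := one_level_abs hx hy (by norm_num) (by norm_num) (by norm_num)
  exact reach_of_abs_odd hx.mem hy.mem hσ h (by decide +kernel)

theorem toC48 {x : GolayPt → ℤ} (hx : HasShape x shC48) : ReachG monoGroup [] x (vec repC48) := by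
  have hy : HasShape (vec repC48) shC48 := hasShape_of_b (by decide +kernel)
  have h2 : nv x 2 = 8 := hx.counts 2 (by simp)
  have h6 : nv x 6 = 0 := hx.counts 6 (by simp)
  obtain ⟨a, ha⟩ := exists_single (hx.counts 4 (by simp) : nv x 4 = 1)
  have ho := twos_octad hx.mem hx.small (even_none hx (by decide)) (by omega)
  rw [nv, Finset.card_eq_zero] at h6
  rw [h6, Finset.union_empty] at ho
  have hao : a ∉ lev x 2 := fun h => by
    have : a ∈ lev x 4 := by rw [ha]; exact Finset.mem_singleton_self a
    rw [mem_lev] at h this; omega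
  obtain ⟨σ, hσ, hσa, hσo⟩ := exists_point_not_octad ho hao
  have hyo : lev (vec repC48) 2 = setOf24 cOctN := by decide +kernel
  have hy4 : lev (vec repC48) 4 = {pt 23} := by decide +kernel
  refine reach_of_abs_even hx.mem hy.mem hσ (abs_of_levels σ [2, 4] 0
    (fun p => by simpa [shC48] using hx.val_mem p) (fun p => by simpa [shC48] using hy.val_mem p)
    (fun w hw => ?_)) (by decide +kernel) (w := witC48) (by decide +kernel)
  simp only [List.mem_cons, List.not_mem_nil, or_false] at hw
  rcases hw with rfl | rfl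
  · rw [hyo]; exact hσo
  · rw [hy4, Finset.image_singleton, hσa, ha]

theorem toD48 {x : GolayPt → ℤ} (hx : HasShape x shD48) : ReachG monoGroup [] x (vec repD48) := by
  have hy : HasShape (vec repD48) shD48 := hasShape_of_b (by decide +kernel)
  obtain ⟨σ, hσ, h⟩ := one_level_abs hx hy (by norm_num) (by norm_num) (by norm_num)
  exact reach_of_abs_odd hx.mem hy.mem hσ h (by decide +kernel)

theorem reachB48 : ReachL [] (vec repB48) (vec repA48) :=
  reach_edge edgeB48 (by decide +kernel) (by decide +kernel) (spec := shA48) (by decide +kernel) fun h => (toA48 h).up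

theorem reachC48 : ReachL [] (vec repC48) (vec repA48) :=
  reach_edge edgeC48 (by decide +kernel) (by decide +kernel) (spec := shA48) (by decide +kernel) fun h => (toA48 h).up

theorem reachD48 : ReachL [] (vec repD48) (vec repA48) :=
  reach_edge edgeD48 (by decide +kernel) (by decide +kernel) (spec := shC48) (by decide +kernel)
    fun h => (toC48 h).up.trans reachC48

theorem reach48 {x : GolayPt → ℤ} (hx : x ∈ leechLattice) (hn : sqNorm x = 48) :
    ReachL [] x (vec repA48) := by
  have hs : sqNorm x ≤ 80 := by omega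
  obtain ⟨t1, t2⟩ := nv_sums hs
  rw [hn] at t2
  norm_cast at t2
  rcases Nat.mod_two_eq_zero_or_one (x none).natAbs with h | h
  · have p1 := nv_parity hx (v := 1) (by omega)
    have p3 := nv_parity hx (v := 3) (by omega)
    have p5 := nv_parity hx (v := 5) (by omega)
    have p7 := nv_parity hx (v := 7) (by omega)
    have w := twos_weight hx hs h
    have f := fours_even hx hs h
    have z6 : nv x 6 = 0 := by omega
    have z8 : nv x 8 = 0 := by omega
    simp only [p1, p3, p5, p7, z6, z8, mul_zero, add_zero, zero_add] at t1 t2 w f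
    rcases w with e2 | e2 | e2 | e2 | e2
    · have := f e2; omega
    · have e0 : nv x 0 = 15 ∧ nv x 4 = 1 := by omega
      exact (toC48 (counts_of hx hs shC48 (by simp [shC48, p1, p3, p5, p7, z6, z8, e2, e0]))).up.trans reachC48
    · have e0 : nv x 0 = 12 ∧ nv x 4 = 0 := by omega
      exact (toA48 (counts_of hx hs shA48 (by simp [shA48, p1, p3, p5, p7, z6, z8, e2, e0]))).up
    · omega
    · omega
  · have p0 := nv_parity hx (v := 0) (by omega)
    have p2 := nv_parity hx (v := 2) (by omega)
    have p4 := nv_parity hx (v := 4) (by omega)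
    have p6 := nv_parity hx (v := 6) (by omega)
    have p8 := nv_parity hx (v := 8) (by omega)
    simp only [p0, p2, p4, p6, p8, mul_zero, add_zero, zero_add] at t1 t2
    have z7 : nv x 7 = 0 ∨ nv x 7 = 1 := by omega
    rcases (by omega : (nv x 1 = 21 ∧ nv x 3 = 3 ∧ nv x 5 = 0 ∧ nv x 7 = 0) ∨
      (nv x 1 = 23 ∧ nv x 3 = 0 ∧ nv x 5 = 1 ∧ nv x 7 = 0)) with e | e
    · exact (toB48 (counts_of hx hs shB48 (by simp [shB48, p0, p2, p4, p6, p8, e]))).up.trans reachB48
    · exact (toD48 (counts_of hx hs shD48 (by simp [shD48, p0, p2, p4, p6, p8, e]))).up.trans reachD48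

/-! ### Norm 64 -/

/-- Shape of a single eight. -/
def shE64 : List (ℕ × ℕ) := [(0, 23), (8, 1)]
/-- Shape of four fours. -/
def shF64 : List (ℕ × ℕ) := [(0, 20), (4, 4)]
/-- Shape of seven twos and a six. -/
def shG64 : List (ℕ × ℕ) := [(0, 16), (2, 7), (6, 1)]
/-- Shape of an octad of twos and two fours. -/
def shH64 : List (ℕ × ℕ) := [(0, 14), (2, 8), (4, 2)]
/-- Shape of a dodecad of twos and a four. -/
def shI64 : List (ℕ × ℕ) := [(0, 11), (2, 12), (4, 1)]
/-- Shape of sixteen twos. -/
def shJ64 : List (ℕ × ℕ) := [(0, 8), (2, 16)]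
/-- Shape of five threes. -/
def shK64 : List (ℕ × ℕ) := [(1, 19), (3, 5)]
/-- Shape of a five and two threes. -/
def shL64 : List (ℕ × ℕ) := [(1, 21), (3, 2), (5, 1)]

theorem toE64 {x : GolayPt → ℤ} (hx : HasShape x shE64) : ReachG monoGroup [] x (vec repE64) := by
  have hy : HasShape (vec repE64) shE64 := hasShape_of_b (by decide +kernel)
  obtain ⟨σ, hσ, h⟩ := one_level_abs hx hy (by norm_num) (by norm_num) (by norm_num)
  exact reach_of_abs_even hx.mem hy.mem hσ h (by decide +kernel) (w := witE64) (by decide +kernel)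

theorem toF64 {x : GolayPt → ℤ} (hx : HasShape x shF64) : ReachG monoGroup [] x (vec repF64) := by
  have hy : HasShape (vec repF64) shF64 := hasShape_of_b (by decide +kernel)
  obtain ⟨σ, hσ, h⟩ := one_level_abs hx hy (by norm_num) (by norm_num) (by norm_num)
  exact reach_of_abs_even hx.mem hy.mem hσ h (by decide +kernel) (w := witF64) (by decide +kernel)

theorem toG64 {x : GolayPt → ℤ} (hx : HasShape x shG64) : ReachG monoGroup [] x (vec repG64) := by
  have hy : HasShape (vec repG64) shG64 := hasShape_of_b (by decide +kernel)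
  have h2 : nv x 2 = 7 := hx.counts 2 (by simp)
  have h6 : nv x 6 = 1 := hx.counts 6 (by simp)
  obtain ⟨a, ha⟩ := exists_single h6
  have ho := twos_octad hx.mem hx.small (even_none hx (by decide)) (by omega)
  have hao : a ∈ lev x 2 ∪ lev x 6 := Finset.mem_union_right _ (by rw [ha]; exact Finset.mem_singleton_self a)
  obtain ⟨σ, hσ, hσa, hσo⟩ := exists_point_octad ho hao
  have hy2 : lev (vec repG64) 2 = (setOf24 cOctX).erase (pt 23) := by decide +kernel
  have hy6 : lev (vec repG64) 6 = {pt 23} := by decide +kernel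
  refine reach_of_abs_even hx.mem hy.mem hσ (abs_of_levels σ [2, 6] 0
    (fun p => by simpa [shG64] using hx.val_mem p) (fun p => by simpa [shG64] using hy.val_mem p)
    (fun w hw => ?_)) (by decide +kernel) (w := witG64) (by decide +kernel)
  simp only [List.mem_cons, List.not_mem_nil, or_false] at hw
  rcases hw with rfl | rfl
  · rw [hy2, Finset.image_erase σ.injective, hσa,
      show (setOf24 cOctX).image σ = lev x 2 ∪ lev x 6 from hσo, ha]
    ext p
    simp only [Finset.mem_erase, Finset.mem_union, Finset.mem_singleton]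
    refine ⟨fun h => h.2.resolve_right h.1, fun h => ⟨fun e => ?_, Or.inl h⟩⟩
    have : a ∈ lev x 6 := by rw [ha]; exact Finset.mem_singleton_self a
    subst e
    rw [mem_lev] at h this; omega
  · rw [hy6, Finset.image_singleton, hσa, ha]

theorem toH64 {x : GolayPt → ℤ} (hx : HasShape x shH64) : ReachG monoGroup [] x (vec repH64) := by
  have hy : HasShape (vec repH64) shH64 := hasShape_of_b (by decide +kernel)
  have h2 : nv x 2 = 8 := hx.counts 2 (by simp)
  have h6 : nv x 6 = 0 := hx.counts 6 (by simp)
  obtain ⟨a, b, hab, h4⟩ := Finset.card_eq_two.mp (hx.counts 4 (by simp) : nv x 4 = 2)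
  have ho := twos_octad hx.mem hx.small (even_none hx (by decide)) (by omega)
  rw [nv, Finset.card_eq_zero] at h6
  rw [h6, Finset.union_empty] at ho
  have hout : ∀ q ∈ lev x 4, q ∉ lev x 2 := fun q hq h => by rw [mem_lev] at h hq; omega
  obtain ⟨σ, hσ, hσa, hσb, hσo⟩ := exists_octad_pair_out ho hab
    (hout a (by rw [h4]; simp)) (hout b (by rw [h4]; simp))
  have hyo : lev (vec repH64) 2 = setOf24 cOctN := by decide +kernel
  have hy4 : lev (vec repH64) 4 = {pt 23, pt 5} := by decide +kernel
  refine reach_of_abs_even hx.mem hy.mem hσ (abs_of_levels σ [2, 4] 0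
    (fun p => by simpa [shH64] using hx.val_mem p) (fun p => by simpa [shH64] using hy.val_mem p)
    (fun w hw => ?_)) (by decide +kernel) (w := witH64) (by decide +kernel)
  simp only [List.mem_cons, List.not_mem_nil, or_false] at hw
  rcases hw with rfl | rfl
  · rw [hyo]; exact hσo
  · rw [hy4, Finset.image_insert, Finset.image_singleton, hσa, hσb, h4]

theorem toI64 {x : GolayPt → ℤ} (hx : HasShape x shI64) : ReachG monoGroup [] x (vec repI64) := by
  have hy : HasShape (vec repI64) shI64 := hasShape_of_b (by decide +kernel)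
  have h2 : nv x 2 = 12 := hx.counts 2 (by simp)
  have h6 : nv x 6 = 0 := hx.counts 6 (by simp)
  obtain ⟨a, ha⟩ := exists_single (hx.counts 4 (by simp) : nv x 4 = 1)
  have hm := lev_twos_mem hx.mem hx.small (even_none hx (by decide))
  rw [nv, Finset.card_eq_zero] at h6
  rw [h6, Finset.union_empty] at hm
  have hd : (lev x 2)ᶜ ∈ dodecads :=
    ⟨supports_compl hm, by rw [Finset.card_compl, show Fintype.card GolayPt = 24 by simp [ZMod.card]]; rw [nv] at h2; omega⟩
  have had : a ∈ (lev x 2)ᶜ := Finset.mem_compl.mpr fun h => by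
    have : a ∈ lev x 4 := by rw [ha]; exact Finset.mem_singleton_self a
    rw [mem_lev] at h this; omega
  obtain ⟨σ, hσ, hσd, hσa⟩ := exists_dodecad_point hd had
  have hy2 : lev (vec repI64) 2 = (setOf24 cD)ᶜ := by decide +kernel
  have hy4 : lev (vec repI64) 4 = {pt 0} := by decide +kernel
  refine reach_of_abs_even hx.mem hy.mem hσ (abs_of_levels σ [2, 4] 0
    (fun p => by simpa [shI64] using hx.val_mem p) (fun p => by simpa [shI64] using hy.val_mem p)
    (fun w hw => ?_)) (by decide +kernel) (w := witI64) (by decide +kernel)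
  simp only [List.mem_cons, List.not_mem_nil, or_false] at hw
  rcases hw with rfl | rfl
  · rw [hy2, image_compl_perm, show (setOf24 cD).image σ = (lev x 2)ᶜ from hσd, compl_compl]
  · rw [hy4, Finset.image_singleton, hσa, ha]

/-! #### Sixteen twos: two classes of signs -/

/-- The sign pattern of a class: the extra point and `b`, or nothing when `b` is the extra point. -/
def classMask (b : ℕ) : ℕ := 2 ^ 23 ^^^ 2 ^ b

/-- The positions off the standard octad. -/
def offMask : ℕ := cOctN ^^^ 16777215

theorem witJ_spec : ∀ b < 24, ∀ j < 24, offMask.testBit b = true → offMask.testBit j = true →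
    ∃ b' < 24, offMask.testBit b' = true ∧ ∃ c, isCode c = true ∧
      c &&& offMask = classMask b ^^^ classMask j ^^^ classMask b' := by
  have h : ∀ b < 24, ∀ j < 24, offMask.testBit b = true → offMask.testBit j = true →
      witJ.any (fun e => e.1 == (b, j) && Nat.blt e.2.1 24 && offMask.testBit e.2.1 && isCode e.2.2 &&
        e.2.2 &&& offMask == classMask b ^^^ classMask j ^^^ classMask e.2.1) = true := by
    decide +kernel
  intro b hb j hj h1 h2
  obtain ⟨e, -, he⟩ := List.any_eq_true.mp (h b hb j hj h1 h2)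
  simp only [Bool.and_eq_true, beq_iff_eq, Nat.blt_eq] at he
  exact ⟨e.2.1, he.1.1.1.2, he.1.1.2, e.2.2, he.1.2, he.2⟩

theorem class_of_signs (D : Finset GolayPt) (hD : D ⊆ setOf24 offMask) :
    ∃ b < 24, offMask.testBit b = true ∧ ∃ c ∈ supports (golayCode : Set (GolayPt → ZMod 2)),
      c ∩ setOf24 offMask =
        (D ∆ (if D.card % 2 = 1 then {pt 23} else ∅)) ∆ setOf24 (classMask b) := by
  induction D using Finset.induction with
  | empty =>
    refine ⟨23, by norm_num, by decide +kernel, ∅, by rw [mem_supports_iff]; decide +kernel, ?_⟩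
    rw [show setOf24 (classMask 23) = ∅ by decide +kernel]
    simp
  | @insert p S hp ih =>
    obtain ⟨b, hb, hbo, c, hc, hce⟩ := ih (fun q hq => hD (Finset.mem_insert_of_mem hq))
    have hpo := mem_setOf24.mp (hD (Finset.mem_insert_self p S))
    obtain ⟨b', hb', hbo', d, hd, hde⟩ := witJ_spec b hb (idx p) (idx_lt p) hbo hpo
    refine ⟨b', hb', hbo', c ∆ setOf24 d, supports_symmDiff hc (setOf24_mem_supports hd), ?_⟩
    have e1 : setOf24 (classMask (idx p)) = {pt 23} ∆ {p} := by
      have e23 : setOf24 (2 ^ 23) = {pt 23} := by decide +kernel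
      have ep : setOf24 (2 ^ idx p) = {p} := by
        ext q
        simp only [mem_setOf24, Nat.testBit_two_pow, decide_eq_true_eq, Finset.mem_singleton]
        exact ⟨fun h => (idx_injective h).symm, fun h => by rw [h]⟩
      rw [classMask, setOf24_xor, e23, ep]
    rw [inter_symmDiff_distrib_right', hce, ← setOf24_and, hde, setOf24_xor, setOf24_xor, e1,
      Finset.card_insert_of_notMem hp]
    have e2 : insert p S = S ∆ {p} := by
      ext q
      simp only [Finset.mem_insert, Finset.mem_symmDiff, Finset.mem_singleton]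
      constructor
      · rintro (rfl | h)
        · exact Or.inr ⟨rfl, hp⟩
        · exact Or.inl ⟨h, fun e => hp (e ▸ h)⟩
      · rintro (⟨h, -⟩ | ⟨h, -⟩)
        · exact Or.inr h
        · exact Or.inl h
    rw [e2]
    rcases Nat.mod_two_eq_zero_or_one S.card with e | e
    · rw [if_neg (by omega), if_pos (by omega)]
      ext q
      by_cases h1 : q ∈ S <;> by_cases h2 : q ∈ ({pt 23} : Finset GolayPt) <;>
        by_cases h3 : q ∈ ({p} : Finset GolayPt) <;> by_cases h4 : q ∈ setOf24 (classMask b) <;>
        simp only [Finset.mem_symmDiff, Finset.notMem_empty, h1, h2, h3, h4, and_true, true_and,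
          and_false, false_and, or_true, true_or, or_false, false_or, not_true_eq_false, not_false_eq_true, not_not]
    · rw [if_pos e, if_neg (by omega)]
      ext q
      by_cases h1 : q ∈ S <;> by_cases h2 : q ∈ ({pt 23} : Finset GolayPt) <;>
        by_cases h3 : q ∈ ({p} : Finset GolayPt) <;> by_cases h4 : q ∈ setOf24 (classMask b) <;>
        simp only [Finset.mem_symmDiff, Finset.notMem_empty, h1, h2, h3, h4, and_true, true_and,
          and_false, false_and, or_true, true_or, or_false, false_or, not_true_eq_false, not_false_eq_true, not_not]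

/-- Sixteen twos negative on a class pattern. -/
def classVec (b : ℕ) : GolayPt → ℤ := fun p =>
  if offMask.testBit (idx p) then (if (classMask b).testBit (idx p) then -2 else 2) else 0

theorem classVec_mem : ∀ b < 24, offMask.testBit b = true → classVec b ∈ leechLattice :=
  fun b hb h => leechB_iff.mp ((by decide +kernel :
    ∀ b < 24, offMask.testBit b = true → leechB (classVec b) = true) b hb h)

theorem toJ64 {x : GolayPt → ℤ} (hx : HasShape x shJ64) :
    ReachG monoGroup [] x (vec repJa64) ∨ ReachG monoGroup [] x (vec repJb64) := by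
  have h2 : nv x 2 = 16 := hx.counts 2 (by simp)
  have h6 : nv x 6 = 0 := hx.counts 6 (by simp)
  have hm := lev_twos_mem hx.mem hx.small (even_none hx (by decide))
  rw [nv, Finset.card_eq_zero] at h6
  rw [h6, Finset.union_empty] at hm
  have ho : (lev x 2)ᶜ ∈ octads :=
    ⟨supports_compl hm, by rw [Finset.card_compl, show Fintype.card GolayPt = 24 by simp [ZMod.card]]; rw [nv] at h2; omega⟩
  obtain ⟨σ, hσ, e⟩ := M24_octad_transitive (o := setOf24 cOctN)
    (setOf24_mem_wordsOfWeight (by decide +kernel) (by decide +kernel)) ho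
  have hcv : classVec 23 = vec repJa64 := funext (by decide +kernel)
  have hy : HasShape (vec repJa64) shJ64 := hasShape_of_b (by decide +kernel)
  have habs : ∀ p, (x (σ p)).natAbs = (vec repJa64 p).natAbs := abs_of_levels σ [2] 0
    (fun p => by simpa [shJ64] using hx.val_mem p) (fun p => by simpa [shJ64] using hy.val_mem p)
    (fun w hw => by
      rw [List.mem_singleton.mp hw,
        show lev (vec repJa64) 2 = (setOf24 cOctN)ᶜ by decide +kernel, image_compl_perm, e, compl_compl])
  have hev : vec repJa64 none % 2 = 0 := by decide +kernel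
  have hDe := diff_even (perm_mem hσ hx.mem) hy.mem habs hev
  set D := Finset.univ.filter fun p => (fun i => x (σ i)) p ≠ vec repJa64 p with hDdef
  have hsupp : suppOf (vec repJa64) = setOf24 offMask := by decide +kernel
  have htwos : twosOf (vec repJa64) = setOf24 offMask := by decide +kernel
  have hsub : D ⊆ setOf24 offMask := fun p hp => by
    simp only [hDdef, Finset.mem_filter, Finset.mem_univ, true_and, ne_eq] at hp
    rw [← hsupp]
    refine Finset.mem_filter.mpr ⟨Finset.mem_univ _, fun h0 => hp ?_⟩
    have := habs p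
    rw [h0, Int.natAbs_zero, Int.natAbs_eq_zero] at this
    rw [h0, this]
  rw [htwos, Finset.inter_eq_left.mpr hsub] at hDe
  obtain ⟨b, hb, hbo, c, hc, hce⟩ := class_of_signs D hsub
  rw [if_neg (by rw [Nat.even_iff] at hDe; omega), ← Finset.bot_eq_empty, symmDiff_bot] at hce
  have habsb : ∀ p, (x (σ p)).natAbs = (classVec b p).natAbs := fun p => by
    rw [habs p, ← hcv]
    simp only [classVec]
    split_ifs <;> rfl
  have hz : monoFun 1 c (fun i => x (σ i)) = classVec b := by
    refine flip_eq habsb ?_
    have hs : suppOf (classVec b) = setOf24 offMask := by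
      ext p
      rw [suppOf, Finset.mem_filter, mem_setOf24, classVec]
      split_ifs <;> simp_all
    rw [hs, hce]
    ext p
    have hm : p ∈ D ↔ x (σ p) ≠ vec repJa64 p := by
      rw [hDdef, Finset.mem_filter]
      exact ⟨fun h => h.2, fun h => ⟨Finset.mem_univ _, h⟩⟩
    have hm' : p ∈ (Finset.univ.filter fun q => x (σ q) ≠ classVec b q) ↔ x (σ p) ≠ classVec b p := by
      rw [Finset.mem_filter]
      exact ⟨fun h => h.2, fun h => ⟨Finset.mem_univ _, h⟩⟩
    have hsb := @hsub p
    rw [hm, mem_setOf24] at hsb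
    rw [Finset.mem_symmDiff, hm, hm', mem_setOf24]
    rw [← hcv] at hsb ⊢
    have e0 : classMask 23 = 0 := by decide +kernel
    simp only [classVec, e0, Nat.zero_testBit, Bool.false_eq_true, if_false] at hsb ⊢
    have hAb := habsb p
    simp only [classVec] at hAb
    have hcb : (classMask b).testBit (idx p) = true → offMask.testBit (idx p) = true :=
      fun h => (by decide +kernel : ∀ b < 24, offMask.testBit b = true → ∀ q,
        (classMask b).testBit (idx q) = true → offMask.testBit (idx q) = true) b hb hbo p h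
    by_cases h1 : offMask.testBit (idx p) = true <;>
      by_cases h2 : (classMask b).testBit (idx p) = true <;>
      simp only [h1, h2, Bool.false_eq_true, if_true, if_false, and_true, and_false, not_true_eq_false, not_false_eq_true,
        false_or, or_false, true_and, false_and, imp_false, not_not, forall_true_left] at hsb hAb hcb ⊢ <;>
      omega
  have hreach : ReachG monoGroup [] x (classVec b) := by
    refine (reachL_perm hσ hx.mem).trans ?_
    have := reachL_mono (F := []) (one_mem M24) hc (by simp) (perm_mem hσ hx.mem)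
    rwa [hz] at this
  by_cases hb23 : b = 23
  · left
    rw [← hcv]
    rwa [hb23] at hreach
  · right
    refine hreach.trans ?_
    obtain ⟨τ, hτ, h23, hN, hτb⟩ := exists_move_second (b := pt b)
      (fun h => by
        rw [mem_setOf24, idx_pt hb] at h
        have hh := (by decide +kernel : ∀ i < 24, offMask.testBit i = true →
          cOctN.testBit i = false) b hb hbo
        simp [h] at hh)
      (fun h => hb23 (by rw [← idx_pt hb, h, idx_pt (by norm_num)]))
    have e5 : classVec 5 = vec repJb64 := funext (by decide +kernel)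
    convert reachL_perm hτ (classVec_mem b hb hbo) using 1
    rw [← e5]
    funext p
    have hcm : ∀ i < 24, i ≠ 23 → ∀ q, (classMask i).testBit (idx q) = true ↔ q = pt 23 ∨ q = pt i := by
      decide +kernel
    have hoff : ∀ q, offMask.testBit (idx q) = true ↔ q ∉ setOf24 cOctN := by decide +kernel
    have hNp : τ p ∈ setOf24 cOctN ↔ p ∈ setOf24 cOctN := by
      conv_lhs => rw [← hN]
      exact Finset.mem_image.trans ⟨fun ⟨q, hq, e⟩ => τ.injective e ▸ hq, fun h => ⟨p, h, rfl⟩⟩
    have hb5 : (classMask 5).testBit (idx p) = true ↔ (classMask b).testBit (idx (τ p)) = true := by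
      rw [hcm 5 (by norm_num) (by norm_num), hcm b hb hb23]
      conv_rhs => rw [← h23, ← hτb]
      simp only [EmbeddingLike.apply_eq_iff_eq]
    simp only [classVec]
    exact if_congr ((hoff p).trans (hNp.not.symm.trans (hoff (τ p)).symm)) (if_congr hb5 rfl rfl) rfl

theorem toK64 {x : GolayPt → ℤ} (hx : HasShape x shK64) : ReachG monoGroup [] x (vec repK64) := by
  have hy : HasShape (vec repK64) shK64 := hasShape_of_b (by decide +kernel)
  obtain ⟨σ, hσ, h⟩ := one_level_abs hx hy (by norm_num) (by norm_num) (by norm_num)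
  exact reach_of_abs_odd hx.mem hy.mem hσ h (by decide +kernel)

theorem toL64 {x : GolayPt → ℤ} (hx : HasShape x shL64) : ReachG monoGroup [] x (vec repL64) := by
  have hy : HasShape (vec repL64) shL64 := hasShape_of_b (by decide +kernel)
  obtain ⟨a, ha⟩ := exists_single (hx.counts 5 (by simp) : nv x 5 = 1)
  obtain ⟨b, c, hbc, h3⟩ := Finset.card_eq_two.mp (hx.counts 3 (by simp) : nv x 3 = 2)
  have hne : ∀ q ∈ lev x 3, a ≠ q := fun q hq e => by
    have : a ∈ lev x 5 := by rw [ha]; exact Finset.mem_singleton_self a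
    subst e
    rw [mem_lev] at hq this; omega
  have hab := hne b (by rw [h3]; simp)
  have hac := hne c (by rw [h3]; simp)
  obtain ⟨σ, hσ, he⟩ := exists_map_fun (k := 3) (by norm_num) ![pt 23, pt 0, pt 1] ![a, b, c]
    (by decide +kernel) (by
      intro i j hij
      fin_cases i <;> fin_cases j <;> simp_all)
  have hy5 : lev (vec repL64) 5 = {pt 23} := by decide +kernel
  have hy3 : lev (vec repL64) 3 = {pt 0, pt 1} := by decide +kernel
  refine reach_of_abs_odd hx.mem hy.mem hσ (abs_of_levels σ [3, 5] 1
    (fun p => by simpa [shL64] using hx.val_mem p) (fun p => by simpa [shL64] using hy.val_mem p)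
    (fun w hw => ?_)) (by decide +kernel)
  simp only [List.mem_cons, List.not_mem_nil, or_false] at hw
  rcases hw with rfl | rfl
  · rw [hy3, Finset.image_insert, Finset.image_singleton, h3]
    have e1 := he 1; have e2 := he 2
    simp at e1 e2
    rw [e1, e2]
  · rw [hy5, Finset.image_singleton, ha]
    have e0 := he 0
    simp at e0
    rw [e0]

theorem reachF64 : ReachL [] (vec repF64) (vec repE64) :=
  reach_edge edgeF64 (by decide +kernel) (by decide +kernel) (spec := shE64) (by decide +kernel) fun h => (toE64 h).up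

theorem reachG64 : ReachL [] (vec repG64) (vec repE64) :=
  reach_edge edgeG64 (by decide +kernel) (by decide +kernel) (spec := shF64) (by decide +kernel)
    fun h => (toF64 h).up.trans reachF64

theorem reachH64 : ReachL [] (vec repH64) (vec repE64) :=
  reach_edge edgeH64 (by decide +kernel) (by decide +kernel) (spec := shF64) (by decide +kernel)
    fun h => (toF64 h).up.trans reachF64

theorem reachI64 : ReachL [] (vec repI64) (vec repE64) :=
  reach_edge edgeI64 (by decide +kernel) (by decide +kernel) (spec := shH64) (by decide +kernel)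
    fun h => (toH64 h).up.trans reachH64

theorem reachJa64 : ReachL [] (vec repJa64) (vec repE64) :=
  reach_edge edgeJa64 (by decide +kernel) (by decide +kernel) (spec := shF64) (by decide +kernel)
    fun h => (toF64 h).up.trans reachF64

theorem reachJb64 : ReachL [] (vec repJb64) (vec repE64) :=
  reach_edge edgeJb64 (by decide +kernel) (by decide +kernel) (spec := shF64) (by decide +kernel)
    fun h => (toF64 h).up.trans reachF64

theorem reachK64 : ReachL [] (vec repK64) (vec repE64) :=
  reach_edge edgeK64 (by decide +kernel) (by decide +kernel) (spec := shH64) (by decide +kernel)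
    fun h => (toH64 h).up.trans reachH64

theorem reachL64 : ReachL [] (vec repL64) (vec repE64) :=
  reach_edge edgeL64 (by decide +kernel) (by decide +kernel) (spec := shH64) (by decide +kernel)
    fun h => (toH64 h).up.trans reachH64

/-- The representatives of the monomial orbits in norm 64. -/
def reps64 : List (List ℤ) :=
  [repE64, repF64, repG64, repH64, repI64, repJa64, repJb64, repK64, repL64]

theorem classify64 {x : GolayPt → ℤ} (hx : x ∈ leechLattice) (hn : sqNorm x = 64) :
    ∃ r ∈ reps64, ReachG monoGroup [] x (vec r) := by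
  have hs : sqNorm x ≤ 80 := by omega
  obtain ⟨t1, t2⟩ := nv_sums hs
  rw [hn] at t2
  norm_cast at t2
  rcases Nat.mod_two_eq_zero_or_one (x none).natAbs with h | h
  · have p1 := nv_parity hx (v := 1) (by omega)
    have p3 := nv_parity hx (v := 3) (by omega)
    have p5 := nv_parity hx (v := 5) (by omega)
    have p7 := nv_parity hx (v := 7) (by omega)
    have w := twos_weight hx hs h
    simp only [p1, p3, p5, p7, mul_zero, add_zero, zero_add] at t1 t2
    have hz8 : nv x 8 = 0 ∨ nv x 8 = 1 := by omega
    have hz6 : nv x 6 = 0 ∨ nv x 6 = 1 := by omega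
    rcases hz8 with z8 | z8
    · rcases hz6 with z6 | z6
      · rcases w with e2 | e2 | e2 | e2 | e2
        · have e0 : nv x 0 = 20 ∧ nv x 2 = 0 ∧ nv x 4 = 4 := by omega
          exact ⟨_, by simp [reps64], toF64 (counts_of hx hs shF64 (by simp [shF64, p1, p3, p5, p7, z6, z8, e0]))⟩
        · have e0 : nv x 0 = 14 ∧ nv x 2 = 8 ∧ nv x 4 = 2 := by omega
          exact ⟨_, by simp [reps64], toH64 (counts_of hx hs shH64 (by simp [shH64, p1, p3, p5, p7, z6, z8, e0]))⟩
        · have e0 : nv x 0 = 11 ∧ nv x 2 = 12 ∧ nv x 4 = 1 := by omega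
          exact ⟨_, by simp [reps64], toI64 (counts_of hx hs shI64 (by simp [shI64, p1, p3, p5, p7, z6, z8, e0]))⟩
        · have e0 : nv x 0 = 8 ∧ nv x 2 = 16 ∧ nv x 4 = 0 := by omega
          rcases toJ64 (counts_of hx hs shJ64 (by simp [shJ64, p1, p3, p5, p7, z6, z8, e0])) with h' | h'
          · exact ⟨_, by simp [reps64], h'⟩
          · exact ⟨_, by simp [reps64], h'⟩
        · omega
      · have e2 : nv x 2 = 7 := by omega
        have e0 : nv x 0 = 16 ∧ nv x 4 = 0 := by omega
        exact ⟨_, by simp [reps64], toG64 (counts_of hx hs shG64 (by simp [shG64, p1, p3, p5, p7, z6, z8, e2, e0]))⟩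
    · have e0 : nv x 0 = 23 ∧ nv x 2 = 0 ∧ nv x 4 = 0 ∧ nv x 6 = 0 := by omega
      exact ⟨_, by simp [reps64], toE64 (counts_of hx hs shE64 (by simp [shE64, p1, p3, p5, p7, z8, e0]))⟩
  · have p0 := nv_parity hx (v := 0) (by omega)
    have p2 := nv_parity hx (v := 2) (by omega)
    have p4 := nv_parity hx (v := 4) (by omega)
    have p6 := nv_parity hx (v := 6) (by omega)
    have p8 := nv_parity hx (v := 8) (by omega)
    simp only [p0, p2, p4, p6, p8, mul_zero, add_zero, zero_add] at t1 t2
    have z7 : nv x 7 = 0 ∨ nv x 7 = 1 := by omega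
    rcases (by omega : (nv x 1 = 19 ∧ nv x 3 = 5 ∧ nv x 5 = 0 ∧ nv x 7 = 0) ∨
      (nv x 1 = 21 ∧ nv x 3 = 2 ∧ nv x 5 = 1 ∧ nv x 7 = 0)) with e | e
    · exact ⟨_, by simp [reps64], toK64 (counts_of hx hs shK64 (by simp [shK64, p0, p2, p4, p6, p8, e]))⟩
    · exact ⟨_, by simp [reps64], toL64 (counts_of hx hs shL64 (by simp [shL64, p0, p2, p4, p6, p8, e]))⟩

theorem reach64 {x : GolayPt → ℤ} (hx : x ∈ leechLattice) (hn : sqNorm x = 64) :
    ReachL [] x (vec repE64) := by
  obtain ⟨r, hr, h⟩ := classify64 hx hn
  refine h.up.trans ?_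
  simp only [reps64, List.mem_cons, List.not_mem_nil, or_false] at hr
  rcases hr with rfl | rfl | rfl | rfl | rfl | rfl | rfl | rfl | rfl
  exacts [ReachG.refl [] (leechB_iff.mp (by decide +kernel)), reachF64, reachG64, reachH64, reachI64,
    reachJa64, reachJb64, reachK64, reachL64]

theorem transitive_norm32 (v w : leechLattice) (hv : sqNorm (v : GolayPt → ℤ) = 32)
    (hw : sqNorm (w : GolayPt → ℤ) = 32) : ∃ g : Co0, g • v = w :=
  ((reach32 v.2 hv).trans (reach32 w.2 hw).symm).exists_smul

theorem transitive_norm48 (v w : leechLattice) (hv : sqNorm (v : GolayPt → ℤ) = 48)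
    (hw : sqNorm (w : GolayPt → ℤ) = 48) : ∃ g : Co0, g • v = w :=
  ((reach48 v.2 hv).trans (reach48 w.2 hw).symm).exists_smul

theorem transitive_norm64 (v w : leechLattice) (hv : sqNorm (v : GolayPt → ℤ) = 64)
    (hw : sqNorm (w : GolayPt → ℤ) = 64) : ∃ g : Co0, g • v = w :=
  ((reach64 v.2 hv).trans (reach64 w.2 hw).symm).exists_smul

end CfsgLib.Leech
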