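import Cfsg.Agent.Leech.Count
import Cfsg.Agent.Leech.Orbits

/-!
Numbers of short lattice vectors with given inner product with a fixed short vector.
-/

set_option autoImplicit false

namespace CfsgLib.Leech

open Cfsg CfsgLib.Mathieu

/-- The vector with all coordinates one except the value `e` at the extra point. -/
def oneVec (e : ℤ) : GolayPt → ℤ := vec (List.replicate 23 1 ++ [e])

/-- Key table with the extra point special. -/
def keys1 : List ((ℕ × List Bool) × ℕ) :=
  [((0, [false]), 1), ((8, [false]), 506), ((7, [true]), 253), ((12, [false]), 1288),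
    ((11, [true]), 1288), ((16, [false]), 253), ((15, [true]), 506), ((23, [true]), 1)]

theorem keys1_ok : keyTableOK [23] (List.range 23) keys1 = true := by decide +kernel

/-- The restriction fixing the value at the extra point. -/
def valAt (a : ℤ) (i : ℕ) (v : ℤ) : Bool := if i = 23 then v == a else true

/-- The predicted number of norm `n` vectors with inner product `c` with `oneVec e`. -/
def dotCount (e : ℤ) (n : ℕ) (c : ℤ) : ℕ :=
  (valRange.map fun a => countVal 128 [23] (List.range 23) (valAt a) (fun _ => true) n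
    (c - (e - 1) * a) keys1).sum

theorem oneVec_apply (e : ℤ) (p : GolayPt) : oneVec e p = if idx p = 23 then e else 1 := by
  have h := idx_lt p
  unfold oneVec vec
  rw [List.getD_eq_getElem?_getD, List.getElem?_append, List.length_replicate]
  by_cases hp : idx p = 23
  · simp [hp]
  · rw [if_pos (by omega), if_neg hp, List.getElem?_replicate, if_pos (by omega)]
    rfl

theorem dot_oneVec (e : ℤ) (x : GolayPt → ℤ) :
    dotInt (oneVec e) x = ∑ p, x p + (e - 1) * x (pt 23) := by
  have h : ∀ p, oneVec e p * x p = x p + if p = pt 23 then (e - 1) * x (pt 23) else 0 := by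
    intro p
    rw [oneVec_apply]
    by_cases hp : idx p = 23
    · have : p = pt 23 := by rw [← hp, pt_idx]
      subst this
      rw [if_pos hp, if_pos rfl]; ring
    · have : p ≠ pt 23 := fun h => hp (by rw [h, idx_pt (by norm_num)])
      rw [if_neg hp, if_neg this]; ring
  simp [dotInt, h, Finset.sum_add_distrib]

theorem shell_finite (n : ℕ) :
    {x : GolayPt → ℤ | x ∈ leechLattice ∧ sqNorm x = n}.Finite := by
  refine Set.Finite.subset (Set.Finite.pi' fun _ : GolayPt => Set.finite_Icc (-(n : ℤ)) n)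
    fun x hx p => ?_
  have h1 : x p ^ 2 ≤ sqNorm x :=
    Finset.single_le_sum (f := fun q => x q ^ 2) (fun q _ => sq_nonneg _) (Finset.mem_univ _)
  have h2 : |x p| ≤ x p ^ 2 := by rw [← sq_abs]; exact Int.le_self_sq |x p|
  rw [hx.2] at h1
  exact ⟨by have := neg_abs_le (x p); omega, by have := le_abs_self (x p); omega⟩

theorem ncard_dot_oneVec (e : ℤ) (he : e = -3 ∨ e = 5) (n : ℕ) (hn : n ≤ 48) (c : ℤ)
    (hc : c % 4 = 0) (hcb : c.natAbs ≤ 48) :
    {x : GolayPt → ℤ | x ∈ leechLattice ∧ sqNorm x = n ∧ dotInt (oneVec e) x = c}.ncard =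
      dotCount e n c := by
  classical
  set S := {x : GolayPt → ℤ | x ∈ leechLattice ∧ sqNorm x = n ∧ dotInt (oneVec e) x = c}
  have hfin : S.Finite := (shell_finite n).subset fun x hx => ⟨hx.1, hx.2.1⟩
  rw [Set.ncard_eq_toFinset_card S hfin]
  have hmaps : ∀ x ∈ hfin.toFinset, x (pt 23) ∈ valRange.toFinset := by
    intro x hx
    obtain ⟨-, hx, -⟩ := hfin.mem_toFinset.mp hx
    have := natAbs_le_eight (x := x) (by omega) (pt 23)
    simp only [valRange, List.mem_toFinset, List.mem_cons, List.not_mem_nil, or_false]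
    omega
  rw [Finset.card_eq_sum_card_fiberwise hmaps, List.sum_toFinset _ (by decide), dotCount]
  refine congrArg List.sum (List.map_congr_left fun a ha => ?_)
  have ha8 : -8 ≤ a ∧ a ≤ 8 := (by decide : ∀ a ∈ valRange, -8 ≤ a ∧ a ≤ 8) a ha
  rw [← ncard_countSet_eval 128 (by norm_num) (by norm_num) [23] (List.range 23)
    (List.perm_append_comm.trans (List.Perm.of_eq (List.range_succ (n := 23)).symm)) (valAt a) (fun _ => true)
    (fun i hi v => by simp [valAt, (List.mem_range.mp hi).ne]) n (by omega) _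
    (by rcases he with rfl | rfl <;> omega) keys1 keys1_ok, ← Set.ncard_coe_finset]
  congr 1
  ext x
  simp only [Finset.coe_filter, Set.Finite.mem_toFinset, countSet, S]
  constructor
  · rintro ⟨⟨hx, hxn, hd⟩, hxa⟩
    rw [dot_oneVec, hxa] at hd
    refine ⟨hx, hxn, ⟨0, by omega⟩, fun p => ?_⟩
    unfold valAt
    split
    · next h => rw [show p = pt 23 by rw [← h, pt_idx], hxa]; simp
    · rfl
  · rintro ⟨hx, hxn, hd, hP⟩
    have hxa : x (pt 23) = a := by
      have := hP (pt 23)
      rw [valAt, if_pos (idx_pt (by norm_num))] at this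
      exact beq_iff_eq.mp this
    refine ⟨⟨hx, hxn, ?_⟩, hxa⟩
    rw [dot_oneVec, hxa]
    have hs : (∑ p, x p) ^ 2 ≤ 24 * n := by
      have := sq_sum_le_card_mul_sum_sq (s := (Finset.univ : Finset GolayPt)) (f := x)
      rw [show ∑ i, x i ^ 2 = (n : ℤ) from hxn] at this
      have hc24 : (Finset.univ : Finset GolayPt).card = 24 := by decide +kernel
      rw [hc24] at this
      exact_mod_cast this
    have hs' : (∑ p, x p) ^ 2 < 34 ^ 2 := by omega
    rw [sq_lt_sq, abs_lt, abs_of_nonneg (by norm_num : (0 : ℤ) ≤ 34)] at hs'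
    obtain ⟨k, hk⟩ := hd
    rcases he with rfl | rfl <;> omega

theorem ncard_dot_smul (g : Co0) (v : leechLattice) (n c : ℤ) :
    {x : GolayPt → ℤ | x ∈ leechLattice ∧ sqNorm x = n ∧
        dotInt ((g • v : leechLattice) : GolayPt → ℤ) x = c}.ncard =
      {x : GolayPt → ℤ | x ∈ leechLattice ∧ sqNorm x = n ∧ dotInt (v : GolayPt → ℤ) x = c}.ncard := by
  refine (Set.ncard_congr (fun x hx => ((g • (⟨x, hx.1⟩ : leechLattice) : leechLattice) : GolayPt → ℤ))
    ?_ ?_ ?_).symm
  · rintro x ⟨hx, hn, hd⟩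
    exact ⟨(g • (⟨x, hx⟩ : leechLattice)).2, by rw [co0_norm]; exact hn, by rw [co0_dot]; exact hd⟩
  · intro a b ha hb e
    exact congrArg Subtype.val (smul_left_cancel g (Subtype.ext e))
  · rintro y ⟨hy, hn, hd⟩
    have e : g • g⁻¹ • (⟨y, hy⟩ : leechLattice) = ⟨y, hy⟩ := smul_inv_smul g _
    refine ⟨((g⁻¹ • (⟨y, hy⟩ : leechLattice) : leechLattice) : GolayPt → ℤ), ⟨Subtype.coe_prop _,
      by rw [co0_norm]; exact hn, ?_⟩, congrArg Subtype.val e⟩
    rw [← co0_dot g, e]
    exact hd

/-- Inner product census at any vector of norm 32. -/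
theorem ncard_dot32 {v : GolayPt → ℤ} (hv : v ∈ leechLattice) (hn : sqNorm v = 32) (n : ℕ)
    (hn' : n ≤ 48) (c : ℤ) (hc : c % 4 = 0) (hcb : c.natAbs ≤ 48) :
    {x : GolayPt → ℤ | x ∈ leechLattice ∧ sqNorm x = n ∧ dotInt v x = c}.ncard =
      dotCount (-3) n c := by
  have h : oneVec (-3) ∈ leechLattice := leechB_iff.mp (by decide +kernel)
  obtain ⟨g, hg⟩ := transitive_norm32 ⟨_, h⟩ ⟨v, hv⟩
    ((by decide +kernel : sqNorm (oneVec (-3)) = 32)) hn
  rw [← ncard_dot_oneVec (-3) (Or.inl rfl) n hn' c hc hcb, ← ncard_dot_smul g ⟨_, h⟩, hg]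

/-- Inner product census at any vector of norm 48. -/
theorem ncard_dot48 {v : GolayPt → ℤ} (hv : v ∈ leechLattice) (hn : sqNorm v = 48) (n : ℕ)
    (hn' : n ≤ 48) (c : ℤ) (hc : c % 4 = 0) (hcb : c.natAbs ≤ 48) :
    {x : GolayPt → ℤ | x ∈ leechLattice ∧ sqNorm x = n ∧ dotInt v x = c}.ncard =
      dotCount 5 n c := by
  have h : oneVec 5 ∈ leechLattice := leechB_iff.mp (by decide +kernel)
  obtain ⟨g, hg⟩ := transitive_norm48 ⟨_, h⟩ ⟨v, hv⟩
    ((by decide +kernel : sqNorm (oneVec 5) = 48)) hn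
  rw [← ncard_dot_oneVec 5 (Or.inr rfl) n hn' c hc hcb, ← ncard_dot_smul g ⟨_, h⟩, hg]

theorem dotCount32_16 : dotCount (-3) 32 (-16) = 4600 := by decide +kernel
theorem dotCount32_8 : dotCount (-3) 32 (-8) = 47104 := by decide +kernel
theorem dotCount32_0 : dotCount (-3) 32 0 = 93150 := by decide +kernel
theorem dotCount48_24 : dotCount 5 32 24 = 552 := by decide +kernel

end CfsgLib.Leech
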