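import Cfsg.Agent.Leech.TreeCerts
import Cfsg.Agent.Leech.InnerCounts

/-!
Orbits of the stabilisers of short vectors: the configurations on 4600, 552, 11178, 275 and 100 points.
-/

set_option autoImplicit false

namespace CfsgLib.Leech

open Cfsg CfsgLib.Mathieu TreeData

/-- The norm 48 base vector. -/
def baseD : GolayPt → ℤ := vec co3vFix[0]
/-- The norm 32 base vector. -/
def baseA : GolayPt → ℤ := vec co2Fix[0]
/-- The second norm 48 base vector. -/
def baseW : GolayPt → ℤ := vec hsFix[1]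
/-- The base point among the 275. -/
def baseX : GolayPt → ℤ := vec mclRoot
/-- The minimal vector `baseD + baseW`. -/
def baseM : GolayPt → ℤ := vec co3mRoot

theorem base_facts : (leechB baseD = true ∧ sqNorm baseD = 48) ∧ (leechB baseA = true ∧ sqNorm baseA = 32) ∧
    (leechB baseW = true ∧ sqNorm baseW = 48) ∧ (leechB baseX = true ∧ sqNorm baseX = 32) ∧
    (leechB baseM = true ∧ sqNorm baseM = 32) ∧
    (dotInt baseD baseA = 24 ∧ dotInt baseD baseW = -32 ∧ dotInt baseD baseX = 24 ∧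
      dotInt baseA baseX = 16 ∧ dotInt baseD baseM = 16 ∧ dotInt baseW baseA = -24 ∧
      baseD + baseW = baseM) := by
  decide +kernel

/-- The base vector `D` in the lattice. -/
def bD : leechLattice := ⟨baseD, leechB_iff.mp base_facts.1.1⟩
/-- The base vector `A` in the lattice. -/
def bA : leechLattice := ⟨baseA, leechB_iff.mp base_facts.2.1.1⟩
/-- The base vector `W` in the lattice. -/
def bW : leechLattice := ⟨baseW, leechB_iff.mp base_facts.2.2.1.1⟩
/-- The base vector `X` in the lattice. -/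
def bX : leechLattice := ⟨baseX, leechB_iff.mp base_facts.2.2.2.1.1⟩

theorem reach_props {F : List (GolayPt → ℤ)} (hFm : ∀ f ∈ F, f ∈ leechLattice) {x y : GolayPt → ℤ}
    (h : ReachL F x y) : (y ∈ leechLattice ∧ sqNorm y = sqNorm x) ∧ ∀ f ∈ F, dotInt f y = dotInt f x := by
  obtain ⟨hx, g, -, rfl, hF⟩ := h
  refine ⟨⟨Subtype.coe_prop _, co0_norm g _⟩, fun f hf => ?_⟩
  have e := co0_dot g ⟨f, hFm f hf⟩ ⟨x, hx⟩
  rwa [hF f hf (hFm f hf)] at e

theorem vec_getD (l : List ℤ) (p : GolayPt) : vec l p = l.getD (idx p) 0 := rfl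

theorem dotL_range : ∀ (l l' : List ℤ), l.length = l'.length →
    dotL l l' = ((List.range l.length).map fun i => l.getD i 0 * l'.getD i 0).sum
  | [], [], _ => rfl
  | a :: l, b :: l', h => by
    rw [dotL, dotL_range l l' (by simpa using h), List.length_cons, List.range_succ_eq_map]
    simp [List.map_map, Function.comp_def]

theorem dotP_eq (f : List ℤ) (hf : f.length = 24) (c : ℕ) :
    dotP f c = dotInt (vec f) (vec (dec c)) := by
  have hd : (dec c).length = 24 := dec_length c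
  rw [dotP_def, dotL_range f (dec c) (hf.trans hd.symm), hf, dotInt, sum_univ_list]
  exact congrArg List.sum (List.map_congr_left fun i hi => by
    rw [vec_getD, vec_getD, idx_pt (List.mem_range.1 hi)])

/-- Vectors of norm 32 with given inner product with a fixed vector. -/
def dotSet (f : GolayPt → ℤ) (c : ℤ) : Set (GolayPt → ℤ) :=
  {x | x ∈ leechLattice ∧ sqNorm x = 32 ∧ dotInt f x = c}

theorem dotSet_finite (f : GolayPt → ℤ) (c : ℤ) : (dotSet f c).Finite :=
  (shell_finite 32).subset fun _ hx => ⟨hx.1, hx.2.1⟩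

theorem ncard_dotSet_D : (dotSet baseD 24).ncard = 552 :=
  (ncard_dot48 (leechB_iff.mp base_facts.1.1) base_facts.1.2 32 (by norm_num) 24 (by norm_num)
    (by norm_num)).trans dotCount48_24

theorem ncard_dotSet_D16 : (dotSet baseD 16).ncard = 11178 :=
  (ncard_dot48 (leechB_iff.mp base_facts.1.1) base_facts.1.2 32 (by norm_num) 16 (by norm_num)
    (by norm_num)).trans (by decide +kernel)

theorem ncard_dotSet_A : (dotSet baseA (-16)).ncard = 4600 :=
  (ncard_dot32 (leechB_iff.mp base_facts.2.1.1) base_facts.2.1.2 32 (by norm_num) (-16) (by norm_num)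
    (by norm_num)).trans dotCount32_16

theorem mem_of_single {f : List ℤ} (hf : leechB (vec f) = true) :
    ∀ g ∈ [f].map vec, g ∈ leechLattice := by
  intro g hg
  simp only [List.map_cons, List.map_nil, List.mem_singleton] at hg
  exact hg ▸ leechB_iff.mp hf

theorem sub552 (x : GolayPt → ℤ) (h : ReachL (co3vFix.map vec) (vec co3vRoot) x) :
    x ∈ dotSet baseD 24 := by
  obtain ⟨⟨hm, hn⟩, hd⟩ := reach_props
    (fun f hf => leechB_iff.mp ((by decide +kernel : ∀ f ∈ co3vFix.map vec, leechB f = true) f hf)) h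
  exact ⟨hm, hn.trans (by decide +kernel),
    (hd baseD (by simp [baseD, co3vFix])).trans (by decide +kernel)⟩

theorem sub4600 (x : GolayPt → ℤ) (h : ReachL (co2Fix.map vec) (vec co2Root) x) :
    x ∈ dotSet baseA (-16) := by
  obtain ⟨⟨hm, hn⟩, hd⟩ := reach_props
    (fun f hf => leechB_iff.mp ((by decide +kernel : ∀ f ∈ co2Fix.map vec, leechB f = true) f hf)) h
  exact ⟨hm, hn.trans (by decide +kernel),
    (hd baseA (by simp [baseA, co2Fix])).trans (by decide +kernel)⟩

theorem sub11178 (x : GolayPt → ℤ) (h : ReachL (co3mFix.map vec) (vec co3mRoot) x) :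
    x ∈ dotSet baseD 16 := by
  obtain ⟨⟨hm, hn⟩, hd⟩ := reach_props
    (fun f hf => leechB_iff.mp ((by decide +kernel : ∀ f ∈ co3mFix.map vec, leechB f = true) f hf)) h
  exact ⟨hm, hn.trans (by decide +kernel),
    (hd baseD (by simp [baseD, co3mFix, co3vFix])).trans (by decide +kernel)⟩

/-- The 275 points. -/
def set275 : Set (GolayPt → ℤ) := {x | x ∈ dotSet baseD 24 ∧ dotInt baseA x = 16}

/-- The 100 points. -/
def set100 : Set (GolayPt → ℤ) := {x | x ∈ dotSet baseD 24 ∧ dotInt baseW x = -24}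

theorem set275_finite : set275.Finite := (dotSet_finite _ _).subset fun _ h => h.1

theorem set100_finite : set100.Finite := (dotSet_finite _ _).subset fun _ h => h.1

theorem ncard_set275 : set275.ncard = 275 :=
  (ncard_sep_tree co3v_tree (dotSet_finite _ _) ncard_dotSet_D.le sub552 _ (fun x => dotInt baseA x = 16)
    fun c => by rw [beq_iff_eq, dotP_eq _ (by rfl)]; rfl).trans co3v_counts.1

theorem ncard_set100 : set100.ncard = 100 :=
  (ncard_sep_tree co3v_tree (dotSet_finite _ _) ncard_dotSet_D.le sub552 _ (fun x => dotInt baseW x = -24)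
    fun c => by rw [beq_iff_eq, dotP_eq _ (by rfl)]; rfl).trans co3v_counts.2

theorem sub275 (x : GolayPt → ℤ) (h : ReachL (mclFix.map vec) (vec mclRoot) x) : x ∈ set275 := by
  obtain ⟨⟨hm, hn⟩, hd⟩ := reach_props
    (fun f hf => leechB_iff.mp ((by decide +kernel : ∀ f ∈ mclFix.map vec, leechB f = true) f hf)) h
  exact ⟨⟨hm, hn.trans (by decide +kernel),
    (hd baseD (by simp [baseD, mclFix, co3vFix])).trans (by decide +kernel)⟩,
    (hd baseA (by simp [baseA, mclFix, co2Fix])).trans (by decide +kernel)⟩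

theorem sub100 (x : GolayPt → ℤ) (h : ReachL (hsFix.map vec) (vec hsRoot) x) : x ∈ set100 := by
  obtain ⟨⟨hm, hn⟩, hd⟩ := reach_props
    (fun f hf => leechB_iff.mp ((by decide +kernel : ∀ f ∈ hsFix.map vec, leechB f = true) f hf)) h
  exact ⟨⟨hm, hn.trans (by decide +kernel),
    (hd baseD (by simp [baseD, hsFix, co3vFix])).trans (by decide +kernel)⟩,
    (hd baseW (by simp [baseW, hsFix])).trans (by decide +kernel)⟩

/-- Two points reached from one root are exchanged by a member fixing the listed vectors. -/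
theorem exists_smul_of_reach {F : List (GolayPt → ℤ)} {r : GolayPt → ℤ} {x y : leechLattice}
    (hx : ReachL F r x) (hy : ReachL F r y) :
    ∃ g : Co0, g • x = y ∧ ∀ f : leechLattice, (f : GolayPt → ℤ) ∈ F → g • f = f := by
  obtain ⟨hm, g, -, e, hF⟩ := hx.symm.trans hy
  exact ⟨g, Subtype.ext e, fun f hf => Subtype.ext (hF _ hf f.2)⟩

theorem to552 {x : leechLattice} (hx : (x : GolayPt → ℤ) ∈ dotSet baseD 24) :
    ∃ g : Co0, g • bD = bD ∧ g • x = bA := by
  obtain ⟨g, e, hF⟩ := exists_smul_of_reach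
    (reach_of_tree co3v_tree (dotSet_finite _ _) ncard_dotSet_D.le sub552 hx)
    (show ReachL (co3vFix.map vec) (vec co3vRoot) (bA : GolayPt → ℤ) from
      ReachG.refl _ bA.2)
  exact ⟨g, hF bD (by simp [bD, baseD, co3vFix]), e⟩

theorem to4600 {x : leechLattice} (hx : (x : GolayPt → ℤ) ∈ dotSet baseA (-16))
    {y : leechLattice} (hy : (y : GolayPt → ℤ) ∈ dotSet baseA (-16)) :
    ∃ g : Co0, g • bA = bA ∧ g • x = y := by
  obtain ⟨g, e, hF⟩ := exists_smul_of_reach
    (reach_of_tree co2_tree (dotSet_finite _ _) ncard_dotSet_A.le sub4600 hx)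
    (reach_of_tree co2_tree (dotSet_finite _ _) ncard_dotSet_A.le sub4600 hy)
  exact ⟨g, hF bA (by simp [bA, baseA, co2Fix]), e⟩

theorem to275 {x : leechLattice} (hx : (x : GolayPt → ℤ) ∈ set275) :
    ∃ g : Co0, g • bD = bD ∧ g • bA = bA ∧ g • x = bX := by
  obtain ⟨g, e, hF⟩ := exists_smul_of_reach
    (reach_of_tree mcl_tree set275_finite ncard_set275.le sub275 hx)
    (show ReachL (mclFix.map vec) (vec mclRoot) (bX : GolayPt → ℤ) from ReachG.refl _ bX.2)
  exact ⟨g, hF bD (by simp [bD, baseD, mclFix, co3vFix]), hF bA (by simp [bA, baseA, mclFix, co2Fix]), e⟩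

theorem to100 {x : leechLattice} (hx : (x : GolayPt → ℤ) ∈ set100) :
    ∃ g : Co0, g • bD = bD ∧ g • bW = bW ∧ g • x = bA := by
  obtain ⟨g, e, hF⟩ := exists_smul_of_reach
    (reach_of_tree hs_tree set100_finite ncard_set100.le sub100 hx)
    (show ReachL (hsFix.map vec) (vec hsRoot) (bA : GolayPt → ℤ) from ReachG.refl _ bA.2)
  exact ⟨g, hF bD (by simp [bD, baseD, hsFix, co3vFix]), hF bW (by simp [bW, baseW, hsFix]), e⟩

theorem sqNorm_sub_dot (u x : GolayPt → ℤ) :
    sqNorm (u - x) = sqNorm u - 2 * dotInt u x + sqNorm x := by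
  simp only [sqNorm, dotInt, Pi.sub_apply, Finset.mul_sum, ← Finset.sum_sub_distrib,
    ← Finset.sum_add_distrib]
  exact Finset.sum_congr rfl fun i _ => by ring

theorem canon552 (u v : leechLattice) (hu : sqNorm (u : GolayPt → ℤ) = 48)
    (hv : sqNorm (v : GolayPt → ℤ) = 32 ∧ sqNorm ((u : GolayPt → ℤ) - (v : GolayPt → ℤ)) = 32) :
    ∃ g : Co0, g • u = bD ∧ g • v = bA := by
  obtain ⟨g, hg⟩ := transitive_norm48 u bD hu base_facts.1.2
  have hd : dotInt (u : GolayPt → ℤ) (v : GolayPt → ℤ) = 24 := by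
    have h := hv.2
    rw [sqNorm_sub_dot, hu, hv.1] at h
    omega
  obtain ⟨h, hD, hx⟩ := to552 (x := g • v) ⟨(g • v).2, by rw [co0_norm]; exact hv.1, by
    have : dotInt ((g • u : leechLattice) : GolayPt → ℤ) ((g • v : leechLattice) : GolayPt → ℤ) = 24 := by
      rw [co0_dot]; exact hd
    rw [hg] at this; exact this⟩
  exact ⟨h * g, by rw [mul_smul, hg, hD], by rw [mul_smul, hx]⟩

theorem canonHS (v w : leechLattice) (hv : sqNorm (v : GolayPt → ℤ) = 48)
    (hw : sqNorm (w : GolayPt → ℤ) = 48) (hd : dotInt (v : GolayPt → ℤ) (w : GolayPt → ℤ) = -32) :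
    ∃ g : Co0, g • v = bD ∧ g • w = bW := by
  obtain ⟨g, hg⟩ := transitive_norm48 v bD hv base_facts.1.2
  set w' : GolayPt → ℤ := ((g • w : leechLattice) : GolayPt → ℤ) with hw'
  have hd' : dotInt baseD w' = -32 := by
    have : dotInt ((g • v : leechLattice) : GolayPt → ℤ) w' = -32 := by
      rw [hw', co0_dot]; exact hd
    rw [hg] at this; exact this
  have hn' : sqNorm w' = 48 := by rw [hw', co0_norm]; exact hw
  have hmem : baseD + w' ∈ dotSet baseD 16 := by
    refine ⟨add_mem bD.2 (g • w).2, ?_, ?_⟩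
    · have e : sqNorm (baseD + w') = sqNorm baseD + 2 * dotInt baseD w' + sqNorm w' := by
        simp only [sqNorm, dotInt, Pi.add_apply, Finset.mul_sum, ← Finset.sum_add_distrib]
        exact Finset.sum_congr rfl fun i _ => by ring
      rw [e, base_facts.1.2, hd', hn']; norm_num
    · have e : dotInt baseD (baseD + w') = sqNorm baseD + dotInt baseD w' := by
        simp only [sqNorm, dotInt, Pi.add_apply, ← Finset.sum_add_distrib]
        exact Finset.sum_congr rfl fun i _ => by ring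
      rw [e, base_facts.1.2, hd']; norm_num
  obtain ⟨h, e, hF⟩ := exists_smul_of_reach (x := bD + g • w) (y := bD + bW)
    (reach_of_tree co3m_tree (dotSet_finite _ _) ncard_dotSet_D16.le sub11178 hmem)
    (show ReachL (co3mFix.map vec) (vec co3mRoot) ((bD + bW : leechLattice) : GolayPt → ℤ) from by
      rw [AddSubgroup.coe_add, show (bD : GolayPt → ℤ) + bW = baseM from base_facts.2.2.2.2.2.2.2.2.2.2.2]
      exact ReachG.refl _ (leechB_iff.mp base_facts.2.2.2.2.1.1))
  have hD := hF bD (by simp [bD, baseD, co3mFix, co3vFix])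
  rw [co0_add, hD] at e
  exact ⟨h * g, by rw [mul_smul, hg, hD], by rw [mul_smul]; exact add_left_cancel e⟩

/-- Counts transport along a member of the group. -/
theorem ncard_transport (g : Co0) (P Q : leechLattice → Prop) (h : ∀ x, P x ↔ Q (g • x)) :
    {x | P x}.ncard = {x | Q x}.ncard := by
  refine Set.ncard_congr (fun x _ => g • x) (fun x hx => (h x).1 hx)
    (fun a b _ _ e => smul_left_cancel g e)
    fun y hy => ⟨g⁻¹ • y, (h _).2 (by rw [smul_inv_smul]; exact hy), smul_inv_smul g y⟩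

theorem ncard_val (Q : (GolayPt → ℤ) → Prop) (hQ : ∀ x, Q x → x ∈ leechLattice) :
    {x : leechLattice | Q x}.ncard = {x | Q x}.ncard := by
  rw [← Set.ncard_image_of_injective _ Subtype.val_injective]
  congr 1
  ext x
  exact ⟨fun ⟨y, hy, e⟩ => e ▸ hy, fun hx => ⟨⟨x, hQ x hx⟩, hx, rfl⟩⟩

theorem sub_mcl_orbit {r : GolayPt → ℤ} {c : ℤ}
    (hr : sqNorm r = 32 ∧ dotInt baseD r = 24 ∧ dotInt baseA r = 16 ∧ dotInt baseX r = c)
    (x : GolayPt → ℤ) (h : ReachL [baseD, baseA, baseX] r x) :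
    x ∈ {x | x ∈ set275 ∧ dotInt baseX x = c} := by
  obtain ⟨⟨hm, hn⟩, hd⟩ := reach_props (F := [baseD, baseA, baseX]) (by
    intro f hf
    simp only [List.mem_cons, List.not_mem_nil, or_false] at hf
    rcases hf with rfl | rfl | rfl
    exacts [bD.2, bA.2, bX.2]) h
  exact ⟨⟨⟨hm, hn.trans hr.1, (hd baseD (by simp)).trans hr.2.1⟩, (hd baseA (by simp)).trans hr.2.2.1⟩,
    (hd baseX (by simp)).trans hr.2.2.2⟩

theorem ncard_mcl_8 : {x | x ∈ set275 ∧ dotInt baseX x = 8}.ncard = 112 :=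
  (ncard_sep_tree mcl_tree set275_finite ncard_set275.le sub275 _ (fun x => dotInt baseX x = 8)
    fun c => by rw [beq_iff_eq, dotP_eq _ (by rfl)]; rfl).trans mcl_counts.1

theorem ncard_mcl_16 : {x | x ∈ set275 ∧ dotInt baseX x = 16}.ncard = 162 :=
  (ncard_sep_tree mcl_tree set275_finite ncard_set275.le sub275 _ (fun x => dotInt baseX x = 16)
    fun c => by rw [beq_iff_eq, dotP_eq _ (by rfl)]; rfl).trans mcl_counts.2.1

theorem eq_of_dot32 {x y : GolayPt → ℤ} (hx : sqNorm x = 32) (hy : sqNorm y = 32)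
    (h : dotInt x y = 32) : x = y := by
  have e := sqNorm_sub_dot x y
  rw [hx, hy, h] at e
  funext p
  have h1 : (x p - y p) ^ 2 ≤ sqNorm (x - y) :=
    Finset.single_le_sum (f := fun p => (x - y) p ^ 2) (fun p _ => sq_nonneg _) (Finset.mem_univ p)
  have h2 : (x p - y p) ^ 2 = 0 := le_antisymm (by omega) (sq_nonneg _)
  have := pow_eq_zero_iff (two_ne_zero) |>.1 h2
  omega

theorem mcl_dot_cases {x : GolayPt → ℤ} (hx : x ∈ set275) (hne : x ≠ baseX) :
    dotInt baseX x = 8 ∨ dotInt baseX x = 16 := by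
  by_contra hcon
  have h0 := (ncard_sep_tree mcl_tree set275_finite ncard_set275.le sub275
    (fun c => dotP mclRoot c != 8 && dotP mclRoot c != 16 && dotP mclRoot c != 32)
    (fun x => dotInt baseX x ≠ 8 ∧ dotInt baseX x ≠ 16 ∧ dotInt baseX x ≠ 32) fun c => by
      simp only [Bool.and_eq_true, bne_iff_ne, dotP_eq _ (by rfl : mclRoot.length = 24), and_assoc]
      exact Iff.rfl).trans mcl_counts.2.2
  have hfin : {x | x ∈ set275 ∧ (dotInt baseX x ≠ 8 ∧ dotInt baseX x ≠ 16 ∧ dotInt baseX x ≠ 32)}.Finite :=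
    set275_finite.subset fun _ h => h.1
  rw [Set.ncard_eq_zero hfin] at h0
  have hne32 : dotInt baseX x ≠ 32 := fun e =>
    hne (eq_of_dot32 base_facts.2.2.2.1.2 hx.1.2.1 e).symm
  exact Set.eq_empty_iff_forall_notMem.1 h0 x
    ⟨hx, fun e => hcon (Or.inl e), fun e => hcon (Or.inr e), hne32⟩

theorem within_mcl {x y : leechLattice} (hx : (x : GolayPt → ℤ) ∈ set275)
    (hy : (y : GolayPt → ℤ) ∈ set275) (hxn : (x : GolayPt → ℤ) ≠ baseX)
    (he : dotInt baseX (x : GolayPt → ℤ) = dotInt baseX (y : GolayPt → ℤ)) :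
    ∃ g : Co0, g • bD = bD ∧ g • bA = bA ∧ g • bX = bX ∧ g • x = y := by
  have hsub : ∀ {r : List ℤ} {c : ℤ},
      (sqNorm (vec r) = 32 ∧ dotInt baseD (vec r) = 24 ∧ dotInt baseA (vec r) = 16 ∧
        dotInt baseX (vec r) = c) → ∀ z, ReachL (u43aFix.map vec) (vec r) z →
        z ∈ {x | x ∈ set275 ∧ dotInt baseX x = c} := fun hr z hz => sub_mcl_orbit hr z hz
  rcases mcl_dot_cases hx hxn with h | h
  · obtain ⟨g, e, hF⟩ := exists_smul_of_reach
      (reach_of_tree u43a_tree (set275_finite.subset fun _ h => h.1) ncard_mcl_8.le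
        (hsub (by decide +kernel)) ⟨hx, h⟩)
      (reach_of_tree u43a_tree (set275_finite.subset fun _ h => h.1) ncard_mcl_8.le
        (hsub (by decide +kernel)) ⟨hy, he ▸ h⟩)
    exact ⟨g, hF bD (by simp [bD, baseD, u43aFix, co3vFix]), hF bA (by simp [bA, baseA, u43aFix, co2Fix]),
      hF bX (by simp [bX, baseX, u43aFix, mclRoot]), e⟩
  · obtain ⟨g, e, hF⟩ := exists_smul_of_reach
      (reach_of_tree u43b_tree (set275_finite.subset fun _ h => h.1) ncard_mcl_16.le
        (hsub (by decide +kernel)) ⟨hx, h⟩)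
      (reach_of_tree u43b_tree (set275_finite.subset fun _ h => h.1) ncard_mcl_16.le
        (hsub (by decide +kernel)) ⟨hy, he ▸ h⟩)
    exact ⟨g, hF bD (by simp [bD, baseD, u43bFix, co3vFix]), hF bA (by simp [bA, baseA, u43bFix, co2Fix]),
      hF bX (by simp [bX, baseX, u43bFix, mclRoot]), e⟩

theorem sub_hs_orbit {r : GolayPt → ℤ} {P : ℤ → Prop}
    (hr : sqNorm r = 32 ∧ dotInt baseD r = 24 ∧ dotInt baseW r = -24) (hP : P (dotInt baseA r))
    (x : GolayPt → ℤ) (h : ReachL [baseD, baseW, baseA] r x) :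
    x ∈ {x | x ∈ set100 ∧ P (dotInt baseA x)} := by
  obtain ⟨⟨hm, hn⟩, hd⟩ := reach_props (F := [baseD, baseW, baseA]) (by
    intro f hf
    simp only [List.mem_cons, List.not_mem_nil, or_false] at hf
    rcases hf with rfl | rfl | rfl
    exacts [bD.2, bW.2, bA.2]) h
  exact ⟨⟨⟨hm, hn.trans hr.1, (hd baseD (by simp)).trans hr.2.1⟩, (hd baseW (by simp)).trans hr.2.2⟩,
    by rw [hd baseA (by simp)]; exact hP⟩

theorem ncard_hs_8 : {x | x ∈ set100 ∧ dotInt baseA x = 8}.ncard = 22 :=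
  (ncard_sep_tree hs_tree set100_finite ncard_set100.le sub100 _ (fun x => dotInt baseA x = 8)
    fun c => by rw [beq_iff_eq, dotP_eq _ (by rfl)]; rfl).trans hs_counts.1

theorem ncard_hs_other :
    {x | x ∈ set100 ∧ (dotInt baseA x ≠ 8 ∧ dotInt baseA x ≠ 32)}.ncard = 77 :=
  (ncard_sep_tree hs_tree set100_finite ncard_set100.le sub100
    (fun c => dotP hsRoot c != 8 && dotP hsRoot c != 32)
    (fun x => dotInt baseA x ≠ 8 ∧ dotInt baseA x ≠ 32) fun c => by
      simp only [Bool.and_eq_true, bne_iff_ne, dotP_eq _ (by rfl : hsRoot.length = 24)]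
      exact Iff.rfl).trans hs_counts.2

theorem within_hs {x y : leechLattice} (hx : (x : GolayPt → ℤ) ∈ set100)
    (hy : (y : GolayPt → ℤ) ∈ set100) (hxn : (x : GolayPt → ℤ) ≠ baseA) (hyn : (y : GolayPt → ℤ) ≠ baseA)
    (he : dotInt baseA (x : GolayPt → ℤ) = 8 ↔ dotInt baseA (y : GolayPt → ℤ) = 8) :
    ∃ g : Co0, g • bD = bD ∧ g • bW = bW ∧ g • bA = bA ∧ g • x = y := by
  have h32 : ∀ z : leechLattice, (z : GolayPt → ℤ) ∈ set100 → (z : GolayPt → ℤ) ≠ baseA →
      dotInt baseA (z : GolayPt → ℤ) ≠ 32 :=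
    fun z hz hn e => hn (eq_of_dot32 base_facts.2.1.2 hz.1.2.1 e).symm
  by_cases h : dotInt baseA (x : GolayPt → ℤ) = 8
  · obtain ⟨g, e, hF⟩ := exists_smul_of_reach
      (reach_of_tree m22a_tree (set100_finite.subset fun _ h => h.1) ncard_hs_8.le
        (fun z hz => sub_hs_orbit (P := fun t => t = 8) (r := vec m22aRoot) (by decide +kernel)
          (by decide +kernel) z hz) ⟨hx, h⟩)
      (reach_of_tree m22a_tree (set100_finite.subset fun _ h => h.1) ncard_hs_8.le
        (fun z hz => sub_hs_orbit (P := fun t => t = 8) (r := vec m22aRoot) (by decide +kernel)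
          (by decide +kernel) z hz) ⟨hy, he.1 h⟩)
    exact ⟨g, hF bD (by simp [bD, baseD, m22aFix, co3vFix]), hF bW (by simp [bW, baseW, m22aFix, hsFix]),
      hF bA (by simp [bA, baseA, m22aFix, co2Fix]), e⟩
  · obtain ⟨g, e, hF⟩ := exists_smul_of_reach
      (reach_of_tree m22b_tree (set100_finite.subset fun _ h => h.1) ncard_hs_other.le
        (fun z hz => sub_hs_orbit (P := fun t => t ≠ 8 ∧ t ≠ 32) (r := vec m22bRoot) (by decide +kernel)
          (by decide +kernel) z hz) ⟨hx, h, h32 x hx hxn⟩)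
      (reach_of_tree m22b_tree (set100_finite.subset fun _ h => h.1) ncard_hs_other.le
        (fun z hz => sub_hs_orbit (P := fun t => t ≠ 8 ∧ t ≠ 32) (r := vec m22bRoot) (by decide +kernel)
          (by decide +kernel) z hz) ⟨hy, fun e => h (he.2 e), h32 y hy hyn⟩)
    exact ⟨g, hF bD (by simp [bD, baseD, m22bFix, co3vFix]), hF bW (by simp [bW, baseW, m22bFix, hsFix]),
      hF bA (by simp [bA, baseA, m22bFix, co2Fix]), e⟩

end CfsgLib.Leech
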