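import Cfsg.Agent.Leech.Tree
import Cfsg.Agent.Leech.Configs
import Cfsg.Agent.Leech.Co1
import Cfsg.Agent.Leech.NormalTools

/-!
A subgroup of a stabiliser is everything when certified orbits of its members cover the chain.
-/

set_option autoImplicit false

namespace CfsgLib.Leech

open Cfsg CfsgLib.Mathieu

attribute [local irreducible] dec penc pact

/-- Members of `S` act as each generator. -/
def GensIn (S : Subgroup Co0) (gens : List (List Mv)) : Prop :=
  ∀ ms ∈ gens, ms.all Mv.ok = true ∧ ∃ g ∈ S, ∀ (l : List ℤ) (hl : vec l ∈ leechLattice),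
    ((g • (⟨vec l, hl⟩ : leechLattice) : leechLattice) : GolayPt → ℤ) = vec (runMoves ms l)

/-- A packed vector carried from `root` by `S`. -/
def InOrb (S : Subgroup Co0) (root : leechLattice) (c : ℕ) : Prop :=
  penc (dec c) = c ∧ sqNorm (vec (dec c)) ≤ 80 ∧
    ∃ g ∈ S, ((g • root : leechLattice) : GolayPt → ℤ) = vec (dec c)

theorem inOrb_nextLvl {S : Subgroup Co0} {gens : List (List Mv)} (hg : GensIn S gens)
    {root : leechLattice} : ∀ (cur : List ℕ) (m : ℕ), (∀ c ∈ cur, InOrb S root c) →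
      ∀ c ∈ nextLvl gens cur m, InOrb S root c
  | [], _, _, c, hc => by simp [nextLvl] at hc
  | x :: xs, m, h, c, hc => by
    rw [nextLvl, List.mem_append] at hc
    rcases hc with hc | hc
    · simp only [kids, List.mem_map, List.mem_filter, List.mem_range] at hc
      obtain ⟨j, ⟨hj, -⟩, rfl⟩ := hc
      rw [List.getD_eq_getElem _ _ hj]
      obtain ⟨hok, a, ha, hact⟩ := hg _ (List.getElem_mem hj)
      obtain ⟨hp, hn, g, hgS, hgx⟩ := h x (by simp)
      have hm : vec (dec x) ∈ leechLattice := hgx ▸ (g • root).2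
      obtain ⟨e, e'⟩ := prun_spec gens[j] hok x hm hn hp
      refine ⟨e', ?_, a * g, mul_mem ha hgS, ?_⟩
      · rw [e, ← hact _ hm, co0_norm]; exact hn
      · rw [e, mul_smul, show g • root = ⟨vec (dec x), hm⟩ from Subtype.ext hgx, hact _ hm]
    · exact inOrb_nextLvl hg xs _ (fun l hl => h l (by simp [hl])) c hc

theorem inOrb_treeList {S : Subgroup Co0} {gens : List (List Mv)} (hg : GensIn S gens)
    {root : leechLattice} : ∀ (ms : List ℕ) (cur : List ℕ), (∀ c ∈ cur, InOrb S root c) →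
      ∀ c ∈ treeList gens cur ms, InOrb S root c
  | [], _, h, c, hc => h c hc
  | m :: ms, cur, h, c, hc => by
    rw [treeList, List.mem_append] at hc
    rcases hc with hc | hc
    · exact h c hc
    · exact inOrb_treeList hg ms _ (inOrb_nextLvl hg cur m h) c hc

/-- The orbit of `x` under `G`. -/
def orb (G : Subgroup Co0) (x : leechLattice) : Set leechLattice := {y | ∃ g ∈ G, g • x = y}

theorem orb_finite (G : Subgroup Co0) (x : leechLattice) : (orb G x).Finite := by
  have := co0_finite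
  exact (Set.finite_range fun g : Co0 => g • x).subset fun y ⟨g, _, e⟩ => ⟨g, e⟩

/-- A certificate bounds an orbit from below. -/
theorem le_ncard_orb {S : Subgroup Co0} {F : List (List ℤ)} {gens : List (List Mv)} {r : List ℤ}
    {ms : List ℕ} {n : ℕ} (h : treeOK F gens r ms n = true) (hg : GensIn S gens) (root : leechLattice)
    (hroot : (root : GolayPt → ℤ) = vec r) : n ≤ (orb S root).ncard := by
  simp only [treeOK, Bool.and_eq_true, beq_iff_eq, decide_eq_true_eq] at h
  obtain ⟨⟨⟨-, hr⟩, -⟩, hcount, hdist⟩ := h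
  have hall := inOrb_treeList hg ms [penc r] (root := root) fun c hc => by
    rw [List.mem_singleton] at hc; subst hc
    unfold InOrb
    rw [hr.1]
    exact ⟨rfl, hr.2, 1, one_mem _, by rw [one_smul, hroot]⟩
  have hsub : (fun c => vec (dec c)) '' {c | c ∈ treeList gens [penc r] ms} ⊆
      Subtype.val '' orb S root := by
    rintro x ⟨c, hc, rfl⟩
    obtain ⟨-, -, g, hg', e⟩ := hall c hc
    exact ⟨g • root, ⟨g, hg', rfl⟩, e⟩
  have hinj : Set.InjOn (fun c => vec (dec c)) {c | c ∈ treeList gens [penc r] ms} := by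
    intro a ha b hb e
    rw [← (hall a ha).1, ← (hall b hb).1, ← toList_vec (dec_length a),
      show vec (dec a) = vec (dec b) from e, toList_vec (dec_length b)]
  calc n = {c | c ∈ treeList gens [penc r] ms}.ncard := by
        rw [show {c | c ∈ treeList gens [penc r] ms} = ↑(treeList gens [penc r] ms).toFinset by ext; simp,
          Set.ncard_coe_finset, List.toFinset_card_of_nodup (nodup_of_distinctB hdist), hcount]
    _ = ((fun c => vec (dec c)) '' {c | c ∈ treeList gens [penc r] ms}).ncard := (Set.InjOn.ncard_image hinj).symm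
    _ ≤ (Subtype.val '' orb S root).ncard := Set.ncard_le_ncard hsub ((orb_finite S root).image _)
    _ = (orb S root).ncard := Set.ncard_image_of_injective _ Subtype.val_injective

/-- One step down a chain: a subgroup with a full orbit and the point stabiliser inside is everything. -/
theorem le_of_orb {G N : Subgroup Co0} (hNG : N ≤ G) (x : leechLattice)
    (horb : (orb G x).ncard ≤ (orb N x).ncard) (hst : G ⊓ MulAction.stabilizer Co0 x ≤ N) : G ≤ N := by
  intro g hg
  have he : orb N x = orb G x :=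
    Set.eq_of_subset_of_ncard_le (fun y ⟨n, hn, e⟩ => ⟨n, hNG hn, e⟩) horb (orb_finite G x)
  obtain ⟨n, hn, e⟩ : g • x ∈ orb N x := he.symm ▸ ⟨g, hg, rfl⟩
  have h1 : n⁻¹ * g ∈ G ⊓ MulAction.stabilizer Co0 x :=
    ⟨G.mul_mem (G.inv_mem (hNG hn)) hg, by
      show (n⁻¹ * g) • x = x
      rw [mul_smul, inv_smul_eq_iff, e]⟩
  have := mul_mem hn (hst h1)
  rwa [mul_inv_cancel_left] at this

theorem card_eq_orb_mul (G : Subgroup Co0) (x : leechLattice) :
    Nat.card G = (orb G x).ncard * Nat.card ↥(G ⊓ MulAction.stabilizer Co0 x) := by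
  have h := Subgroup.index_mul_card (MulAction.stabilizer G x)
  have e1 : (MulAction.stabilizer G x).index = (orb G x).ncard := by
    rw [MulAction.index_stabilizer]
    congr 1
    ext y
    exact ⟨fun ⟨g, e⟩ => ⟨g.1, g.2, e⟩, fun ⟨g, hg, e⟩ => ⟨⟨g, hg⟩, e⟩⟩
  have e2 : Nat.card (MulAction.stabilizer G x) = Nat.card ↥(G ⊓ MulAction.stabilizer Co0 x) :=
    Nat.card_congr
      { toFun := fun g => ⟨g.1.1, g.1.2, g.2⟩
        invFun := fun g => ⟨⟨g.1, g.2.1⟩, g.2.2⟩
        left_inv := fun _ => rfl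
        right_inv := fun _ => rfl }
  rw [← h, e1, e2]

/-- `N` is closed under conjugation by `G`. -/
def NormalisedBy (G N : Subgroup Co0) : Prop := ∀ g ∈ G, ∀ n ∈ N, g * n * g⁻¹ ∈ N

theorem NormalisedBy.mono {G G' N : Subgroup Co0} (h : NormalisedBy G N) (hle : G' ≤ G) :
    NormalisedBy G' N := fun g hg n hn => h g (hle hg) n hn

theorem NormalisedBy.normal {G N : Subgroup Co0} (h : NormalisedBy G N) : (N.subgroupOf G).Normal :=
  ⟨fun n hn g => Subgroup.mem_subgroupOf.2 (by
    simpa using h g.1 g.2 n.1 (Subgroup.mem_subgroupOf.1 hn))⟩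

theorem isSimpleGroup_of_cases (G : Subgroup Co0) (hnt : ∃ g ∈ G, g ≠ 1)
    (key : ∀ N : Subgroup Co0, N ≤ G → NormalisedBy G N → N = ⊥ ∨ G ≤ N) : IsSimpleGroup G := by
  obtain ⟨g₀, hg₀, hne⟩ := hnt
  have : Nontrivial G := ⟨⟨⟨g₀, hg₀⟩, 1, fun e => hne (congrArg Subtype.val e)⟩⟩
  refine ⟨fun H hH => ?_⟩
  rcases key (H.map G.subtype) (Subgroup.map_subtype_le H) (by
    rintro g hg n ⟨m, hm, rfl⟩
    exact ⟨_, hH.conj_mem m hm ⟨g, hg⟩, rfl⟩) with h | h
  · exact Or.inl ((Subgroup.map_eq_bot_iff_of_injective _ G.subtype_injective).1 h)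
  · refine Or.inr ((Subgroup.eq_top_iff' H).2 fun x => ?_)
    obtain ⟨y, hy, e⟩ := h x.2
    rwa [← G.subtype_injective e]

/-- Either the normal subgroup is a `p`-group, or it contains every element of order `r`. -/
theorem normal_dichotomy {G N : Subgroup Co0} (hle : N ≤ G) (hN : NormalisedBy G N) {p r : ℕ}
    [Fact r.Prime] {π : Co0} (hπG : π ∈ G) (hπ : orderOf π = r) (hr2 : ¬ r ^ 2 ∣ Nat.card G)
    (hC : ∀ y ∈ G, y * π = π * y → y ^ r = 1)
    (hmod : ∀ q, q.Prime → q ≠ p → q ≠ r → ∀ k, k ≠ 0 → q ^ k ∣ Nat.card G → q ^ k % r ≠ 1) :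
    IsPGroup p N ∨ ∀ x ∈ G, orderOf x = r → x ∈ N := by
  have := co0_finite
  have := hN.normal
  have hr : r ∣ Nat.card G := by
    rw [← hπ, ← Subgroup.orderOf_mk π hπG]; exact orderOf_dvd_natCard _
  by_cases h : r ∣ Nat.card (N.subgroupOf G)
  · right
    intro x hx hxo
    exact Subgroup.mem_subgroupOf.1 (mem_of_prime_order hr2 h
      (show orderOf (⟨x, hx⟩ : G) = r by rw [Subgroup.orderOf_mk]; exact hxo))
  · left
    have hP := isPGroup_of_selfCentralizing (π := (⟨π, hπG⟩ : G)) (by rw [Subgroup.orderOf_mk]; exact hπ)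
      hr hr2 (fun q hq hqp hqr y hy hyc => hqr ?_) hmod (N.subgroupOf G) h
    · exact hP.of_equiv (Subgroup.subgroupOfEquivOfLe hle)
    · have h1 : (y : Co0) ^ r = 1 := hC y.1 y.2 (congrArg Subtype.val hyc)
      have h2 := orderOf_dvd_of_pow_eq_one h1
      rw [Subgroup.orderOf_coe, hy] at h2
      exact (Nat.prime_dvd_prime_iff_eq hq Fact.out).1 h2

theorem mem_of_dvd_prod {q : ℕ} (hq : q.Prime) :
    ∀ l : List ℕ, (∀ a ∈ l, a.Prime) → q ∣ l.prod → q ∈ l
  | [], _, h => absurd (Nat.dvd_one.1 (List.prod_nil (α := ℕ) ▸ h)) hq.ne_one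
  | a :: l, hl, h => by
    rw [List.prod_cons] at h
    rcases hq.dvd_mul.1 h with h | h
    · exact List.mem_cons.2 (Or.inl ((Nat.prime_dvd_prime_iff_eq hq (hl a (by simp))).1 h))
    · exact List.mem_cons_of_mem _ (mem_of_dvd_prod hq l (fun b hb => hl b (by simp [hb])) h)

theorem smul_eq_of_vec {g : Co0} {v : leechLattice} {l : List ℤ} (hl : (v : GolayPt → ℤ) = vec l)
    {m : List Mv} (hg : ∀ (a : List ℤ) (ha : vec a ∈ leechLattice),
      ((g • (⟨vec a, ha⟩ : leechLattice) : leechLattice) : GolayPt → ℤ) = vec (runMoves m a))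
    (hfix : runMoves m l = l) : g • v = v := by
  apply Subtype.ext
  have hm : vec l ∈ leechLattice := hl ▸ v.2
  rw [show v = ⟨vec l, hm⟩ from Subtype.ext hl, hg l hm, hfix]

end CfsgLib.Leech
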