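import Cfsg.Agent.Leech.Co0

/-!
Stabilisers of conjugate vectors are isomorphic.
-/

set_option autoImplicit false

namespace CfsgLib.Leech

open Cfsg

/-- Conjugation carries a subgroup to the subgroup with conjugated membership. -/
def conjEquiv {G : Type*} [Group G] {A B : Subgroup G} (g : G) (h : ∀ x, x ∈ A ↔ g * x * g⁻¹ ∈ B) :
    A ≃* B where
  toFun x := ⟨g * x.1 * g⁻¹, (h x.1).1 x.2⟩
  invFun y := ⟨g⁻¹ * y.1 * g, (h _).2 (by simp [mul_assoc])⟩
  left_inv x := Subtype.ext (by simp [mul_assoc])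
  right_inv y := Subtype.ext (by simp [mul_assoc])
  map_mul' x y := Subtype.ext (by simp [mul_assoc])

theorem smul_conj_iff (g x : Co0) {v w : leechLattice} (e : g • v = w) :
    x • v = v ↔ (g * x * g⁻¹) • w = w := by
  rw [← e, mul_smul, mul_smul, inv_smul_smul, smul_left_cancel_iff]

/-- Isomorphic stabilisers. -/
def stabEquiv {g : Co0} {v w : leechLattice} (e : g • v = w) :
    MulAction.stabilizer Co0 v ≃* MulAction.stabilizer Co0 w :=
  conjEquiv g fun x => smul_conj_iff g x e

/-- Isomorphic joint stabilisers. -/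
def stabEquiv₂ {g : Co0} {v w v' w' : leechLattice} (e : g • v = v') (e' : g • w = w') :
    ↥(MulAction.stabilizer Co0 v ⊓ MulAction.stabilizer Co0 w) ≃*
      ↥(MulAction.stabilizer Co0 v' ⊓ MulAction.stabilizer Co0 w') :=
  conjEquiv g fun x => and_congr (smul_conj_iff g x e) (smul_conj_iff g x e')

end CfsgLib.Leech
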