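import Cfsg.Agent.Leech.StabPerm

/-!
The bottom of the stabiliser chains is monomial.
-/

set_option autoImplicit false

namespace CfsgLib.Leech

open Cfsg CfsgLib.Mathieu
open scoped Pointwise symmDiff

/-- The minimal vector `bD + bW`. -/
def bM : leechLattice := ⟨baseM, leechB_iff.mp base_facts.2.2.2.2.1.1⟩

theorem bM_add_bA : bM + bA = eightL none := by
  refine Subtype.ext (funext fun p => ?_)
  show baseM p + baseA p = eight none p
  exact (by decide +kernel : ∀ p, baseM p + baseA p = eight none p) p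

theorem bD_add_bW : bD + bW = bM := Subtype.ext base_facts.2.2.2.2.2.2.2.2.2.2.2

theorem eq_mono_of_fix {g : Co0} (h : g • eightL none = eightL none) :
    ∃ (τ : Equiv.Perm GolayPt) (hτ : τ ∈ M24) (c : Finset GolayPt)
      (hc : c ∈ supports (golayCode : Set (GolayPt → ZMod 2))),
      g = monoCo0 τ hτ c hc ∧ τ none = none ∧ none ∉ c := by
  obtain ⟨τ, hτ, c, hc, rfl⟩ := eq_monoCo0 (preservesCross_of_mem (q := none)
    (by rw [h]; exact eightL_mem_stdCross none))
  have h1 := congrFun (congrArg Subtype.val h) none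
  rw [monoCo0_smul] at h1
  simp only [monoFun, eightL, eight, Pi.single_apply] at h1
  by_cases hc' : none ∈ c <;> by_cases hn : τ none = none <;>
    first | exact ⟨τ, hτ, c, hc, rfl, hn, hc'⟩ | simp [hc', hn] at h1

theorem mono_fix_apply {τ : Equiv.Perm GolayPt} {hτ : τ ∈ M24} {c : Finset GolayPt}
    {hc : c ∈ supports (golayCode : Set (GolayPt → ZMod 2))} {v : leechLattice}
    (h : monoCo0 τ hτ c hc • v = v) (p : GolayPt) :
    (if p ∈ c then -(v : GolayPt → ℤ) (τ p) else (v : GolayPt → ℤ) (τ p)) = (v : GolayPt → ℤ) p := by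
  have h1 := congrFun (congrArg Subtype.val h) p
  rwa [monoCo0_smul] at h1

theorem perm_of_fix_eight_D {g : Co0} (h : g • eightL none = eightL none) (hD : g • bD = bD) :
    ∃ τ : M24, g = permHom τ ∧ τ.1 none = none := by
  obtain ⟨τ, hτ, c, hc, rfl, hn, -⟩ := eq_mono_of_fix h
  have hpos : ∀ p, 0 < baseD p := by decide +kernel
  have hc0 : c = ∅ := Finset.eq_empty_of_forall_notMem fun p hp => by
    have h1 := mono_fix_apply hD p
    rw [if_pos hp] at h1
    have h2 := hpos p
    have h3 := hpos (τ p)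
    change -baseD (τ p) = baseD p at h1
    omega
  subst hc0
  exact ⟨⟨τ⁻¹, inv_mem hτ⟩, permHom_eq τ hτ, inv_fix hn⟩

theorem perm22_of_fix {g : Co0} (hD : g • bD = bD) (hM : g • bM = bM) (hA : g • bA = bA) :
    ∃ τ ∈ perm22, g = permHom τ := by
  have h : g • eightL none = eightL none := by rw [← bM_add_bA, co0_add, hM, hA]
  obtain ⟨τ, rfl, hn⟩ := perm_of_fix_eight_D h hD
  refine ⟨τ, mem_perm22.2 ⟨hn, ?_⟩, rfl⟩
  have h1 := congrFun (congrArg Subtype.val hA) (pt 0)
  rw [permHom_smul] at h1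
  have h2 : ∀ q, baseA q = baseA (pt 0) → q = none ∨ q = pt 0 := by decide +kernel
  rcases h2 _ h1 with e | e
  · exact absurd (τ.1⁻¹.injective (e.trans (inv_fix hn).symm)) (Ne.symm pt0_ne_none)
  · conv_lhs => rw [← e]
    exact perm_apply_inv τ.1 (pt 0)

theorem perm22_fix_base {τ : M24} (h : τ ∈ perm22) :
    permHom τ • bD = bD ∧ permHom τ • bA = bA ∧ permHom τ • bW = bW ∧ permHom τ • bM = bM := by
  obtain ⟨cA, cD, cW⟩ := base_const
  have hD := perm22_fix h (v := bD) fun p hp _ => cD p hp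
  have hW := perm22_fix h (v := bW) cW
  exact ⟨hD, perm22_fix h (v := bA) cA, hW, by rw [← bD_add_bW, co0_add, hD, hW]⟩

theorem eq_bot_of_isPGroup_one {N : Subgroup Co0} (h : IsPGroup 1 N) : N = ⊥ := by
  refine (Subgroup.eq_bot_iff_forall N).2 fun n hn => ?_
  obtain ⟨k, hk⟩ := h ⟨n, hn⟩
  rw [one_pow, pow_one] at hk
  exact congrArg Subtype.val hk

theorem fix_of_list {g : Co0} (v : leechLattice) {l : List ℤ} (hv : (v : GolayPt → ℤ) = vec l)
    (h : ∀ (hf : vec l ∈ leechLattice),
      ((g • (⟨vec l, hf⟩ : leechLattice) : leechLattice) : GolayPt → ℤ) = vec l) : g • v = v := by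
  have hf : vec l ∈ leechLattice := hv ▸ v.2
  rw [show v = ⟨vec l, hf⟩ from Subtype.ext hv]
  exact Subtype.ext (h hf)

end CfsgLib.Leech
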