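import Cfsg.Agent.Mathieu.Code
import Cfsg.Agent.Mathieu.Auto
import Cfsg.Prelude.Def_SporadicCombinatorics

/-!
The rank-24 lattice `Cfsg.leechLattice`: linear description, membership test, norms, generation by
minimal vectors, and invariance under the monomial group.
-/

set_option autoImplicit false

namespace CfsgLib.Leech

open Cfsg CfsgLib.Mathieu

/-- The residues modulo 2 of an integer vector, as a word. -/
def res2 (a : GolayPt → ℤ) : GolayPt → ZMod 2 := fun i => (a i : ZMod 2)

/-- Linear description of the lattice: `x = m + 2 a`, coordinate sum `4m` mod 8, `a` mod 2 in the code. -/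
def IsLeech (x : GolayPt → ℤ) : Prop :=
  ∃ (m : ℤ) (a : GolayPt → ℤ), (∀ i, x i = m + 2 * a i) ∧ (∑ i, x i ≡ 4 * m [ZMOD 8]) ∧
    res2 a ∈ golayCode

theorem one_mem_golayCode : (1 : GolayPt → ZMod 2) ∈ golayCode :=
  Submodule.subset_span (Set.mem_union_right _ rfl)

theorem mem_golayCode_iff_support {w : GolayPt → ZMod 2} :
    w ∈ golayCode ↔ support₂ w ∈ supports (golayCode : Set (GolayPt → ZMod 2)) := by
  rw [mem_golayCode_iff, mem_supports_iff]

theorem support₂_res2_add (a : GolayPt → ℤ) (j : ℤ) :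
    support₂ (res2 a + fun _ => (j : ZMod 2)) = Finset.univ.filter fun i => ¬ (2 : ℤ) ∣ a i + j := by
  ext i
  have hm : i ∈ support₂ (res2 a + fun _ => (j : ZMod 2)) ↔ ((a i : ZMod 2) + (j : ZMod 2)) ≠ 0 := by
    unfold support₂
    exact (Finset.mem_filter).trans ⟨fun h => h.2, fun h => ⟨Finset.mem_univ _, h⟩⟩
  rw [hm, Finset.mem_filter, ← Int.cast_add, ne_eq, ZMod.intCast_zmod_eq_zero_iff_dvd]
  simp

theorem isLeech_iff (x : GolayPt → ℤ) : x ∈ leechSet ↔ IsLeech x := by
  constructor
  · rintro ⟨m, hpar, hsum, hk⟩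
    have ha : ∀ i, ∃ a, x i = m + 2 * a := fun i => by
      refine ⟨(x i - m) / 2, ?_⟩
      have := hpar i
      unfold Int.ModEq at this
      omega
    choose a ha using ha
    refine ⟨m, a, ha, hsum, mem_golayCode_iff_support.mpr ?_⟩
    convert hk (m + 2) using 1
    ext i
    simp only [support₂, res2, Finset.mem_filter, Finset.mem_univ, true_and, ne_eq,
      ZMod.intCast_zmod_eq_zero_iff_dvd, ha i]
    unfold Int.ModEq
    push_cast
    omega
  · rintro ⟨m, a, ha, hsum, hw⟩
    refine ⟨m, fun i => ?_, hsum, fun k => ?_⟩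
    · rw [ha i]; unfold Int.ModEq; omega
    by_cases hkm : (2 : ℤ) ∣ k - m
    · obtain ⟨j, hj⟩ := hkm
      have hj1 : (res2 a + fun _ => ((j + 1 : ℤ) : ZMod 2)) ∈ golayCode := by
        refine add_mem hw ?_
        have e : (fun _ => ((j + 1 : ℤ) : ZMod 2) : GolayPt → ZMod 2) =
            ((j + 1 : ℤ) : ZMod 2) • (1 : GolayPt → ZMod 2) := by ext; simp
        rw [e]
        exact Submodule.smul_mem _ _ one_mem_golayCode
      have h2 := mem_golayCode_iff_support.mp hj1
      rw [support₂_res2_add] at h2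
      convert h2 using 1
      refine Finset.filter_congr fun i _ => ?_
      rw [ha i]
      unfold Int.ModEq
      omega
    · have e : (Finset.univ.filter fun i => x i ≡ k [ZMOD 4]) = ∅ := by
        apply Finset.filter_false_of_mem
        intro i _ hik
        rw [ha i] at hik
        unfold Int.ModEq at hik
        omega
      rw [e]
      rw [mem_supports_iff]
      decide +kernel

theorem IsLeech.add {x y : GolayPt → ℤ} (hx : IsLeech x) (hy : IsLeech y) : IsLeech (x + y) := by
  obtain ⟨m, a, ha, hs, hw⟩ := hx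
  obtain ⟨n, b, hb, ht, hv⟩ := hy
  refine ⟨m + n, a + b, fun i => ?_, ?_, ?_⟩
  · simp only [Pi.add_apply, ha i, hb i]; ring
  · simp only [Pi.add_apply, Finset.sum_add_distrib, mul_add]; exact hs.add ht
  · have e : res2 (a + b) = res2 a + res2 b := by ext i; simp [res2]
    rw [e]; exact add_mem hw hv

theorem IsLeech.neg {x : GolayPt → ℤ} (hx : IsLeech x) : IsLeech (-x) := by
  obtain ⟨m, a, ha, hs, hw⟩ := hx
  refine ⟨-m, -a, fun i => ?_, ?_, ?_⟩
  · simp only [Pi.neg_apply, ha i]; ring
  · simp only [Pi.neg_apply, Finset.sum_neg_distrib, mul_neg]; exact hs.neg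
  · have e : res2 (-a) = res2 a := by ext i; simp [res2, ZModModule.neg_eq_self]
    rwa [e]

theorem IsLeech.zero : IsLeech 0 :=
  ⟨0, 0, by simp, by simp, by have e : res2 0 = 0 := by ext i; simp [res2]
                              rw [e]; exact zero_mem _⟩

/-- The lattice as the set of linearly described vectors. -/
def leechGroup : AddSubgroup (GolayPt → ℤ) where
  carrier := {x | IsLeech x}
  zero_mem' := IsLeech.zero
  add_mem' := IsLeech.add
  neg_mem' := IsLeech.neg

theorem leechLattice_eq : leechLattice = leechGroup := by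
  refine le_antisymm ((AddSubgroup.closure_le _).mpr fun x hx => (isLeech_iff x).mp hx) ?_
  exact fun x hx => AddSubgroup.subset_closure ((isLeech_iff x).mpr hx)

theorem mem_leech {x : GolayPt → ℤ} : x ∈ leechLattice ↔ IsLeech x := by
  rw [leechLattice_eq]; rfl

theorem leechSet_eq : (leechLattice : Set (GolayPt → ℤ)) = leechSet :=
  Set.ext fun x => mem_leech.trans (isLeech_iff x).symm

/-! ### Norms -/

theorem sum_sq_mod_four (a : GolayPt → ℤ) (h : res2 a ∈ golayCode) : (4 : ℤ) ∣ ∑ i, a i ^ 2 := by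
  have hw := supports_card (mem_golayCode_iff_support.mp h)
  have key : ∀ n : ℤ, (n ^ 2 : ℤ) % 4 = if (n : ZMod 2) ≠ 0 then 1 else 0 := by
    intro n
    obtain ⟨k, rfl | rfl⟩ := n.even_or_odd'
    · rw [if_neg (by rw [ne_eq, not_not, ZMod.intCast_zmod_eq_zero_iff_dvd]; exact Dvd.intro k rfl)]
      rw [show (2 * k) ^ 2 = 4 * k ^ 2 by ring]; simp
    · rw [if_pos (by rw [ne_eq, ZMod.intCast_zmod_eq_zero_iff_dvd]; push_cast; omega)]
      rw [show (2 * k + 1) ^ 2 = 4 * (k ^ 2 + k) + 1 by ring]; omega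
  rw [Int.dvd_iff_emod_eq_zero, Finset.sum_int_mod, Finset.sum_congr rfl fun i _ => key (a i),
    Finset.sum_boole]
  change ((support₂ (res2 a)).card : ℤ) % 4 = 0
  omega

theorem sixteen_dvd {x : GolayPt → ℤ} (hx : x ∈ leechLattice) : (16 : ℤ) ∣ sqNorm x := by
  obtain ⟨m, a, ha, hs, hw⟩ := mem_leech.mp hx
  obtain ⟨q, hq⟩ := sum_sq_mod_four a hw
  have hc : (Fintype.card GolayPt : ℤ) = 24 := by simp [ZMod.card]
  have e1 : ∑ i, x i = 24 * m + 2 * ∑ i, a i := by
    simp only [ha, Finset.sum_add_distrib, ← Finset.mul_sum, Finset.sum_const, Finset.card_univ,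
      nsmul_eq_mul, hc]
  have e2 : sqNorm x = 24 * m ^ 2 + 4 * (m * ∑ i, a i) + 4 * ∑ i, a i ^ 2 := by
    simp only [sqNorm, ha, add_sq, Finset.sum_add_distrib, Finset.sum_const, Finset.card_univ,
      nsmul_eq_mul, hc, ← Finset.mul_sum, mul_pow]
    ring
  rw [e1] at hs
  unfold Int.ModEq at hs
  obtain ⟨t, ht⟩ : (4 : ℤ) ∣ ∑ i, a i - 2 * m := by omega
  rw [e2, hq, show ∑ i, a i = 2 * m + 4 * t by omega]
  exact ⟨2 * m ^ 2 + m * t + q, by ring⟩

theorem sqNorm_eq_zero {α : Type*} [Fintype α] {x : α → ℤ} (h : sqNorm x = 0) : x = 0 := by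
  funext i
  exact pow_eq_zero_iff (two_ne_zero : (2 : ℕ) ≠ 0) |>.mp
    ((Finset.sum_eq_zero_iff_of_nonneg fun j _ => sq_nonneg (x j)).mp h i (Finset.mem_univ i))

theorem min_norm {x : GolayPt → ℤ} (hx : x ∈ leechLattice) (h0 : x ≠ 0) : 32 ≤ sqNorm x := by
  obtain ⟨t, ht⟩ := sixteen_dvd hx
  have hnn : 0 ≤ sqNorm x := Finset.sum_nonneg fun i _ => sq_nonneg _
  have hne : sqNorm x ≠ 0 := fun e => h0 (sqNorm_eq_zero e)
  suffices sqNorm x ≠ 16 by omega
  intro h16
  obtain ⟨m, a, ha, hs, hw⟩ := mem_leech.mp hx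
  have hc : (Finset.univ : Finset GolayPt).card = 24 := by simp [ZMod.card]
  obtain ⟨n, rfl | rfl⟩ := m.even_or_odd'
  · let y : GolayPt → ℤ := fun i => n + a i
    have hy : ∀ i, x i = 2 * y i := fun i => by simp [y, ha i]; ring
    have h4 : ∑ i, y i ^ 2 = 4 := by
      have : sqNorm x = 4 * ∑ i, y i ^ 2 := by
        simp only [sqNorm, hy, mul_pow, ← Finset.mul_sum]; norm_num
      omega
    have hyw : res2 y ∈ golayCode := by
      have e : res2 y = res2 a + (n : ZMod 2) • (1 : GolayPt → ZMod 2) := by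
        ext i; simp [res2, y]; ring
      rw [e]; exact add_mem hw (Submodule.smul_mem _ _ one_mem_golayCode)
    have hsupp : (support₂ (res2 y)).card ≤ 4 := by
      have h1 : ((support₂ (res2 y)).card : ℤ) ≤ ∑ i, y i ^ 2 := by
        rw [support₂, ← Finset.sum_boole]
        refine Finset.sum_le_sum fun i _ => ?_
        split
        · next hi =>
          have : y i ≠ 0 := fun e => hi (by simp [res2, e])
          have := pow_ne_zero 2 this
          have := sq_nonneg (y i)
          omega
        · exact sq_nonneg _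
      omega
    have h0' : (support₂ (res2 y)).card = 0 := by
      rcases supports_card (mem_golayCode_iff_support.mp hyw) with e | e | e | e | e <;> omega
    have hev : ∀ i, ∃ z, y i = 2 * z := fun i => by
      have hi : i ∉ support₂ (res2 y) := by rw [Finset.card_eq_zero.mp h0']; simp
      have hi' : ((y i : ℤ) : ZMod 2) = 0 := by
        by_contra hne
        exact hi (Finset.mem_filter.mpr ⟨Finset.mem_univ _, hne⟩)
      rw [ZMod.intCast_zmod_eq_zero_iff_dvd] at hi'
      exact_mod_cast hi'
    choose z hz using hev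
    have h1 : ∑ i, z i ^ 2 = 1 := by
      simp only [hz, mul_pow, ← Finset.mul_sum] at h4; omega
    have h2 : (2 : ℤ) ∣ ∑ i, z i := by
      have : ∑ i, x i = 4 * ∑ i, z i := by
        simp only [hy, hz, ← Finset.mul_sum, ← mul_assoc]; norm_num
      unfold Int.ModEq at hs
      omega
    have h3 : (2 : ℤ) ∣ ∑ i, (z i ^ 2 - z i) :=
      Finset.dvd_sum fun i _ => by
        rw [show z i ^ 2 - z i = z i * (z i - 1) by ring]
        exact (Int.even_mul_pred_self (z i)).two_dvd
    rw [Finset.sum_sub_distrib, h1] at h3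
    omega
  · have : ∀ i, 1 ≤ x i ^ 2 := fun i => by
      have hne : x i ≠ 0 := by rw [ha i]; omega
      have := pow_ne_zero 2 hne
      have := sq_nonneg (x i)
      omega
    have h24 := Finset.sum_le_sum (s := (Finset.univ : Finset GolayPt)) fun i _ => this i
    simp only [Finset.sum_const, hc, nsmul_eq_mul] at h24
    change (24 : ℕ) * (1 : ℤ) ≤ sqNorm x at h24
    omega

/-! ### Membership test -/

/-- The mask of the positions where a function holds. -/
def maskWhere (p : GolayPt → Bool) : ℕ := maskOf (Finset.univ.filter fun i => p i)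

/-- Membership test for the lattice. -/
def leechB (x : GolayPt → ℤ) : Bool :=
  let m := x none
  (decide (∀ i, (x i - m) % 2 = 0)) && decide ((∑ i, x i - 4 * m) % 8 = 0) &&
    isCode (maskWhere fun i => decide ((x i - m) % 4 = 2))

theorem leechB_iff {x : GolayPt → ℤ} : leechB x = true ↔ x ∈ leechLattice := by
  simp only [leechB, Bool.and_eq_true, decide_eq_true_eq, mem_leech]
  constructor
  · rintro ⟨⟨hp, hs⟩, hc⟩
    refine ⟨x none, fun i => (x i - x none) / 2, fun i => by have := hp i; dsimp only; omega,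
      by unfold Int.ModEq; omega, ?_⟩
    rw [mem_golayCode_iff_support, mem_supports_iff]
    convert hc using 2
    simp only [maskWhere]
    congr 1
    ext i
    simp only [support₂, res2, Finset.mem_filter, Finset.mem_univ, true_and, ne_eq,
      ZMod.intCast_zmod_eq_zero_iff_dvd, decide_eq_true_eq]
    have := hp i
    push_cast
    omega
  · rintro ⟨m, a, ha, hs, hw⟩
    have hp : ∀ i, (x i - x none) % 2 = 0 := fun i => by rw [ha i, ha none]; omega
    refine ⟨⟨hp, ?_⟩, ?_⟩
    · have := ha none; unfold Int.ModEq at hs; omega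
    · simp only [maskWhere]
      rw [← mem_supports_iff]
      have h2 : (res2 a + fun _ => ((a none : ℤ) : ZMod 2)) ∈ golayCode := by
        refine add_mem hw ?_
        have e : (fun _ => ((a none : ℤ) : ZMod 2) : GolayPt → ZMod 2) =
            ((a none : ℤ) : ZMod 2) • (1 : GolayPt → ZMod 2) := by ext; simp
        rw [e]
        exact Submodule.smul_mem _ _ one_mem_golayCode
      have h3 := mem_golayCode_iff_support.mp h2
      rw [support₂_res2_add] at h3
      convert h3 using 1
      ext i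
      simp only [Finset.mem_filter, Finset.mem_univ, true_and, decide_eq_true_eq]
      rw [ha i, ha none]
      omega

/-! ### Congruence modulo twice the lattice -/

theorem sqNorm_add {α : Type*} [Fintype α] (x y : α → ℤ) :
    sqNorm (x + y) = sqNorm x + 2 * dotInt x y + sqNorm y := by
  simp only [sqNorm, dotInt, Finset.mul_sum, ← Finset.sum_add_distrib, Pi.add_apply]
  exact Finset.sum_congr rfl fun i _ => by ring

theorem sqNorm_sub {α : Type*} [Fintype α] (x y : α → ℤ) :
    sqNorm (x - y) = sqNorm x - 2 * dotInt x y + sqNorm y := by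
  simp only [sqNorm, dotInt, Finset.mul_sum, ← Finset.sum_add_distrib, ← Finset.sum_sub_distrib,
    Pi.sub_apply]
  exact Finset.sum_congr rfl fun i _ => by ring

theorem norm_two_smul {z : GolayPt → ℤ} (hz : z ∈ leechLattice) (h0 : (2 : ℤ) • z ≠ 0) :
    128 ≤ sqNorm ((2 : ℤ) • z) := by
  have := min_norm hz (fun e => h0 (by simp [e]))
  have e : sqNorm ((2 : ℤ) • z) = 4 * sqNorm z := by
    simp only [sqNorm, Finset.mul_sum, Pi.smul_apply, smul_eq_mul]
    exact Finset.sum_congr rfl fun i _ => by ring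
  omega

/-- Congruent vectors of norm at most 64 are equal, opposite, or orthogonal of norm 64. -/
theorem congr_cases {x y z : GolayPt → ℤ} (hy : y ∈ leechLattice) (hxn : sqNorm x ≤ 64)
    (hyn : sqNorm y ≤ 64) (hz : z ∈ leechLattice) (he : x - y = 2 • z) :
    y = x ∨ y = -x ∨ (sqNorm x = 64 ∧ sqNorm y = 64 ∧ dotInt x y = 0) := by
  by_cases h1 : x - y = 0
  · exact Or.inl (sub_eq_zero.mp h1).symm
  by_cases h2 : x + y = 0
  · exact Or.inr (Or.inl (eq_neg_of_add_eq_zero_right h2))
  have e1 : x - y = (2 : ℤ) • z := by rw [he]; exact (natCast_zsmul z 2).symm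
  have e2 : x + y = (2 : ℤ) • (z + y) := by
    funext i
    have := congrFun e1 i
    simp only [Pi.sub_apply, Pi.add_apply, Pi.smul_apply, smul_eq_mul] at this ⊢
    linear_combination this
  have a1 := norm_two_smul hz (e1 ▸ h1)
  have a2 := norm_two_smul (add_mem hz hy) (e2 ▸ h2)
  rw [← e1, sqNorm_sub] at a1
  rw [← e2, sqNorm_add] at a2
  exact Or.inr (Or.inr ⟨by omega, by omega, by omega⟩)

/-! ### Monomial maps -/

theorem res2_perm (a : GolayPt → ℤ) (σ : Equiv.Perm GolayPt) (hσ : σ ∈ M24)
    (h : res2 a ∈ golayCode) : res2 (a ∘ σ) ∈ golayCode := by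
  rw [mem_golayCode_iff_support] at h ⊢
  have e : support₂ (res2 (a ∘ σ)) = (support₂ (res2 a)).image σ.symm := by
    ext i
    simp only [support₂, Finset.mem_image, Finset.mem_filter, Finset.mem_univ, true_and]
    constructor
    · intro hi; exact ⟨σ i, hi, σ.symm_apply_apply i⟩
    · rintro ⟨j, hj, rfl⟩; simpa [res2] using hj
  rw [e]
  exact setSystemAut_image_mem (σ := σ.symm) (inv_mem hσ) h

theorem perm_mem {σ : Equiv.Perm GolayPt} (hσ : σ ∈ M24) {x : GolayPt → ℤ}
    (hx : x ∈ leechLattice) : (fun i => x (σ i)) ∈ leechLattice := by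
  rw [mem_leech] at hx ⊢
  obtain ⟨m, a, ha, hs, hw⟩ := hx
  exact ⟨m, a ∘ σ, fun i => ha (σ i), by rw [Equiv.sum_comp σ x]; exact hs, res2_perm a σ hσ hw⟩

theorem signs_mem {c : Finset GolayPt} (hc : c ∈ supports (golayCode : Set (GolayPt → ZMod 2)))
    {x : GolayPt → ℤ} (hx : x ∈ leechLattice) :
    (fun i => if i ∈ c then -x i else x i) ∈ leechLattice := by
  rw [mem_leech] at hx ⊢
  obtain ⟨m, a, ha, hs, hw⟩ := hx
  obtain ⟨w, hwc, rfl⟩ := hc
  have hm : ∀ i, i ∈ support₂ w ↔ w i ≠ 0 := fun i => by simp [support₂]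
  refine ⟨m, fun i => if i ∈ support₂ w then -m - a i else a i, fun i => ?_, ?_, ?_⟩
  · by_cases hi : i ∈ support₂ w <;> simp only [hi, if_true, if_false] <;> rw [ha i]; ring
  · have e : ∑ i, (if i ∈ support₂ w then -x i else x i) =
        ∑ i, x i - 2 * ∑ i ∈ support₂ w, x i := by
      rw [← Finset.sum_filter_add_sum_filter_not Finset.univ (· ∈ support₂ w) x,
        Finset.sum_ite, Finset.sum_neg_distrib, Finset.filter_univ_mem]
      ring
    have e2 : ∑ i ∈ support₂ w, x i = (support₂ w).card * m + 2 * ∑ i ∈ support₂ w, a i := by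
      simp only [ha, Finset.sum_add_distrib, ← Finset.mul_sum, Finset.sum_const, nsmul_eq_mul]
    have hev : (2 : ℤ) ∣ ∑ i ∈ support₂ w, a i := by
      have h0 := golayCode_dot hwc hw
      have e3 : ∀ i, w i * res2 a i = if i ∈ support₂ w then ((a i : ℤ) : ZMod 2) else 0 := fun i => by
        by_cases hi : i ∈ support₂ w
        · have : w i = 1 := (by decide : ∀ z : ZMod 2, z ≠ 0 → z = 1) _ ((hm i).mp hi)
          rw [if_pos hi, this, one_mul]; rfl
        · rw [if_neg hi, not_not.mp ((hm i).not.mp hi), zero_mul]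
      rw [Finset.sum_congr rfl fun i _ => e3 i, Finset.sum_ite_mem, Finset.univ_inter,
        ← Int.cast_sum, ZMod.intCast_zmod_eq_zero_iff_dvd] at h0
      exact_mod_cast h0
    have h4 := supports_card ⟨w, hwc, rfl⟩
    have h8 : (8 : ℤ) ∣ 2 * ((support₂ w).card * m + 2 * ∑ i ∈ support₂ w, a i) := by
      obtain ⟨q, hq⟩ := hev
      rcases h4 with e4 | e4 | e4 | e4 | e4 <;> rw [e4, hq] <;> push_cast <;> omega
    rw [e, e2]
    unfold Int.ModEq at hs ⊢
    omega
  · have e : res2 (fun i => if i ∈ support₂ w then -m - a i else a i) =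
        res2 a + (m : ZMod 2) • w := by
      ext i
      by_cases hi : i ∈ support₂ w
      · have h1 : w i = 1 := (by decide : ∀ z : ZMod 2, z ≠ 0 → z = 1) _ ((hm i).mp hi)
        simp [res2, hi, h1, sub_eq_add_neg, ZModModule.neg_eq_self, add_comm]
      · simp [res2, hi, not_not.mp ((hm i).not.mp hi)]
    rw [e]
    exact add_mem hw (Submodule.smul_mem _ _ hwc)

theorem signedPerm_mem {σ : Equiv.Perm GolayPt} (hσ : σ ∈ M24) {c : Finset GolayPt}
    (hc : c ∈ supports (golayCode : Set (GolayPt → ZMod 2))) {x : GolayPt → ℤ}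
    (hx : x ∈ leechLattice) : signedPerm σ c x ∈ leechLattice :=
  signs_mem hc (perm_mem (inv_mem hσ) hx)

theorem sqNorm_signedPerm (σ : Equiv.Perm GolayPt) (c : Finset GolayPt) (x : GolayPt → ℤ) :
    sqNorm (signedPerm σ c x) = sqNorm x := by
  simp only [sqNorm, signedPerm]
  rw [← Equiv.sum_comp σ.symm (fun i => x i ^ 2)]
  exact Finset.sum_congr rfl fun i _ => by by_cases h : i ∈ c <;> simp [h]

/-! ### Vectors from lists -/

/-- The vector with the given coordinates in bit order. -/
def vec (l : List ℤ) : GolayPt → ℤ := fun p => l.getD (idx p) 0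

/-- The coordinates in bit order. -/
def toList (x : GolayPt → ℤ) : List ℤ := (List.range 24).map fun i => x (pt i)

theorem vec_toList (x : GolayPt → ℤ) : vec (toList x) = x := by
  funext p
  simp [vec, toList, List.getD_eq_getElem?_getD, List.getElem?_map, List.getElem?_range, idx_lt p,
    pt_idx]

theorem toList_length (x : GolayPt → ℤ) : (toList x).length = 24 := by simp [toList]

theorem toList_vec {l : List ℤ} (h : l.length = 24) : toList (vec l) = l := by
  refine List.ext_getElem (by simp [toList, h]) fun i h1 h2 => ?_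
  simp [toList, vec, idx_pt (h ▸ h2), h2]

/-! ### Generation -/

/-- The indicator, scaled by two, of a mask. -/
def twiceMask (M : ℕ) : GolayPt → ℤ := fun p => if M.testBit (idx p) then 2 else 0

/-- The vector with `-3` at infinity and `1` elsewhere. -/
def oddVec : GolayPt → ℤ := fun p => if p = none then -3 else 1

/-- The pair vectors `4 e_p + 4 s e_∞`. -/
def pairVec (p : ZMod 23) (s : ℤ) : GolayPt → ℤ :=
  fun q => if q = some p then 4 else if q = none then 4 * s else 0

/-- The minimal vectors chosen as generators. -/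
def genSet : Set (GolayPt → ℤ) :=
  {oddVec} ∪ {x | ∃ r ∈ codeRows, x = twiceMask r} ∪ {x | ∃ p s, (s = 1 ∨ s = -1) ∧ x = pairVec p s}

theorem genSet_spec : ∀ x ∈ genSet, x ∈ leechLattice ∧ sqNorm x = 32 := by
  have h1 : leechB oddVec = true ∧ sqNorm oddVec = 32 := by decide +kernel
  have h2 : ∀ r ∈ codeRows, leechB (twiceMask r) = true ∧ sqNorm (twiceMask r) = 32 := by
    decide +kernel
  have h3 : ∀ p : ZMod 23, (leechB (pairVec p 1) = true ∧ sqNorm (pairVec p 1) = 32) ∧
      leechB (pairVec p (-1)) = true ∧ sqNorm (pairVec p (-1)) = 32 := by decide +kernel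
  intro x hx
  rw [← leechB_iff]
  rcases hx with (rfl | ⟨r, hr, rfl⟩) | ⟨p, t, rfl | rfl, rfl⟩
  exacts [h1, h2 r hr, (h3 p).1, (h3 p).2]

theorem mem_closure_genSet {x : GolayPt → ℤ} (hx : x ∈ leechLattice) :
    x ∈ AddSubgroup.closure genSet := by
  set H := AddSubgroup.closure genSet
  have hodd : oddVec ∈ H := AddSubgroup.subset_closure (by simp [genSet])
  have hrow : ∀ r ∈ codeRows, twiceMask r ∈ H := fun r hr =>
    AddSubgroup.subset_closure (Or.inl (Or.inr ⟨r, hr, rfl⟩))
  have hpair : ∀ p s, (s = 1 ∨ s = -1) → pairVec p s ∈ H := fun p s hs =>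
    AddSubgroup.subset_closure (Or.inr ⟨p, s, hs, rfl⟩)
  have hH : H ≤ leechLattice :=
    (AddSubgroup.closure_le _).mpr fun y hy => (genSet_spec y hy).1
  -- step 1: vectors with all coordinates divisible by four
  have h8 : (fun q => if q = none then (8 : ℤ) else 0) ∈ H := by
    have e : (fun q => if q = none then (8 : ℤ) else 0) = pairVec 0 1 - pairVec 0 (-1) := by
      funext q; simp only [Pi.sub_apply, pairVec]; split_ifs <;> simp_all
    rw [e]; exact sub_mem (hpair 0 1 (Or.inl rfl)) (hpair 0 (-1) (Or.inr rfl))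
  have hfour : ∀ z : GolayPt → ℤ, (2 : ℤ) ∣ ∑ i, z i → (4 : ℤ) • z ∈ H := by
    intro z hz
    obtain ⟨k, hk⟩ := hz
    have e : (4 : ℤ) • z = ∑ p : ZMod 23, z (some p) • pairVec p (-1) +
        k • (fun q => if q = none then (8 : ℤ) else 0) := by
      funext q
      simp only [Pi.smul_apply, Pi.add_apply, Finset.sum_apply, pairVec, smul_eq_mul]
      cases q with
      | some p =>
        rw [Finset.sum_eq_single p]
        · simp; ring
        · intro b _ hb; simp [Ne.symm hb]
        · simp
      | none =>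
        have hsum : ∑ i, z i = z none + ∑ p : ZMod 23, z (some p) := Fintype.sum_option z
        simp [← Finset.sum_mul]
        omega
    rw [e]
    exact add_mem (sum_mem fun p _ => zsmul_mem (hpair p (-1) (Or.inr rfl)) _) (zsmul_mem h8 _)
  -- step 2: every code word lifts
  have hlift : ∀ M, isCode M = true →
      ∃ g ∈ H, ∃ b : GolayPt → ℤ, g = (2 : ℤ) • b ∧ res2 b = wordOf M := by
    intro M hM
    rw [← isCode_iff.1 hM]
    refine xorSel_induction
      (fun M => ∃ g ∈ H, ∃ b : GolayPt → ℤ, g = (2 : ℤ) • b ∧ res2 b = wordOf M) ?_ ?_ _ _ ?_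
    · exact ⟨0, zero_mem _, 0, by simp, by ext i; simp [res2, wordOf]⟩
    · rintro a c ⟨g, hg, b, rfl, hb⟩ ⟨g', hg', b', rfl, hb'⟩
      refine ⟨_, add_mem hg hg', b + b', by simp [smul_add], ?_⟩
      rw [wordOf_xor, ← hb, ← hb']
      ext i; simp [res2]
    · intro r hr
      refine ⟨_, hrow r hr, fun p => if r.testBit (idx p) then 1 else 0, ?_, ?_⟩
      · funext p; simp only [twiceMask, Pi.smul_apply, smul_eq_mul]; split_ifs <;> norm_num
      · ext p; simp only [res2, wordOf]; split_ifs <;> simp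
  obtain ⟨m, a, ha, hs, hw⟩ := mem_leech.mp hx
  -- remove the odd part
  let y := x - m • oddVec
  suffices hy : y ∈ H by simpa [y] using add_mem hy (zsmul_mem hodd m)
  let b : GolayPt → ℤ := fun i => if i = none then a i + 2 * m else a i
  have hyb : y = (2 : ℤ) • b := by
    funext i
    simp only [y, b, Pi.sub_apply, Pi.smul_apply, smul_eq_mul, oddVec, ha i]
    split_ifs <;> ring
  have hb : res2 b = res2 a := by
    ext i
    simp only [res2, b]
    split_ifs
    · push_cast
      rw [show (2 : ZMod 2) = 0 from rfl, zero_mul, add_zero]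
    · rfl
  obtain ⟨M, hM, hMw⟩ := exists_isCode_of_mem hw
  obtain ⟨g, hg, b', hgb, hb'⟩ := hlift M hM
  have hdiv : ∀ i, ∃ z, b i - b' i = 2 * z := fun i => by
    have h1 : ((b i : ℤ) : ZMod 2) = (b' i : ℤ) := congrFun (hb.trans (hMw.trans hb'.symm)) i
    obtain ⟨z, hz⟩ := (ZMod.intCast_eq_intCast_iff_dvd_sub _ _ _).mp h1.symm
    exact ⟨z, by push_cast at hz; exact hz⟩
  choose z hz using hdiv
  have hrest : y - g = (4 : ℤ) • z := by
    funext i
    rw [hyb, hgb]
    simp only [Pi.sub_apply, Pi.smul_apply, smul_eq_mul]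
    linear_combination 2 * hz i
  have hev : (2 : ℤ) ∣ ∑ i, z i := by
    have hmem : y - g ∈ leechLattice :=
      sub_mem (sub_mem hx (zsmul_mem (hH hodd) m)) (hH hg)
    rw [hrest, mem_leech] at hmem
    obtain ⟨n, c, hc, hcs, -⟩ := hmem
    simp only [Pi.smul_apply, smul_eq_mul, ← Finset.mul_sum] at hcs
    have := hc none
    simp only [Pi.smul_apply, smul_eq_mul] at this
    unfold Int.ModEq at hcs
    omega
  have := add_mem (hfour z hev) hg
  rwa [← hrest, sub_add_cancel] at this

theorem closure_minimal :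
    AddSubgroup.closure {x : GolayPt → ℤ | x ∈ leechLattice ∧ sqNorm x = 32} = leechLattice := by
  refine le_antisymm ((AddSubgroup.closure_le _).mpr fun x hx => hx.1) fun x hx => ?_
  exact AddSubgroup.closure_mono genSet_spec (mem_closure_genSet hx)

end CfsgLib.Leech
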