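import Cfsg.Agent.Leech.Basic
import Cfsg.Agent.Mathieu.Tables

/-!
Elements of `Cfsg.Co0`: monomial maps, the sextet involution, negation; moves on coordinate lists and
the reachability relation on lattice vectors.
-/

set_option autoImplicit false

namespace CfsgLib.Leech

open Cfsg CfsgLib.Mathieu
open scoped Pointwise

/-- An element of `Co0` from an additive norm preserving map and its inverse. -/
def mkCo0 (f g : (GolayPt → ℤ) → GolayPt → ℤ) (hf : ∀ x ∈ leechLattice, f x ∈ leechLattice)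
    (hg : ∀ x ∈ leechLattice, g x ∈ leechLattice)
    (hadd : ∀ x ∈ leechLattice, ∀ y ∈ leechLattice, f (x + y) = f x + f y)
    (hnorm : ∀ x ∈ leechLattice, sqNorm (f x) = sqNorm x)
    (hgf : ∀ x ∈ leechLattice, g (f x) = x) (hfg : ∀ x ∈ leechLattice, f (g x) = x) : Co0 :=
  ⟨{ toFun := fun v => ⟨f v, hf v v.2⟩
     invFun := fun v => ⟨g v, hg v v.2⟩
     left_inv := fun v => Subtype.ext (hgf v v.2)
     right_inv := fun v => Subtype.ext (hfg v v.2) },
    fun v w => Subtype.ext (hadd v v.2 w w.2), fun v => hnorm v v.2⟩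

theorem mkCo0_smul {f g : (GolayPt → ℤ) → GolayPt → ℤ} {hf hg hadd hnorm hgf hfg}
    (v : leechLattice) :
    ((mkCo0 f g hf hg hadd hnorm hgf hfg • v : leechLattice) : GolayPt → ℤ) = f v := rfl

/-! ### Basic properties of members of `Co0` -/

theorem co0_add (g : Co0) (v w : leechLattice) : g • (v + w) = g • v + g • w := g.2.1 v w

theorem co0_norm (g : Co0) (v : leechLattice) :
    sqNorm ((g • v : leechLattice) : GolayPt → ℤ) = sqNorm (v : GolayPt → ℤ) := g.2.2 v

/-- A member of `Co0` as an additive map. -/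
def co0Hom (g : Co0) : leechLattice →+ leechLattice := AddMonoidHom.mk' (fun v => g • v) (co0_add g)

theorem co0_zsmul (g : Co0) (n : ℤ) (v : leechLattice) : g • (n • v) = n • (g • v) :=
  map_zsmul (co0Hom g) n v

theorem co0_neg (g : Co0) (v : leechLattice) : g • (-v) = -(g • v) := map_neg (co0Hom g) v

theorem co0_sub (g : Co0) (v w : leechLattice) : g • (v - w) = g • v - g • w :=
  map_sub (co0Hom g) v w

theorem co0_dot (g : Co0) (v w : leechLattice) :
    dotInt ((g • v : leechLattice) : GolayPt → ℤ) ((g • w : leechLattice) : GolayPt → ℤ) =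
      dotInt (v : GolayPt → ℤ) (w : GolayPt → ℤ) := by
  have h1 := co0_norm g (v + w)
  rw [co0_add, AddSubgroup.coe_add, AddSubgroup.coe_add, sqNorm_add, sqNorm_add, co0_norm g v,
    co0_norm g w] at h1
  omega

theorem co0_ext {g h : Co0} (e : ∀ v : leechLattice, g • v = h • v) : g = h :=
  Subtype.ext (Equiv.ext e)

/-! ### Monomial maps -/

/-- `x ↦ (p ↦ ± x (τ p))`, negative on `c`. -/
def monoFun (τ : Equiv.Perm GolayPt) (c : Finset GolayPt) (x : GolayPt → ℤ) : GolayPt → ℤ :=
  fun p => if p ∈ c then -x (τ p) else x (τ p)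

theorem monoFun_eq_signedPerm (τ : Equiv.Perm GolayPt) (c : Finset GolayPt) :
    monoFun τ c = signedPerm τ.symm c := rfl

theorem monoFun_mem {τ : Equiv.Perm GolayPt} (hτ : τ ∈ M24) {c : Finset GolayPt}
    (hc : c ∈ supports (golayCode : Set (GolayPt → ZMod 2))) {x : GolayPt → ℤ}
    (hx : x ∈ leechLattice) : monoFun τ c x ∈ leechLattice :=
  signs_mem hc (perm_mem hτ hx)

theorem monoFun_monoFun (τ : Equiv.Perm GolayPt) (c : Finset GolayPt) (x : GolayPt → ℤ) :
    monoFun τ⁻¹ (c.image τ) (monoFun τ c x) = x := by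
  funext p
  have h1 : p ∈ c.image τ ↔ τ⁻¹ p ∈ c := by
    rw [Finset.mem_image]
    exact ⟨fun ⟨q, hq, e⟩ => by rw [← e, perm_inv_apply]; exact hq,
      fun h => ⟨_, h, perm_apply_inv τ p⟩⟩
  have h2 : τ (τ⁻¹ p) = p := perm_apply_inv τ p
  by_cases h : τ⁻¹ p ∈ c
  · simp only [monoFun, h1.mpr h, h, if_true, h2, neg_neg]
  · simp only [monoFun, mt h1.mp h, h, if_false, h2]

/-- The monomial element. -/
def monoCo0 (τ : Equiv.Perm GolayPt) (hτ : τ ∈ M24) (c : Finset GolayPt)
    (hc : c ∈ supports (golayCode : Set (GolayPt → ZMod 2))) : Co0 :=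
  mkCo0 (monoFun τ c) (monoFun τ⁻¹ (c.image τ)) (fun _ h => monoFun_mem hτ hc h)
    (fun _ h => monoFun_mem (inv_mem hτ) (setSystemAut_image_mem hτ hc) h)
    (fun x _ y _ => by funext p; simp only [monoFun, Pi.add_apply]; split_ifs <;> ring)
    (fun x _ => by rw [monoFun_eq_signedPerm, sqNorm_signedPerm])
    (fun x _ => monoFun_monoFun τ c x)
    (fun x _ => by
      have := monoFun_monoFun τ⁻¹ (c.image τ) x
      rwa [inv_inv, Finset.image_image, show (⇑τ⁻¹ ∘ ⇑τ) = id from funext fun p => perm_inv_apply τ p,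
        Finset.image_id] at this)

theorem monoCo0_smul (τ : Equiv.Perm GolayPt) (hτ : τ ∈ M24) (c : Finset GolayPt)
    (hc : c ∈ supports (golayCode : Set (GolayPt → ZMod 2))) (v : leechLattice) :
    ((monoCo0 τ hτ c hc • v : leechLattice) : GolayPt → ℤ) = monoFun τ c v := rfl

/-- Negation. -/
def negCo0 : Co0 :=
  monoCo0 1 (one_mem _) Finset.univ (supports_compl (by rw [mem_supports_iff]; decide +kernel :
    (∅ : Finset GolayPt) ∈ supports (golayCode : Set (GolayPt → ZMod 2))))

theorem negCo0_smul (v : leechLattice) :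
    ((negCo0 • v : leechLattice) : GolayPt → ℤ) = -(v : GolayPt → ℤ) := by
  funext p
  show monoFun 1 Finset.univ (v : GolayPt → ℤ) p = -(v : GolayPt → ℤ) p
  simp [monoFun]

/-! ### The sextet involution -/

/-- The tetrad of each position in the standard sextet. -/
def tetList : List ℕ := [0, 0, 0, 2, 1, 2, 3, 3, 5, 4, 4, 5, 5, 1, 2, 4, 1, 2, 5, 3, 4, 3, 1, 0]

/-- The tetrad of a point. -/
def tetOf (p : GolayPt) : ℕ := tetList.getD (idx p) 0

/-- The sum of a vector over a tetrad. -/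
def tetSum (x : GolayPt → ℤ) (k : ℕ) : ℤ := ∑ p ∈ Finset.univ.filter (tetOf · = k), x p

/-- `x ↦ ±(x - s/2)` tetrad by tetrad, negative on the first tetrad. -/
def xiFun (x : GolayPt → ℤ) : GolayPt → ℤ := fun p =>
  (if tetOf p = 0 then -1 else 1) * (x p - tetSum x (tetOf p) / 2)

theorem tetOf_card : ∀ p, (Finset.univ.filter (tetOf · = tetOf p)).card = 4 := by decide +kernel

theorem tetSum_even {x : GolayPt → ℤ} (hx : x ∈ leechLattice) (p : GolayPt) :
    (2 : ℤ) ∣ tetSum x (tetOf p) := by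
  obtain ⟨m, a, ha, -, -⟩ := mem_leech.mp hx
  simp only [tetSum, ha, Finset.sum_add_distrib, Finset.sum_const, tetOf_card, ← Finset.mul_sum]
  exact ⟨2 * m + ∑ q ∈ Finset.univ.filter (tetOf · = tetOf p), a q, by simp; ring⟩

theorem tetSum_add (x y : GolayPt → ℤ) (k : ℕ) : tetSum (x + y) k = tetSum x k + tetSum y k :=
  Finset.sum_add_distrib

theorem xiFun_add {x y : GolayPt → ℤ} (hx : x ∈ leechLattice) :
    xiFun (x + y) = xiFun x + xiFun y := by
  funext p
  obtain ⟨a, ha⟩ := tetSum_even hx p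
  simp only [xiFun, tetSum_add, Pi.add_apply, ha]
  rw [show (2 * a + tetSum y (tetOf p)) / 2 = a + tetSum y (tetOf p) / 2 by omega,
    show 2 * a / 2 = a by omega]
  ring

theorem xiFun_neg {x : GolayPt → ℤ} (hx : x ∈ leechLattice) : xiFun (-x) = -xiFun x := by
  have h0 : xiFun 0 = 0 := by funext p; simp [xiFun, tetSum]
  have := xiFun_add (y := x) (neg_mem hx)
  rw [neg_add_cancel, h0] at this
  exact eq_neg_of_add_eq_zero_left this.symm

theorem xiFun_mem {x : GolayPt → ℤ} (hx : x ∈ leechLattice) : xiFun x ∈ leechLattice := by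
  have hgen : ∀ y ∈ genSet, xiFun y ∈ leechLattice := by
    have h1 : leechB (xiFun oddVec) = true := by decide +kernel
    have h2 : ∀ r ∈ codeRows, leechB (xiFun (twiceMask r)) = true := by decide +kernel
    have h3 : ∀ p : ZMod 23, leechB (xiFun (pairVec p 1)) = true ∧
        leechB (xiFun (pairVec p (-1))) = true := by decide +kernel
    intro y hy
    rw [← leechB_iff]
    rcases hy with (rfl | ⟨r, hr, rfl⟩) | ⟨p, t, rfl | rfl, rfl⟩
    exacts [h1, h2 r hr, (h3 p).1, (h3 p).2]
  refine (AddSubgroup.closure_induction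
    (p := fun y _ => y ∈ leechLattice ∧ xiFun y ∈ leechLattice)
    (fun y hy => ⟨(genSet_spec y hy).1, hgen y hy⟩) ?_ ?_ ?_ (mem_closure_genSet hx)).2
  · refine ⟨zero_mem _, ?_⟩
    have h0 : xiFun 0 = 0 := by funext p; simp [xiFun, tetSum]
    rw [h0]; exact zero_mem _
  · intro a b _ _ ha hb
    exact ⟨add_mem ha.1 hb.1, by rw [xiFun_add ha.1]; exact add_mem ha.2 hb.2⟩
  · intro a _ ha
    exact ⟨neg_mem ha.1, by rw [xiFun_neg ha.1]; exact neg_mem ha.2⟩

theorem xiFun_sq {x : GolayPt → ℤ} (hx : x ∈ leechLattice) : sqNorm (xiFun x) = sqNorm x := by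
  simp only [sqNorm]
  rw [← Finset.sum_fiberwise Finset.univ (fun p => (⟨tetOf p % 24, Nat.mod_lt _ (by norm_num)⟩ : Fin 24)),
    ← Finset.sum_fiberwise Finset.univ (fun p => (⟨tetOf p % 24, Nat.mod_lt _ (by norm_num)⟩ : Fin 24))
      (fun p => x p ^ 2)]
  refine Finset.sum_congr rfl fun k _ => ?_
  rcases (Finset.univ.filter
    fun p => (⟨tetOf p % 24, Nat.mod_lt _ (by norm_num)⟩ : Fin 24) = k).eq_empty_or_nonempty with e | ⟨q, hq⟩
  · simp [e]
  have hk := (Finset.mem_filter.mp hq).2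
  have hset : (Finset.univ.filter fun p => (⟨tetOf p % 24, Nat.mod_lt _ (by norm_num)⟩ : Fin 24) = k) =
      Finset.univ.filter (tetOf · = tetOf q) := by
    have hlt : ∀ p, tetOf p < 24 := by decide +kernel
    ext p
    simp only [← hk, Fin.ext_iff, Nat.mod_eq_of_lt (hlt _), Finset.mem_filter]
  rw [hset]
  have hT : ∀ p ∈ Finset.univ.filter (tetOf · = tetOf q), tetOf p = tetOf q := fun p hp =>
    (Finset.mem_filter.mp hp).2
  obtain ⟨a, ha⟩ := tetSum_even hx q
  have hdiv : tetSum x (tetOf q) / 2 = a := by omega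
  have e1 : ∑ p ∈ Finset.univ.filter (tetOf · = tetOf q), xiFun x p ^ 2 =
      ∑ p ∈ Finset.univ.filter (tetOf · = tetOf q), (x p ^ 2 - 2 * a * x p + a ^ 2) :=
    Finset.sum_congr rfl fun p hp => by rw [xiFun, hT p hp, hdiv]; split_ifs <;> ring
  have hs : ∑ p ∈ Finset.univ.filter (tetOf · = tetOf q), x p = 2 * a := ha
  rw [e1, Finset.sum_add_distrib, Finset.sum_sub_distrib, ← Finset.mul_sum, hs, Finset.sum_const,
    tetOf_card]
  simp; ring

theorem xiFun_xiFun {x : GolayPt → ℤ} (hx : x ∈ leechLattice) : xiFun (xiFun x) = x := by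
  funext p
  obtain ⟨a, ha⟩ := tetSum_even hx p
  have hdiv : tetSum x (tetOf p) / 2 = a := by omega
  have e : tetSum (xiFun x) (tetOf p) = (if tetOf p = 0 then -1 else 1) * (-2 * a) := by
    have e1 : tetSum (xiFun x) (tetOf p) = ∑ q ∈ Finset.univ.filter (tetOf · = tetOf p),
        (if tetOf p = 0 then -1 else 1) * (x q - a) :=
      Finset.sum_congr rfl fun q hq => by rw [xiFun, (Finset.mem_filter.mp hq).2, hdiv]
    have hs : ∑ q ∈ Finset.univ.filter (tetOf · = tetOf p), x q = 2 * a := ha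
    rw [e1, ← Finset.mul_sum, Finset.sum_sub_distrib, hs, Finset.sum_const, tetOf_card]
    split_ifs <;> simp <;> ring
  rw [xiFun, e, xiFun, hdiv]
  by_cases h : tetOf p = 0 <;> simp [h] <;> omega

/-- The sextet involution as an element of `Co0`. -/
def xiCo0 : Co0 :=
  mkCo0 xiFun xiFun (fun _ => xiFun_mem) (fun _ => xiFun_mem) (fun _ hx _ _ => xiFun_add hx)
    (fun _ => xiFun_sq) (fun _ => xiFun_xiFun) (fun _ => xiFun_xiFun)

theorem xiCo0_smul (v : leechLattice) :
    ((xiCo0 • v : leechLattice) : GolayPt → ℤ) = xiFun v := rfl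

/-! ### Moves on lists -/

/-- A generator move: a monomial map given by a table and a mask, or the sextet involution. -/
inductive Mv where
  | mono (t c : ℕ)
  | xi

/-- The subgroup generated by the monomial elements and the sextet involution. -/
def moveGroup : Subgroup Co0 :=
  Subgroup.closure (insert xiCo0 {g | ∃ (τ : Equiv.Perm GolayPt) (hτ : τ ∈ M24) (c : Finset GolayPt)
    (hc : c ∈ supports (golayCode : Set (GolayPt → ZMod 2))), g = monoCo0 τ hτ c hc})

/-- The subgroup generated by the monomial elements. -/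
def monoGroup : Subgroup Co0 :=
  Subgroup.closure {g | ∃ (τ : Equiv.Perm GolayPt) (hτ : τ ∈ M24) (c : Finset GolayPt)
    (hc : c ∈ supports (golayCode : Set (GolayPt → ZMod 2))), g = monoCo0 τ hτ c hc}

theorem monoCo0_mem_monoGroup (τ : Equiv.Perm GolayPt) (hτ : τ ∈ M24) (c : Finset GolayPt)
    (hc : c ∈ supports (golayCode : Set (GolayPt → ZMod 2))) : monoCo0 τ hτ c hc ∈ monoGroup :=
  Subgroup.subset_closure ⟨τ, hτ, c, hc, rfl⟩

theorem monoGroup_le : monoGroup ≤ moveGroup :=
  Subgroup.closure_mono (Set.subset_insert _ _)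

theorem monoCo0_mem_moveGroup (τ : Equiv.Perm GolayPt) (hτ : τ ∈ M24) (c : Finset GolayPt)
    (hc : c ∈ supports (golayCode : Set (GolayPt → ZMod 2))) : monoCo0 τ hτ c hc ∈ moveGroup :=
  Subgroup.subset_closure (Set.mem_insert_of_mem _ ⟨τ, hτ, c, hc, rfl⟩)

theorem xiCo0_mem_moveGroup : xiCo0 ∈ moveGroup :=
  Subgroup.subset_closure (Set.mem_insert _ _)

/-- A move can be carried out. -/
def Mv.ok : Mv → Bool
  | .mono t c => tableValid t && preservesCode t && isCode c
  | .xi => true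

/-- A move on coordinate lists. -/
def Mv.act : Mv → List ℤ → List ℤ
  | .mono t c, l => (List.range 24).map fun i =>
      if c.testBit i then -l.getD (app t i) 0 else l.getD (app t i) 0
  | .xi, l =>
    let S := (List.range 6).map fun k =>
      (((List.range 24).filter fun j => tetList.getD j 0 == k).map fun j => l.getD j 0).sum
    (List.range 24).map fun i =>
      (if tetList.getD i 0 = 0 then -1 else 1) * (l.getD i 0 - S.getD (tetList.getD i 0) 0 / 2)

/-- A sequence of moves. -/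
def runMoves (ms : List Mv) (l : List ℤ) : List ℤ := ms.foldl (fun a m => m.act a) l

theorem vec_map_range (f : ℕ → ℤ) (p : GolayPt) : vec ((List.range 24).map f) p = f (idx p) := by
  simp [vec, List.getD_eq_getElem?_getD, List.getElem?_map, List.getElem?_range, idx_lt p]

theorem getD_map_range {β : Type*} (f : ℕ → β) {n k : ℕ} (hk : k < n) (d : β) :
    ((List.range n).map f).getD k d = f k := by
  simp [List.getD_eq_getElem?_getD, List.getElem?_map, List.getElem?_range, hk]

theorem tetSum_vec (l : List ℤ) (k : ℕ) : tetSum (vec l) k =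
    (((List.range 24).filter fun j => tetList.getD j 0 == k).map fun j => l.getD j 0).sum := by
  rw [← List.sum_toFinset _ (List.nodup_range.filter _)]
  refine Finset.sum_nbij' idx pt ?_ ?_ (fun p _ => pt_idx p) ?_ (fun p _ => rfl)
  · intro p hp
    simp only [List.mem_toFinset, List.mem_filter, List.mem_range, idx_lt p, beq_iff_eq, true_and]
    exact (Finset.mem_filter.mp hp).2
  · intro i hi
    simp only [List.mem_toFinset, List.mem_filter, List.mem_range, beq_iff_eq] at hi
    exact Finset.mem_filter.mpr ⟨Finset.mem_univ _, by rw [tetOf, idx_pt hi.1]; exact hi.2⟩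
  · intro i hi
    simp only [List.mem_toFinset, List.mem_filter, List.mem_range] at hi
    exact idx_pt hi.1

theorem Mv.act_spec_mem (m : Mv) (h : m.ok = true) : ∃ g ∈ moveGroup, ∀ (l : List ℤ)
    (hl : vec l ∈ leechLattice),
    ((g • (⟨vec l, hl⟩ : leechLattice) : leechLattice) : GolayPt → ℤ) = vec (m.act l) := by
  cases m with
  | mono t c =>
    simp only [Mv.ok, Bool.and_eq_true] at h
    obtain ⟨⟨ht, hp⟩, hc⟩ := h
    obtain ⟨τ, hr⟩ := exists_rep_of_valid ht
    refine ⟨monoCo0 τ (mem_M24_of_table hr hp) (setOf24 c) (setOf24_mem_supports hc),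
      monoCo0_mem_moveGroup _ _ _ _, fun l hl => ?_⟩
    funext p
    rw [monoCo0_smul, Mv.act, vec_map_range]
    simp only [monoFun, vec, mem_setOf24]
    rw [show app t (idx p) = idx (τ p) from hr p]
  | xi =>
    refine ⟨xiCo0, xiCo0_mem_moveGroup, fun l hl => ?_⟩
    funext p
    rw [xiCo0_smul, Mv.act, vec_map_range]
    have h6 : ∀ q, tetOf q < 6 := by decide +kernel
    have := h6 p
    simp only [xiFun, tetSum_vec, tetOf] at this ⊢
    simp only [getD_map_range _ this]
    rfl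

theorem Mv.act_spec (m : Mv) (h : m.ok = true) : ∃ g : Co0, ∀ (l : List ℤ) (hl : vec l ∈ leechLattice),
    ((g • (⟨vec l, hl⟩ : leechLattice) : leechLattice) : GolayPt → ℤ) = vec (m.act l) :=
  (m.act_spec_mem h).imp fun _ h => h.2

/-! ### Reachability -/

/-- Some member of `S` fixing every vector of `fixed` takes `x` to `y`. -/
def ReachG (S : Subgroup Co0) (fixed : List (GolayPt → ℤ)) (x y : GolayPt → ℤ) : Prop :=
  ∃ (hx : x ∈ leechLattice) (g : Co0), g ∈ S ∧
    ((g • (⟨x, hx⟩ : leechLattice) : leechLattice) : GolayPt → ℤ) = y ∧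
      ∀ f ∈ fixed, ∀ (hf : f ∈ leechLattice),
        ((g • (⟨f, hf⟩ : leechLattice) : leechLattice) : GolayPt → ℤ) = f

/-- Some member of `moveGroup` fixing every vector of `fixed` takes `x` to `y`. -/
abbrev ReachL (fixed : List (GolayPt → ℤ)) (x y : GolayPt → ℤ) : Prop :=
  ReachG moveGroup fixed x y

variable {S : Subgroup Co0}

theorem ReachG.mono {T : Subgroup Co0} (hST : S ≤ T) {F : List (GolayPt → ℤ)} {x y : GolayPt → ℤ}
    (h : ReachG S F x y) : ReachG T F x y := by
  obtain ⟨hx, g, hg, e, hF⟩ := h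
  exact ⟨hx, g, hST hg, e, hF⟩

/-- Monomial reachability as reachability. -/
theorem ReachG.up {F : List (GolayPt → ℤ)} {x y : GolayPt → ℤ} (h : ReachG monoGroup F x y) :
    ReachL F x y :=
  h.mono monoGroup_le

theorem ReachG.mem_right {F : List (GolayPt → ℤ)} {x y : GolayPt → ℤ} (h : ReachG S F x y) :
    y ∈ leechLattice := by
  obtain ⟨hx, g, -, rfl, -⟩ := h
  exact (g • (⟨x, hx⟩ : leechLattice)).2

theorem ReachG.refl (F : List (GolayPt → ℤ)) {x : GolayPt → ℤ} (hx : x ∈ leechLattice) :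
    ReachG S F x x :=
  ⟨hx, 1, one_mem _, by rw [one_smul], fun f _ hf => by rw [one_smul]⟩

theorem ReachG.trans {F : List (GolayPt → ℤ)} {x y z : GolayPt → ℤ} (h : ReachG S F x y)
    (h' : ReachG S F y z) : ReachG S F x z := by
  obtain ⟨hx, g, hgm, rfl, hg⟩ := h
  obtain ⟨hy, g', hgm', rfl, hg'⟩ := h'
  refine ⟨hx, g' * g, mul_mem hgm' hgm, by rw [mul_smul], fun f hf hfm => ?_⟩
  rw [mul_smul]
  have e : g • (⟨f, hfm⟩ : leechLattice) = ⟨f, hfm⟩ := Subtype.ext (hg f hf hfm)
  rw [e]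
  exact hg' f hf hfm

theorem ReachG.symm {F : List (GolayPt → ℤ)} {x y : GolayPt → ℤ} (h : ReachG S F x y) :
    ReachG S F y x := by
  have hy := h.mem_right
  obtain ⟨hx, g, hgm, rfl, hg⟩ := h
  refine ⟨hy, g⁻¹, inv_mem hgm, by rw [Subtype.coe_eta, inv_smul_smul], fun f hf hfm => ?_⟩
  have e : g • (⟨f, hfm⟩ : leechLattice) = ⟨f, hfm⟩ := Subtype.ext (hg f hf hfm)
  conv_lhs => rw [← e, inv_smul_smul]

theorem ReachG.exists_smul {x y : leechLattice} (h : ReachG S [] (x : GolayPt → ℤ) y) :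
    ∃ g : Co0, g • x = y := by
  obtain ⟨hx, g, -, e, -⟩ := h
  exact ⟨g, Subtype.ext e⟩

theorem ReachG.exists_smul_mem {x y : leechLattice} (h : ReachG S [] (x : GolayPt → ℤ) y) :
    ∃ g ∈ S, g • x = y := by
  obtain ⟨hx, g, hgm, e, -⟩ := h
  exact ⟨g, hgm, Subtype.ext e⟩

theorem runMoves_spec : ∀ (ms : List Mv), ms.all Mv.ok = true → ∃ g ∈ moveGroup,
    ∀ (l : List ℤ) (hl : vec l ∈ leechLattice),
      ((g • (⟨vec l, hl⟩ : leechLattice) : leechLattice) : GolayPt → ℤ) = vec (runMoves ms l)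
  | [], _ => ⟨1, one_mem _, fun l hl => by rw [one_smul]; rfl⟩
  | m :: ms, h => by
    simp only [List.all_cons, Bool.and_eq_true] at h
    obtain ⟨g₁, hm₁, hg₁⟩ := m.act_spec_mem h.1
    obtain ⟨g₂, hm₂, hg₂⟩ := runMoves_spec ms h.2
    refine ⟨g₂ * g₁, mul_mem hm₂ hm₁, fun l hl => ?_⟩
    have hm : vec (m.act l) ∈ leechLattice := by
      rw [← hg₁ l hl]; exact (g₁ • (⟨vec l, hl⟩ : leechLattice)).2
    have e : g₁ • (⟨vec l, hl⟩ : leechLattice) = ⟨vec (m.act l), hm⟩ := Subtype.ext (hg₁ l hl)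
    rw [mul_smul, e]
    exact hg₂ _ hm

/-- A checked move sequence gives reachability. -/
theorem reachL_of_moves (F : List (List ℤ)) (ms : List Mv) (a b : List ℤ)
    (hok : ms.all Mv.ok = true) (hF : F.all (fun f => runMoves ms f == f) = true)
    (hab : runMoves ms a = b) (ha : vec a ∈ leechLattice) :
    ReachL (F.map vec) (vec a) (vec b) := by
  obtain ⟨g, hgm, hg⟩ := runMoves_spec ms hok
  refine ⟨ha, g, hgm, by rw [hg a ha, hab], fun f hf hfm => ?_⟩
  obtain ⟨l, hl, rfl⟩ := List.mem_map.mp hf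
  rw [hg l hfm]
  congr 1
  simpa using List.all_eq_true.mp hF l hl

/-- A monomial map fixing the vectors of `F` gives reachability. -/
theorem reachL_mono {F : List (GolayPt → ℤ)} {τ : Equiv.Perm GolayPt} (hτ : τ ∈ M24)
    {c : Finset GolayPt} (hc : c ∈ supports (golayCode : Set (GolayPt → ZMod 2)))
    (hF : ∀ f ∈ F, monoFun τ c f = f) {x : GolayPt → ℤ} (hx : x ∈ leechLattice) :
    ReachG monoGroup F x (monoFun τ c x) :=
  ⟨hx, monoCo0 τ hτ c hc, monoCo0_mem_monoGroup _ _ _ _, rfl, fun f hf _ => hF f hf⟩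

end CfsgLib.Leech
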