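import Cfsg.Agent.Leech.Co0Order

/-!
Certificate data: the cross stabiliser with one more element generates everything.
-/

set_option autoImplicit false

namespace CfsgLib.Leech

/-- From G64 to the standard cross. -/
def pathG64 : List Mv := [
  .mono 172696851739560652216854666434730323786425097151013064211 15881763,
  .xi,
  .mono 270970760479405672893286936023028573023198194810379043086 5061322,
  .xi]

/-- A monomial move at G64 that leads to the shape F64. -/
def shiftG64 : Mv := .mono 99808660936361303782331859776650131471686544867357822726 4037793

/-- From H64 to the standard cross. -/
def pathH64 : List Mv := [
  .mono 344148530441989150987776306971010970678064630661159257361 4476225,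
  .xi,
  .mono 270486218633660989837696136796868967923242573578025632526 1053483,
  .xi]

/-- A monomial move at H64 that leads to the shape F64. -/
def shiftH64 : Mv := .mono 148748973877659871858705277796333987210946972133478302976 4969349

/-- From I64 to the standard cross. -/
def pathI64 : List Mv := [
  .mono 368667322059410440971554592224113032241187294085704060181 11006430,
  .xi,
  .mono 148656193414710542485926576747753304101364924606874457621 10321319,
  .xi,
  .mono 441939031364619158259694190557724729025726566449491022101 11890965,
  .xi]

/-- A monomial move at I64 that leads to the shape F64. -/
def shiftI64 : Mv := .mono 172796007295531887655160851481869549599562821232160014356 10394134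

/-- From Ja64 to the standard cross. -/
def pathJa64 : List Mv := [
  .mono 75000999033677846467214747625889022906393470433365525506 15864000,
  .xi,
  .mono 345298634287479899275128463584284466765311992003341978891 3585007,
  .xi]

/-- A monomial move at Ja64 that leads to the shape F64. -/
def shiftJa64 : Mv := .mono 468083493665091874663550196171330080314143039361538197251 8088382

/-- From Jb64 to the standard cross. -/
def pathJb64 : List Mv := [
  .mono 392511561837368058805239146664633406616172023111711328531 10991421,
  .xi,
  .mono 220970844241511291298905535087815896684398691993559304726 442481,
  .xi]

/-- A monomial move at Jb64 that leads to the shape F64. -/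
def shiftJb64 : Mv := .mono 441841745058180378443492592840171278360480499049990981641 13098439

/-- From K64 to the standard cross. -/
def pathK64 : List Mv := [
  .mono 73754735790944715738957404964443763036680733817070161671 895452,
  .xi,
  .mono 320866278823196598450064136740858793170981261630488775191 560668,
  .xi,
  .mono 387623923176278054839046440410443111271424616248446726 12674804,
  .xi]

/-- A monomial move at K64 that leads to the shape F64. -/
def shiftK64 : Mv := .mono 270876826794389421889106434007397996046175777172702301461 515069

/-- From L64 to the standard cross. -/
def pathL64 : List Mv := [
  .mono 369434347268522103259191211690527896486702642753430490116 15039726,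
  .xi,
  .mono 123369666098568919141308167495570279651786097560180164866 9887535,
  .xi,
  .mono 270971881502543900823850152420290024583214415238233196801 4388466,
  .xi]

/-- A monomial move at L64 that leads to the shape F64. -/
def shiftL64 : Mv := .mono 24906807251291852441822593833476758308199294934946550551 11714167

/-- Moves whose conjugate of the sextet involution is a sign change. -/
def xiConj : List Mv := [
  .xi,
  .mono 197796316910785611106087007232482901730786932326474189586 14251525,
  .xi,
  .mono 343572333364849593883031884125283970390923205351476494351 10944205]

/-- Their inverse. -/
def xiConjInv : List Mv := [
  .mono 50387548941208644982956814419870372128144740666404243201 15594226,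
  .xi,
  .mono 516359336342125871829836737735703048497608575755573659411 1044761,
  .xi]

/-- The sign change. -/
def xiSign : ℕ := 8688833

/-- The moved images of the code rows generating the code. -/
def spanSel : List ℕ := [872, 2, 890, 146, 2042, 4145, 318, 1648, 4170, 4104, 2044, 6072]

end CfsgLib.Leech
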