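import Cfsg.Agent.Leech.Perm11

/-!
What commutes with the member of order 11 inside the stabiliser of a minimal vector.
-/

set_option autoImplicit false

namespace CfsgLib.Leech

open Cfsg CfsgLib.Mathieu
open scoped Pointwise symmDiff

theorem quadA_cases : ∀ a ∈ Finset.Icc (-8 : ℤ) 8, ∀ b ∈ Finset.Icc (-8 : ℤ) 8,
    ∀ c ∈ Finset.Icc (-2 : ℤ) 2, ∀ d ∈ Finset.Icc (-2 : ℤ) 2,
      a ^ 2 + b ^ 2 + 11 * c ^ 2 + 11 * d ^ 2 = 64 → 4 * a + 4 * b = 32 →
        (a = 8 ∨ a = 0) ∧ b = 8 - a ∧ c = 0 ∧ d = 0 := by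
  decide +kernel

/-- The candidate exchanging the two fixed points. -/
def swap11 (a b : GolayPt) (q : GolayPt) : GolayPt :=
  if cyc11 q = 1 then p11^[step11 q] a else if cyc11 q = 2 then p11^[step11 q] b
    else if q = none then pt 0 else none

theorem swap11_cases : ∀ a, cyc11 a ≠ 0 → ∀ b, cyc11 b ≠ 0 →
    (codeRows.all fun r => isCode (maskOf ((setOf24 r).image (swap11 a b)))) = false := by
  decide +kernel

theorem no_swap11 {τ : Equiv.Perm GolayPt} (hτ : τ ∈ M24) (h0 : τ none = pt 0) (h1 : τ (pt 0) = none)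
    (hc : τ * perm11 = perm11 * τ) : False := by
  have hstep : ∀ (i : ℕ) q, τ (p11^[i] q) = p11^[i] (τ q) := by
    intro i
    induction i with
    | zero => intro q; rfl
    | succ i ih =>
      intro q
      rw [Function.iterate_succ_apply', Function.iterate_succ_apply', ← ih]
      exact Equiv.congr_fun hc _
  have hne : ∀ r, r ≠ none → r ≠ pt 0 → cyc11 (τ r) ≠ 0 := by
    intro r hr hr' e
    rcases cyc11_zero _ e with e' | e'
    · exact hr' (τ.injective (e'.trans h1.symm))
    · exact hr (τ.injective (e'.trans h0.symm))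
  have ht : ⇑τ = swap11 (τ (pt 1)) (τ (pt 8)) := by
    funext q
    have h2 := hstep (step11 q) (rep11 q)
    rw [step11_spec] at h2
    unfold swap11
    by_cases c1 : cyc11 q = 1
    · rw [if_pos c1, h2, rep11, if_pos c1]
    by_cases c2 : cyc11 q = 2
    · rw [if_neg c1, if_pos c2, h2, rep11, if_neg c1, if_pos c2]
    rw [if_neg c1, if_neg c2]
    have h3 : cyc11 q = 0 := by
      have : ∀ q, cyc11 q ≤ 2 := by decide +kernel
      have := this q
      omega
    rcases cyc11_zero q h3 with rfl | rfl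
    · rw [if_pos rfl]; exact h0
    · rw [if_neg (Ne.symm pt0_ne_none)]; exact h1
  have hall : (codeRows.all fun r => isCode (maskOf ((setOf24 r).image
      (swap11 (τ (pt 1)) (τ (pt 8)))))) = true := by
    rw [List.all_eq_true]
    intro r hr
    rw [← ht]
    exact (mem_supports_iff _).1 (setSystemAut_image_mem hτ
      (setOf24_mem_supports ((by decide +kernel : ∀ r ∈ codeRows, isCode r = true) r hr)))
  rw [swap11_cases _ (hne (pt 1) (by decide +kernel) (by decide +kernel))
    _ (hne (pt 8) (by decide +kernel) (by decide +kernel))] at hall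
  exact Bool.false_ne_true hall

/-- What commutes with `pi11` and fixes the minimal vector has order dividing 11. -/
theorem commute_pi11_A {y : Co0} (hA : y • bA = bA) (hc : y * pi11 = pi11 * y) : y ^ 11 = 1 := by
  obtain ⟨a, b, c, d, hq, e2⟩ := invariant_eight hc
  have eA : baseA none = 4 ∧ baseA (pt 0) = 4 ∧
      (∑ q ∈ Finset.univ.filter (cyc11 · = 1), baseA q) = 0 ∧
      (∑ q ∈ Finset.univ.filter (cyc11 · = 2), baseA q) = 0 ∧
      (∑ q, baseA q * eight none q) = 32 := by decide +kernel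
  have hd0 : 4 * a + 4 * b = 32 := by
    have h := co0_dot y bA (eightL none)
    rw [hA, hq] at h
    simp only [dotInt] at h
    rw [sum_quad] at h
    change baseA none * a + baseA (pt 0) * b +
      (∑ q ∈ Finset.univ.filter (cyc11 · = 1), baseA q) * c +
      (∑ q ∈ Finset.univ.filter (cyc11 · = 2), baseA q) * d = ∑ q, baseA q * eight none q at h
    obtain ⟨v1, v2, v3, v4, v5⟩ := eA
    rw [v1, v2, v3, v4, v5] at h
    omega
  obtain ⟨r1, rfl, rfl, rfl⟩ := quadA_cases a
    (Finset.mem_Icc.2 ⟨by nlinarith [sq_nonneg b, sq_nonneg c, sq_nonneg d],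
      by nlinarith [sq_nonneg b, sq_nonneg c, sq_nonneg d]⟩) b
    (Finset.mem_Icc.2 ⟨by nlinarith [sq_nonneg a, sq_nonneg c, sq_nonneg d],
      by nlinarith [sq_nonneg a, sq_nonneg c, sq_nonneg d]⟩) c
    (Finset.mem_Icc.2 ⟨by nlinarith [sq_nonneg a, sq_nonneg b, sq_nonneg d],
      by nlinarith [sq_nonneg a, sq_nonneg b, sq_nonneg d]⟩) d
    (Finset.mem_Icc.2 ⟨by nlinarith [sq_nonneg a, sq_nonneg b, sq_nonneg c],
      by nlinarith [sq_nonneg a, sq_nonneg b, sq_nonneg c]⟩) e2.symm hd0
  have hmem : ((y • eightL none : leechLattice) : GolayPt → ℤ) ∈ stdCross := by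
    rw [hq, mem_stdCross_iff]
    rcases r1 with rfl | rfl
    · exact ⟨none, Or.inl (funext (by decide +kernel))⟩
    · exact ⟨pt 0, Or.inl (funext (by decide +kernel))⟩
  obtain ⟨τ, hτ, e, he, rfl⟩ := eq_monoCo0 (preservesCross_of_mem (q := none) hmem)
  have hA0 : ∀ p, 0 ≤ baseA p := by decide +kernel
  have hoff : ∀ p, p = none ∨ p = pt 0 → p ∉ e ∧ (τ p = none ∨ τ p = pt 0) := by
    intro p hp
    have h1 := mono_fix_apply hA p
    have h2 : baseA p = 4 := by rcases hp with rfl | rfl <;> [exact eA.1; exact eA.2.1]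
    have h3 := hA0 (τ p)
    split_ifs at h1 with hpe
    · change -baseA (τ p) = baseA p at h1; omega
    · change baseA (τ p) = baseA p at h1
      exact ⟨hpe, (by decide +kernel : ∀ q, baseA q = 4 → q = none ∨ q = pt 0) _ (h1.trans h2)⟩
  have hp := hc
  rw [pi11, permHom, MonoidHom.coe_mk, OneHom.coe_mk, monoCo0_mul, monoCo0_mul] at hp
  simp only [Finset.image_empty, inv_inv] at hp
  have hpair := @monoOf_injective (⟨_, mul_mem (inv_mem perm11_mem) hτ⟩, ⟨_, supports_symmDiff he
      (setSystemAut_image_mem (inv_mem hτ : τ⁻¹ ∈ M24) empty_mem_supports)⟩)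
    (⟨_, mul_mem hτ (inv_mem perm11_mem)⟩, ⟨_, supports_symmDiff empty_mem_supports
      (setSystemAut_image_mem (inv_mem (inv_mem perm11_mem) : perm11⁻¹⁻¹ ∈ M24) he)⟩)
    (by simpa [monoOf] using hp)
  have hc1 : perm11⁻¹ * τ = τ * perm11⁻¹ := congrArg (fun x => x.1.1) hpair
  have hc2 : e = e.image perm11 := by
    simpa [symmDiff_empty', empty_symmDiff'] using congrArg (fun x => x.2.1) hpair
  have hcomm : τ * perm11 = perm11 * τ := ((Commute.inv_left_iff.1 hc1).eq).symm
  have hinv : ∀ q, p11 q ∈ e ↔ q ∈ e := fun q => by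
    conv_lhs => rw [hc2]
    exact ⟨fun h => by
      obtain ⟨r, hr, e'⟩ := Finset.mem_image.1 h
      rwa [← perm11.injective (e'.trans (rfl : p11 q = perm11 q))],
      fun h => Finset.mem_image.2 ⟨q, h, rfl⟩⟩
  have hiter : ∀ (i : ℕ) q, p11^[i] q ∈ e ↔ q ∈ e := by
    intro i
    induction i with
    | zero => intro q; rfl
    | succ i ih => intro q; rw [Function.iterate_succ_apply', hinv, ih]
  have hform : e = setOf24 (maskWhere fun q =>
      (cyc11 q == 1 && decide (pt 1 ∈ e)) || (cyc11 q == 2 && decide (pt 8 ∈ e))) := by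
    ext q
    rw [maskWhere, setOf24_maskOf, Finset.mem_filter]
    have h1 := hiter (step11 q) (rep11 q)
    rw [step11_spec] at h1
    by_cases c1 : cyc11 q = 1
    · simp [c1, h1, rep11]
    by_cases c2 : cyc11 q = 2
    · simp [c2, h1, rep11]
    have h3 : cyc11 q = 0 := by
      have : ∀ q, cyc11 q ≤ 2 := by decide +kernel
      have := this q
      omega
    simp [c1, c2, (hoff q (cyc11_zero q h3)).1]
  have he0 : e = ∅ := by
    have hcode := (mem_supports_iff e).1 he
    rw [hform] at hcode ⊢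
    have key : ∀ s t : Bool, isCode (maskOf (setOf24 (maskWhere fun q =>
        (cyc11 q == 1 && s) || (cyc11 q == 2 && t)))) = true →
        setOf24 (maskWhere fun q => (cyc11 q == 1 && s) || (cyc11 q == 2 && t)) = ∅ := by
      decide +kernel
    exact key _ _ hcode
  subst he0
  rw [permHom_eq τ hτ]
  have hn := (hoff none (Or.inl rfl)).2
  have h0 := (hoff (pt 0) (Or.inr rfl)).2
  rcases hn with hn | hn
  · have h0' : τ (pt 0) = pt 0 := by
      rcases h0 with h | h
      · exact absurd (τ.injective (h.trans hn.symm)) (Ne.symm pt0_ne_none)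
      · exact h
    have h11 := pow11_of_commute hτ hn h0' hcomm
    rw [← map_pow, map_eq_one_iff _ permHom_injective]
    exact Subtype.ext (by simp [h11])
  · have h0' : τ (pt 0) = none := by
      rcases h0 with h | h
      · exact h
      · exact absurd (τ.injective (h.trans hn.symm)) (Ne.symm pt0_ne_none)
    exact (no_swap11 hτ hn h0' hcomm).elim

end CfsgLib.Leech
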