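import Cfsg.Agent.Leech.OutTriple
import Cfsg.Agent.Leech.Co2OutData
import Cfsg.Agent.Leech.Co3OutData
import Cfsg.Agent.Mathieu.SmallOrders

/-!
Kernel checks for the rigid triple of the stabiliser of a vector of norm 32.
-/

set_option autoImplicit false
set_option maxRecDepth 100000

namespace CfsgLib.Leech.Co2Out

open Cfsg CfsgLib.Mathieu Co2OutData

/-- The moves of the words in the letters. -/
def wmv (w : List ℕ) : List Mv := (w.map fun i => letters.getD i []).flatten

/-- The generators used on the 4600 vectors. -/
def topGens : List (List Mv) := topTables.map (fun t => [Mv.mono t 0]) ++ [movesC]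

/-- The generators used on the 20736 vectors. -/
def midGens : List (List Mv) := midTables.map (fun t => [Mv.mono t 0]) ++ [wmv midWord]

/-- The moves of the relation for given moves of the first and of the third element. -/
def relMoves (ma mc : List Mv) : List Mv :=
  (List.replicate 9 (((((mc ++ movesB) ++ ma) ++ mc) ++ (List.replicate 3 movesB).flatten) ++
    (List.replicate 5 ma).flatten)).flatten

/-- Some unit vector is moved. -/
def movesSome (w : List Mv) : Bool :=
  w.all Mv.ok && (List.range 24).any fun j =>
    packable ((List.range 24).map fun i => if i = j then (8 : ℤ) else 0) &&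
      let x := penc ((List.range 24).map fun i => if i = j then (8 : ℤ) else 0)
      !(Nat.beq (w.foldl pact x) x)

theorem lattice_checks : leechB (vec vecU) = true ∧ leechB (vec vecQ) = true ∧
    leechB (vec vecP) = true ∧ leechB (vec vecX) = true ∧
    sqNorm (vec vecU) = 32 ∧ sqNorm (vec vecQ) = 32 ∧ sqNorm (vec vecX) = 32 ∧
    dotInt (vec vecU) (vec vecQ) = -16 ∧ dotInt (vec vecU) (vec vecX) = -8 ∧
    dotInt (vec vecQ) (vec vecX) = 0 ∧ vec vecQ + vec vecX = eight none ∧
    vec vecQ ≠ vec vecP := by
  decide +kernel

theorem fix_checks : mapP movesA vecU vecU = true ∧ mapP movesB vecU vecU = true ∧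
    mapP movesC vecU vecU = true ∧ mapP movesB vecQ vecQ = true ∧
    mapP movesC vecP vecQ = true ∧ mapP movesB vecX vecX = true := by
  decide +kernel

theorem search_checks :
    SporadicOut.levelsOK [1, 8388608] tableB Co3OutData.levB 0 = true ∧
    SporadicOut.search tableB 1 Co3OutData.powB Co3OutData.levB [] = true ∧
    SporadicOut.search tableB 10 [] Co3OutData.levB [] = true ∧
    (Co3OutData.powB.zipIdx.all fun e =>
      allBelow 24 fun i => app e.1 i == SporadicOut.iterApp tableB e.2 i) = true := by
  decide +kernel

end CfsgLib.Leech.Co2Out
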