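import Cfsg.Agent.Leech.Co2OutChecks

/-!
Relations between the three elements, for the stabiliser of a vector of norm 32.
-/

set_option autoImplicit false
set_option maxRecDepth 100000

namespace CfsgLib.Leech.Co2Out

open Cfsg CfsgLib.Mathieu Co2OutData

theorem rel_checks :
    sameP (List.replicate 11 movesB).flatten [] = true ∧
    sameP (movesC ++ movesC) [] = true ∧
    sameP (movesB ++ movesC ++ movesB ++ movesC) [] = true ∧
    sameP (movesA ++ movesB) (movesB ++ (List.replicate 12 movesA).flatten) = true ∧
    sameP (relMoves movesA movesC) [] = true ∧
    sameP (List.replicate 22 movesA).flatten (letters.getD 3 []) = true ∧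
    sameP (List.replicate 10 movesB).flatten (letters.getD 4 []) = true ∧
    letters.all (fun l => l.all Mv.ok) = true := by
  decide +kernel

end CfsgLib.Leech.Co2Out
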