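import Cfsg.Agent.Leech.Co2OutChecks

/-!
The other candidates fail the relation, for the stabiliser of a vector of norm 32.
-/

set_option autoImplicit false
set_option maxRecDepth 100000

namespace CfsgLib.Leech.Co2Out

open Cfsg CfsgLib.Mathieu Co2OutData

theorem rel_others :
    ((List.range 11).all fun i => (i == 0) ||
      movesSome (relMoves movesA ((List.replicate i movesB).flatten ++ movesC))) = true ∧
    ((List.range 11).all fun i =>
      movesSome (relMoves (letters.getD 3 []) ((List.replicate i movesB).flatten ++ movesC))) = true := by
  decide +kernel

end CfsgLib.Leech.Co2Out
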