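import Cfsg.Agent.Leech.Co2OutChecks

/-!
Enough points in two orbits, for the stabiliser of a vector of norm 32.
-/

set_option autoImplicit false
set_option maxRecDepth 100000

namespace CfsgLib.Leech.Co2Out

open Cfsg CfsgLib.Mathieu Co2OutData

theorem top_tree : treeOK [] topGens vecQ topLvls 3747 = true := by
  decide +kernel

theorem mid_tree : treeOK [] midGens vecX midLvls 1539 = true := by
  decide +kernel

end CfsgLib.Leech.Co2Out
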