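import Cfsg.Agent.Leech.StabBottom

/-!
Sign changes avoiding two points inside a normalised subgroup of the stabiliser of a minimal vector.
-/

set_option autoImplicit false
set_option maxRecDepth 100000

namespace CfsgLib.Leech

open Cfsg CfsgLib.Mathieu
open scoped Pointwise symmDiff

/-- A basis of the code words avoiding two points. -/
def avoidRows : List ℕ := [4845570, 7221256, 5210132, 6475812, 3698756, 2019456, 4038912, 8077824, 6644740, 3610628]

/-- Permutations of the code fixing the two points. -/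
def avoidPerms : List ℕ :=
  [564634823966339948564184413391353113288099841792553912576,
   565397697100969552652119382779423766059204548353776621056,
   565972773115299170303351397805812067423695739367379964416,
   564156665897080723442227117424069631026483662106018255616]

/-- Selectors writing the basis in commutators. -/
def avoidSel : List ℕ := [8283, 8877, 8795, 139, 607, 8780, 8945, 540, 91, 605]

/-- Coordinates in the basis. -/
def avoidCoord : List ℕ := [0, 1, 0, 2, 4, 8, 16, 32, 64, 128, 256, 512]

/-- Commutators of sign changes and permutations. -/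
def avoidSpan : List ℕ :=
  avoidRows.flatMap fun r => avoidPerms.map fun t => r ^^^ maskWhere fun p => r.testBit (app t (idx p))

theorem avoid_facts : avoidSel.map (xorSel avoidSpan) = avoidRows ∧
    (avoidRows.all fun r => isCode r && !r.testBit 23 && !r.testBit 0) = true ∧
    (avoidPerms.all fun t => (Mv.mono t 0).ok && app t 23 == 23 && app t 0 == 0) = true := by
  decide +kernel

theorem avoid_coord : ∀ m < 4096, (codeMask m).testBit 23 = false → (codeMask m).testBit 0 = false →
    codeMask m = xorSel avoidRows (xorSel avoidCoord m) := by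
  decide +kernel

theorem mono_mem_stab_A {τ : Equiv.Perm GolayPt} (hτ : τ ∈ M24) {c : Finset GolayPt}
    (hc : c ∈ supports (golayCode : Set (GolayPt → ZMod 2))) (hn : τ none = none) (h0 : τ (pt 0) = pt 0)
    (hcn : none ∉ c) (hc0 : pt 0 ∉ c) : monoCo0 τ hτ c hc ∈ MulAction.stabilizer Co0 bA := by
  refine Subtype.ext (funext fun p => ?_)
  rw [monoCo0_smul]
  show monoFun τ c baseA p = baseA p
  unfold monoFun
  have hz : ∀ q, q ≠ none → q ≠ pt 0 → baseA q = 0 := by decide +kernel
  by_cases hp : p = none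
  · subst hp; rw [if_neg hcn, hn]
  by_cases hp' : p = pt 0
  · subst hp'; rw [if_neg hc0, h0]
  have e1 : baseA (τ p) = 0 :=
    hz _ (fun e => hp (τ.injective (e.trans hn.symm))) (fun e => hp' (τ.injective (e.trans h0.symm)))
  rw [e1, hz p hp hp']
  split <;> simp

variable {N : Subgroup Co0}

/-- Sign changes avoiding the two points are products of commutators with permutations. -/
theorem avoidSigns_mem (hN : NormalisedBy (MulAction.stabilizer Co0 bA) N)
    (hperm : ∀ τ ∈ perm22, permHom τ ∈ N) (c : Finset GolayPt)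
    (hc : c ∈ supports (golayCode : Set (GolayPt → ZMod 2))) (hcn : none ∉ c) (hc0 : pt 0 ∉ c) :
    monoCo0 1 (one_mem _) c hc ∈ N := by
  let Q : ℕ → Prop := fun M => ∃ h : setOf24 M ∈ supports (golayCode : Set (GolayPt → ZMod 2)),
    monoCo0 1 (one_mem _) (setOf24 M) h ∈ N
  have hx : ∀ a b, Q a → Q b → Q (a ^^^ b) := by
    rintro a b ⟨ha, han⟩ ⟨hb, hbn⟩
    refine ⟨setOf24_xor a b ▸ supports_symmDiff ha hb, ?_⟩
    have := mul_mem han hbn
    rw [monoCo0_mul] at this
    convert this using 1
    exact monoCo0_congr (mul_one _).symm (by rw [setOf24_xor]; simp)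
  have h0 : Q 0 := by
    refine ⟨setOf24_mem_supports isCode_zero, ?_⟩
    convert one_mem N
    refine co0_ext fun v => Subtype.ext ?_
    rw [monoCo0_smul, one_smul]
    funext p
    simp [monoFun, mem_setOf24]
  have hspan : ∀ m ∈ avoidSpan, Q m := by
    intro m hm
    simp only [avoidSpan, List.mem_flatMap, List.mem_map] at hm
    obtain ⟨r, hr, t, ht, rfl⟩ := hm
    have hr' := List.all_eq_true.1 avoid_facts.2.1 r hr
    have ht' := List.all_eq_true.1 avoid_facts.2.2 t ht
    simp only [Bool.and_eq_true, Bool.not_eq_true', beq_iff_eq] at hr' ht'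
    obtain ⟨⟨hcode, hr23⟩, hr00⟩ := hr'
    obtain ⟨⟨hok, ht23⟩, ht0⟩ := ht'
    obtain ⟨τ, hτ, -, hrep, -⟩ := monoMove_spec hok
    have hτn : τ none = none := idx_injective ((hrep none).symm.trans (by rw [idx_none]; exact ht23))
    have hτ0 : τ (pt 0) = pt 0 := idx_injective ((hrep (pt 0)).symm.trans (by rw [pt_zero]; exact ht0))
    have hc := setOf24_mem_supports hcode
    have hT : monoCo0 τ hτ ∅ empty_mem_supports ∈ N := by
      rw [permHom_eq]
      exact hperm _ (mem_perm22.2 ⟨inv_fix hτn, inv_fix hτ0⟩)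
    set T := monoCo0 τ hτ ∅ empty_mem_supports with hTdef
    set A := monoCo0 1 (one_mem _) (setOf24 r) hc with hAdef
    have hAG : A ∈ MulAction.stabilizer Co0 bA := mono_mem_stab_A (one_mem _) hc rfl rfl
      (by rw [mem_setOf24, idx_none, hr23]; simp) (by rw [mem_setOf24, pt_zero, hr00]; simp)
    have hA' : monoCo0 1 (one_mem _) ((setOf24 r).image ⇑τ⁻¹)
        (setSystemAut_image_mem (inv_mem hτ : τ⁻¹ ∈ M24) hc) = T * A * T⁻¹ := by
      rw [eq_mul_inv_iff_mul_eq, hTdef, hAdef, monoCo0_mul, monoCo0_mul]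
      exact monoCo0_congr (by simp) (by simp [symmDiff_empty', empty_symmDiff'])
    have hAA : A⁻¹ = A := by
      rw [inv_eq_iff_mul_eq_one, hAdef, monoCo0_mul]
      refine co0_ext fun v => Subtype.ext ?_
      rw [monoCo0_smul, one_smul]
      funext p
      simp [monoFun]
    have hmem : A * (T * A * T⁻¹) ∈ N := by
      have := mul_mem (hN A hAG T hT) (inv_mem hT)
      rwa [hAA, mul_assoc, mul_assoc, ← mul_assoc T] at this
    rw [← hA', hAdef, monoCo0_mul] at hmem
    have e : setOf24 (r ^^^ maskWhere fun p => r.testBit (app t (idx p))) =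
        setOf24 r ∆ (setOf24 r).image ⇑τ⁻¹ := by
      rw [setOf24_xor, maskWhere, setOf24_maskOf]
      congr 1
      ext p
      rw [Finset.mem_filter, hrep p]
      constructor
      · intro h
        exact Finset.mem_image.2 ⟨τ p, mem_setOf24.2 h.2, perm_inv_apply τ p⟩
      · intro h
        obtain ⟨q, hq, rfl⟩ := Finset.mem_image.1 h
        exact ⟨Finset.mem_univ _, by rw [perm_apply_inv]; exact mem_setOf24.1 hq⟩
    refine ⟨e ▸ supports_symmDiff hc (setSystemAut_image_mem (inv_mem hτ : τ⁻¹ ∈ M24) hc), ?_⟩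
    convert hmem using 1
    exact monoCo0_congr (mul_one _).symm (by rw [e]; simp)
  have hrows : ∀ r ∈ avoidRows, Q r := by
    intro r hr
    rw [← avoid_facts.1, List.mem_map] at hr
    obtain ⟨s, -, rfl⟩ := hr
    exact xorSel_induction Q h0 hx _ _ hspan
  obtain ⟨m, hm, hM⟩ := exists_codeMask ((mem_supports_iff c).1 hc)
  have hb : ∀ p, p ∉ c → (codeMask m).testBit (idx p) = false := by
    intro p hp
    rw [← hM]
    rw [← setOf24_maskOf c, mem_setOf24] at hp
    simpa using hp
  obtain ⟨h, hn⟩ : Q (maskOf c) := by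
    rw [hM, avoid_coord m hm (by simpa [idx_none] using hb none hcn) (by simpa [pt_zero] using hb _ hc0)]
    exact xorSel_induction Q h0 hx _ _ hrows
  convert hn using 1
  exact monoCo0_congr rfl (setOf24_maskOf c).symm

/-- Monomial members fixing the two points lie in the subgroup. -/
theorem mono22_mem (hN : NormalisedBy (MulAction.stabilizer Co0 bA) N)
    (hperm : ∀ τ ∈ perm22, permHom τ ∈ N) {τ : Equiv.Perm GolayPt} (hτ : τ ∈ M24) {c : Finset GolayPt}
    (hc : c ∈ supports (golayCode : Set (GolayPt → ZMod 2))) (hn : τ none = none) (h0 : τ (pt 0) = pt 0)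
    (hcn : none ∉ c) (hc0 : pt 0 ∉ c) : monoCo0 τ hτ c hc ∈ N := by
  have h := mul_mem (avoidSigns_mem hN hperm c hc hcn hc0)
    (hperm ⟨τ⁻¹, inv_mem hτ⟩ (mem_perm22.2 ⟨inv_fix hn, inv_fix h0⟩))
  rw [← permHom_eq τ hτ, monoCo0_mul] at h
  convert h using 1
  exact monoCo0_congr (mul_one τ).symm (by simp [symmDiff_empty'])

/-- All moves of the list are monomial, fix the two points and keep their signs. -/
def mono22B (ms : List Mv) : Bool :=
  match ms with
  | [.mono t c] => (Mv.mono t c).ok && app t 23 == 23 && app t 0 == 0 && !c.testBit 23 && !c.testBit 0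
  | _ => false

theorem mono22_spec (hN : NormalisedBy (MulAction.stabilizer Co0 bA) N)
    (hperm : ∀ τ ∈ perm22, permHom τ ∈ N) {ms : List Mv} (h : mono22B ms = true) :
    ms.all Mv.ok = true ∧ ∃ g ∈ N, ∀ (l : List ℤ) (hl : vec l ∈ leechLattice),
      ((g • (⟨vec l, hl⟩ : leechLattice) : leechLattice) : GolayPt → ℤ) = vec (runMoves ms l) := by
  match ms, h with
  | [.mono t c], h =>
    simp only [mono22B, Bool.and_eq_true, beq_iff_eq, Bool.not_eq_true'] at h
    obtain ⟨⟨⟨⟨hok, h23⟩, h00⟩, hc23⟩, hc00⟩ := h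
    obtain ⟨τ, hτ, hc, hrep, hact⟩ := monoMove_spec hok
    refine ⟨by simp [hok], monoCo0 τ hτ (setOf24 c) hc, mono22_mem hN hperm hτ hc ?_ ?_ ?_ ?_, hact⟩
    · exact idx_injective ((hrep none).symm.trans (by rw [idx_none]; exact h23))
    · exact idx_injective ((hrep (pt 0)).symm.trans (by rw [pt_zero]; exact h00))
    · rw [mem_setOf24, idx_none, hc23]; simp
    · rw [mem_setOf24, pt_zero, hc00]; simp

end CfsgLib.Leech
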