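import Cfsg.Agent.Leech.HsSimple
import Cfsg.Agent.Leech.Co2Centraliser
import Cfsg.Agent.Leech.Co2Signs
import Cfsg.Agent.Leech.StabConj

/-!
The stabiliser of a minimal vector is simple.
-/

set_option autoImplicit false
set_option maxRecDepth 100000

namespace CfsgLib.Leech

open Cfsg CfsgLib.Mathieu SimpleData
open scoped Pointwise

/-- A normalised `p`-group in which an element of order `r` fixes only 1 has order 1 mod `r`. -/
theorem card_mod_of_commute {G N : Subgroup Co0} (hle : N ≤ G) (hN : NormalisedBy G N) {p r : ℕ}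
    [Fact p.Prime] [Fact r.Prime] (hpr : p ≠ r) {π : Co0} (hπG : π ∈ G) (hπ : orderOf π = r)
    (hC : ∀ y ∈ G, y * π = π * y → y ^ r = 1) (hP : IsPGroup p N) : Nat.card N % r = 1 := by
  have := co0_finite
  let act : MulAction (Subgroup.zpowers π) N :=
    { smul := fun a b => ⟨(a : Co0) * b * (a : Co0)⁻¹, hN a.1 (Subgroup.zpowers_le.2 hπG a.2) b.1 b.2⟩
      one_smul := fun b => Subtype.ext (show (1 : Co0) * (b : Co0) * 1⁻¹ = b by group)
      mul_smul := fun a a' b => Subtype.ext (show ((a : Co0) * a') * (b : Co0) * ((a : Co0) * a')⁻¹ =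
        (a : Co0) * ((a' : Co0) * (b : Co0) * (a' : Co0)⁻¹) * (a : Co0)⁻¹ by group) }
  have hR : IsPGroup r (Subgroup.zpowers π) :=
    IsPGroup.of_card (n := 1) (by rw [Nat.card_zpowers, hπ, pow_one])
  have hfix : MulAction.fixedPoints (Subgroup.zpowers π) N = {1} := by
    refine Set.eq_singleton_iff_unique_mem.2
      ⟨fun a => Subtype.ext (show (a : Co0) * 1 * (a : Co0)⁻¹ = 1 by group), fun b hb => ?_⟩
    have h1 : π * (b : Co0) * π⁻¹ = b := congrArg Subtype.val (hb ⟨π, Subgroup.mem_zpowers π⟩)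
    have h2 := orderOf_dvd_of_pow_eq_one (hC b.1 (hle b.2) (mul_inv_eq_iff_eq_mul.1 h1).symm)
    rw [Subgroup.orderOf_coe] at h2
    obtain ⟨i, hi⟩ := IsPGroup.iff_orderOf.1 hP b
    rcases Nat.eq_zero_or_pos i with rfl | hi0
    · rwa [pow_zero, orderOf_eq_one_iff] at hi
    · exfalso
      rw [hi] at h2
      exact hpr ((Nat.prime_dvd_prime_iff_eq Fact.out Fact.out).1 ((dvd_pow_self p hi0.ne').trans h2))
  have h := hR.card_modEq_card_fixedPoints N
  rw [hfix] at h
  have h1 : Nat.card ({1} : Set N) = 1 := by simp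
  rw [h1] at h
  exact Eq.trans h (Nat.mod_eq_of_lt (Fact.out : r.Prime).one_lt)

/-- The vector of shape one three. -/
def baseC : GolayPt → ℤ := vec repC32

theorem baseC_facts : leechB baseC = true ∧ sqNorm baseC = 32 ∧ baseC none = -3 ∧
    ∀ p, p ≠ none → baseC p = baseC (pt 1) := by
  decide +kernel

/-- The vector `baseC` in the lattice. -/
def bC : leechLattice := ⟨baseC, leechB_iff.mp baseC_facts.1⟩

/-- The second vector of the chain. -/
def baseW0 : GolayPt → ℤ := vec co2aRoot

/-- The root of the 891 points. -/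
def baseU : GolayPt → ℤ := eight none - baseA + baseW0

theorem chain_facts : (leechB baseW0 = true ∧ sqNorm baseW0 = 32 ∧ dotInt baseA baseW0 = -16) ∧
    (leechB baseU = true ∧ sqNorm baseU = 32 ∧ dotInt baseA baseU = -16 ∧ dotInt baseW0 baseU = 16) := by
  decide +kernel

/-- The vector `baseW0` in the lattice. -/
def bW0 : leechLattice := ⟨baseW0, leechB_iff.mp chain_facts.1.1⟩

/-- The vector `baseU` in the lattice. -/
def bU : leechLattice := ⟨baseU, leechB_iff.mp chain_facts.2.1⟩

theorem co2a_tree : treeOK co2aFix co2aGens co2aRoot co2aLvls 4600 = true := by decide +kernel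
theorem co2b_tree : treeOK co2bFix co2bGens co2bRoot co2bLvls 891 = true := by decide +kernel

theorem co2_data : (co2aMono ++ co2aConj.map fun e => [e.2.1]).all mono22B = true ∧
    co2aConj.all (conjOK co2aFix) = true ∧
    (co2bMono ++ co2bConj.map fun e => [e.2.1]).all
      (fun ms => mono22B ms && runMoves ms co2bFix[1] == co2bFix[1]) = true ∧
    co2bConj.all (conjOK co2bFix) = true ∧
    ((treeList TreeData.co2Gens [penc TreeData.co2Root] TreeData.co2Lvls).countP fun c =>
      dotP co2aRoot c == 16) = 891 := by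
  decide +kernel

theorem ncard_orb_891 :
    (orb (MulAction.stabilizer Co0 bA ⊓ MulAction.stabilizer Co0 bW0) (eightL none)).ncard ≤ 891 := by
  have hE : eightL none = bU + bA - bW0 :=
    Subtype.ext (show eight none = baseU + baseA - baseW0 by rw [baseU]; abel)
  set H := MulAction.stabilizer Co0 bA ⊓ MulAction.stabilizer Co0 bW0
  have hsub : orb H (eightL none) ⊆ (fun y => y + bA - bW0) '' orb H bU := by
    rintro y ⟨g, hg, rfl⟩
    refine ⟨g • bU, ⟨g, hg, rfl⟩, ?_⟩
    show g • bU + bA - bW0 = g • eightL none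
    rw [hE, co0_sub, co0_add, show g • bA = bA from hg.1, show g • bW0 = bW0 from hg.2]
  refine (Set.ncard_le_ncard hsub ((orb_finite _ _).image _)).trans
    ((Set.ncard_image_le (orb_finite _ _)).trans ?_)
  rw [← (ncard_sep_tree co2_tree (dotSet_finite _ _) ncard_dotSet_A.le sub4600 _
    (fun x => dotInt baseW0 x = 16) fun c => by rw [beq_iff_eq, dotP_eq _ (by rfl)]; rfl).trans
      co2_data.2.2.2.2, ← Set.ncard_image_of_injective _ Subtype.val_injective]
  refine Set.ncard_le_ncard ?_ ((dotSet_finite _ _).subset fun _ h => h.1)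
  rintro x ⟨y, ⟨g, ⟨gA, gW⟩, rfl⟩, rfl⟩
  exact ⟨⟨(g • bU).2, by rw [co0_norm]; exact chain_facts.2.2.1,
    (smul_dot_eq (show g • bA = bA from gA) bU).trans chain_facts.2.2.2.1⟩,
    (smul_dot_eq (show g • bW0 = bW0 from gW) bU).trans chain_facts.2.2.2.2⟩

/-- A normalised subgroup with the permutations fixing two points is the whole stabiliser. -/
theorem co2_le {N : Subgroup Co0} (hle : N ≤ MulAction.stabilizer Co0 bA)
    (hN : NormalisedBy (MulAction.stabilizer Co0 bA) N) (hperm : ∀ τ ∈ perm22, permHom τ ∈ N) :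
    MulAction.stabilizer Co0 bA ≤ N := by
  set G := MulAction.stabilizer Co0 bA with hG
  have hA : (bA : GolayPt → ℤ) = vec co2aFix[0] := funext (by decide +kernel)
  refine le_of_orb hle bW0 ?_ ?_
  · have hg := gensIn_of (monos := co2aMono) (conjs := co2aConj) hN
      (fun g hg => fix_of_list bA hA (hg _ (by simp [co2aFix])))
      (fun ms hms => mono22_spec hN hperm (List.all_eq_true.1 co2_data.1 ms hms)) co2_data.2.1
    refine le_trans ?_ (le_ncard_orb co2a_tree hg bW0 rfl)
    rw [← ncard_dotSet_A, ← Set.ncard_image_of_injective _ Subtype.val_injective]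
    refine Set.ncard_le_ncard ?_ (dotSet_finite _ _)
    rintro x ⟨y, ⟨g, gA, rfl⟩, rfl⟩
    exact ⟨(g • bW0).2, by rw [co0_norm]; exact chain_facts.1.2.1,
      (smul_dot_eq (show g • bA = bA from gA) bW0).trans chain_facts.1.2.2⟩
  set H := G ⊓ MulAction.stabilizer Co0 bW0 with hH
  have hN' : NormalisedBy H (N ⊓ H) := fun g hg n hn =>
    ⟨hN g hg.1 n hn.1, Subgroup.mul_mem _ (Subgroup.mul_mem _ hg hn.2) (Subgroup.inv_mem _ hg)⟩
  refine le_trans (le_of_orb (N := N ⊓ H) inf_le_right (eightL none) ?_ ?_) inf_le_left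
  · have hW : (bW0 : GolayPt → ℤ) = vec co2bFix[1] := funext (by decide +kernel)
    have hA' : (bA : GolayPt → ℤ) = vec co2bFix[0] := funext (by decide +kernel)
    have hg := gensIn_of (monos := co2bMono) (conjs := co2bConj) hN'
      (fun g hg => ⟨fix_of_list bA hA' (hg _ (by simp [co2bFix])),
        fix_of_list bW0 hW (hg _ (by simp [co2bFix]))⟩)
      (fun ms hms => by
        have h := List.all_eq_true.1 co2_data.2.2.1 ms hms
        simp only [Bool.and_eq_true, beq_iff_eq] at h
        obtain ⟨hok, g, hgN, hact⟩ := mono22_spec hN hperm h.1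
        exact ⟨hok, g, ⟨hgN, hle hgN, smul_eq_of_vec hW hact h.2⟩, hact⟩)
      co2_data.2.2.2.1
    exact ncard_orb_891.trans (le_ncard_orb co2b_tree hg (eightL none) (funext (by decide +kernel)))
  · rintro g ⟨⟨gA, gW⟩, g8⟩
    refine ⟨?_, gA, gW⟩
    obtain ⟨τ, hτ, c, hc, rfl, hn, hcn⟩ := eq_mono_of_fix g8
    have h1 := mono_fix_apply gA (pt 0)
    have h0 : pt 0 ∉ c ∧ baseA (τ (pt 0)) = 4 := by
      have h4 : baseA (pt 0) = 4 := by decide +kernel
      have hnn : 0 ≤ baseA (τ (pt 0)) := (by decide +kernel : ∀ q, 0 ≤ baseA q) _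
      split_ifs at h1 with hm
      · change -baseA (τ (pt 0)) = baseA (pt 0) at h1; omega
      · change baseA (τ (pt 0)) = baseA (pt 0) at h1; exact ⟨hm, h1.trans h4⟩
    have hτ0 : τ (pt 0) = pt 0 := by
      rcases (by decide +kernel : ∀ q, baseA q = 4 → q = none ∨ q = pt 0) _ h0.2 with e | e
      · exact absurd (τ.injective (e.trans hn.symm)) (Ne.symm pt0_ne_none)
      · exact e
    exact mono22_mem hN hperm hτ hc hn hτ0 hcn h0.1

theorem co2_simple : IsSimpleGroup (MulAction.stabilizer Co0 bA) := by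
  have := co0_finite
  have := Fact.mk (by norm_num : Nat.Prime 23)
  have := Fact.mk (by norm_num : Nat.Prime 11)
  have := Fact.mk Nat.prime_two
  set G := MulAction.stabilizer Co0 bA with hG
  have hcard : Nat.card G = 42305421312000 := card_stab_norm32 base_facts.2.1.2
  obtain ⟨g, hgC⟩ := transitive_norm32 bA bC base_facts.2.1.2 baseC_facts.2.1
  have hmemG : ∀ x, x ∈ G ↔ (g * x * g⁻¹) • bC = bC := fun x => smul_conj_iff g x hgC
  have hperm23 : ∀ τ ∈ perm23, g⁻¹ * permHom τ * g ∈ G := fun τ hτ => (hmemG _).2 (by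
    rw [show g * (g⁻¹ * permHom τ * g) * g⁻¹ = permHom τ by group]
    exact perm23_fix hτ baseC_facts.2.2.2)
  have hord' : ∀ x : Co0, orderOf (g⁻¹ * x * g) = orderOf x := fun x => by
    have := orderOf_injective (MulAut.conj g⁻¹).toMonoidHom (MulAut.conj g⁻¹).injective x
    simpa using this
  have hperm : ∀ τ ∈ perm22, permHom τ ∈ G := fun τ hτ => (perm22_fix_base hτ).2.1
  set π := g⁻¹ * pi23 * g with hπdef
  have hπ : π ∈ G := hperm23 _ (mem_perm23.2 rfl)
  have hπo : orderOf π = 23 := (hord' pi23).trans orderOf_pi23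
  have hπ11 : pi11 ∈ G := hperm _ pi11_mem_perm22
  refine isSimpleGroup_of_cases G ⟨π, hπ, fun e => ?_⟩ fun N hle hN => ?_
  · rw [e, orderOf_one] at hπo; omega
  have hC : ∀ y ∈ G, y * π = π * y → y ^ 23 = 1 := by
    intro y hy hc
    set z := g * y * g⁻¹ with hz
    have hzc : z * pi23 = pi23 * z := by
      calc z * pi23 = g * (y * π) * g⁻¹ := by rw [hz, hπdef]; group
        _ = g * (π * y) * g⁻¹ := by rw [hc]
        _ = pi23 * z := by rw [hz, hπdef]; group
    have hpow : z ^ 23 = g * y ^ 23 * g⁻¹ := by rw [hz, conj_pow]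
    rcases commute_pi23_cases z hzc with h | h
    · rw [h] at hpow
      calc y ^ 23 = g⁻¹ * (g * y ^ 23 * g⁻¹) * g := by group
        _ = 1 := by rw [← hpow]; group
    · exfalso
      have h1 : (z ^ 23) • bC = bC :=
        pow_mem (show z ∈ MulAction.stabilizer Co0 bC from (hmemG y).1 hy) 23
      rw [h] at h1
      have h2 := congrFun (congrArg Subtype.val h1) none
      rw [negCo0_smul] at h2
      change -baseC none = baseC none at h2
      rw [baseC_facts.2.2.1] at h2
      omega
  rcases normal_dichotomy (p := 2) hle hN hπ hπo (by rw [hcard]; decide +kernel) hC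
    (by
      rw [hcard]
      exact pow_mod_of_list (List.replicate 18 2 ++ List.replicate 6 3 ++ [5, 5, 5, 7, 11, 23])
        (fun a ha => by
          simp only [List.mem_append, List.mem_replicate, List.mem_cons, List.not_mem_nil, or_false] at ha
          rcases ha with (⟨-, rfl⟩ | ⟨-, rfl⟩) | rfl | rfl | rfl | rfl | rfl | rfl <;> norm_num)
        (by decide +kernel) (by norm_num) (by norm_num) (by decide +kernel))
    with hP | hord
  · left
    have m1 := card_mod_of_commute hle hN (by norm_num) hπ hπo hC hP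
    have m2 := card_mod_of_commute hle hN (by norm_num) hπ11 orderOf_pi11
      (fun y hy hc => commute_pi11_A hy hc) hP
    obtain ⟨k, hk⟩ := hP.exists_card_eq
    have hdvd : 2 ^ k ∣ 42305421312000 := by
      rw [← hk, ← hcard]; exact Subgroup.card_dvd_of_le hle
    have hk64 : k < 64 := by
      by_contra hk'
      have h1 := Nat.le_of_dvd (by norm_num) hdvd
      have h2 : 2 ^ 64 ≤ 2 ^ k := Nat.pow_le_pow_right (by norm_num) (by omega)
      omega
    rw [hk] at m1 m2
    have hk0 : k = 0 := (by decide +kernel : ∀ k < 64, 2 ^ k ∣ 42305421312000 → 2 ^ k % 23 = 1 →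
      2 ^ k % 11 = 1 → k = 0) k hk64 hdvd m1 m2
    exact Subgroup.card_eq_one.1 (by rw [hk, hk0, pow_zero])
  right
  have hπN : π ∈ N := hord _ hπ hπo
  set G' := G.comap (MulAut.conj g⁻¹).toMonoidHom with hG'
  set N' := N.comap (MulAut.conj g⁻¹).toMonoidHom with hN'
  have hmem' : ∀ (K : Subgroup Co0) x, x ∈ K.comap (MulAut.conj g⁻¹).toMonoidHom ↔ g⁻¹ * x * g ∈ K :=
    fun K x => by simp
  have hnorm : NormalisedBy G' N' := fun a ha n hn => by
    rw [hN', hmem'] at hn ⊢
    rw [hG', hmem'] at ha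
    have h := hN _ ha _ hn
    simpa [mul_assoc] using h
  have : IsSimpleGroup perm23 := simple_M24_point (none : GolayPt)
  have h23 : ∀ τ ∈ perm23, permHom τ ∈ N' :=
    perms_mem hnorm perm23 (fun τ hτ => (hmem' G _).2 (hperm23 τ hτ))
      (τ₀ := ⟨shiftOne, shiftOne_mem_M24⟩) (mem_perm23.2 rfl)
      (fun e => by have := shiftOne_order; rw [e, orderOf_one] at this; omega) ((hmem' N _).2 hπN)
  have h11 : g⁻¹ * pi11 * g ∈ N := (hmem' N _).1 (h23 _ (mem_perm23.2 perm11_fixes.1))
  have := hN.normal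
  have hdvd : 11 ∣ Nat.card (N.subgroupOf G) := by
    have e : orderOf (⟨⟨_, hle h11⟩, Subgroup.mem_subgroupOf.2 h11⟩ : N.subgroupOf G) = 11 := by
      rw [Subgroup.orderOf_mk, Subgroup.orderOf_mk, hord', orderOf_pi11]
    rw [← e]; exact orderOf_dvd_natCard _
  have hp11 : pi11 ∈ N := Subgroup.mem_subgroupOf.1 (mem_of_prime_order (r := 11) (by rw [hcard]; decide +kernel) hdvd
    (show orderOf (⟨pi11, hπ11⟩ : G) = 11 by rw [Subgroup.orderOf_mk]; exact orderOf_pi11))
  have : IsSimpleGroup perm22 := simple_perm22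
  exact co2_le hle hN (perms_mem hN perm22 hperm pi11_mem_perm22
    (fun e => by
      have := orderOf_perm11
      rw [show perm11 = 1 from congrArg Subtype.val e, orderOf_one] at this; omega) hp11)

end CfsgLib.Leech
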