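import Cfsg.Agent.Leech.StabPerm
import Cfsg.Agent.SporadicOut.NormEnum

/-!
Short vectors fixed by the element of order 11 multiplying the 23 points by 2: they are constant on
its four orbits.
-/

set_option autoImplicit false

namespace CfsgLib.Leech

open Cfsg CfsgLib.Mathieu

/-- The table of the multiplication by 2. -/
def tableB11 : ℕ := 565976893111451123696566449653690447839358251609054511616

/-- The representative of a position under the element of order 11. -/
def repPos (i : ℕ) : ℕ :=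
  if i = 23 then 23 else if i = 0 then 0 else if (2 ^ i &&& 340830) = 0 then 5 else 1

/-- A vector constant on the orbits. -/
def pat (a c m n : ℤ) : List ℤ :=
  (List.range 24).map fun i =>
    if repPos i = 23 then a else if repPos i = 0 then c else if repPos i = 1 then m else n

theorem repPos_spec : ∀ i < 24, ∃ j < 11, SporadicOut.iterApp tableB11 j (repPos i) = i := by
  decide +kernel

theorem repPos_card :
    (Finset.univ.filter fun p : GolayPt => repPos (idx p) = 1).card = 11 ∧
      (Finset.univ.filter fun p : GolayPt => repPos (idx p) = 5).card = 11 ∧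
      ∀ i < 24, repPos i = 23 ∨ repPos i = 0 ∨ repPos i = 1 ∨ repPos i = 5 := by
  decide +kernel

/-- The pattern vectors as functions. -/
def patVec (i j k l : ℕ) : GolayPt → ℤ :=
  vec (pat ((i : ℤ) - 5) ((j : ℤ) - 5) ((k : ℤ) - 1) ((l : ℤ) - 1))

theorem sqNorm_pat (a c m n : ℤ) :
    sqNorm (vec (pat a c m n)) = a ^ 2 + c ^ 2 + 11 * (m ^ 2 + n ^ 2) := by
  have hr : (List.range 24).map repPos =
      [0, 1, 1, 1, 1, 5, 1, 5, 1, 1, 5, 5, 1, 1, 5, 5, 1, 5, 1, 5, 5, 5, 5, 23] := by decide +kernel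
  have hv : (List.range 24).map (fun i => (vec (pat a c m n) (pt i)) ^ 2) =
      ((List.range 24).map repPos).map fun r =>
        (if r = 23 then a else if r = 0 then c else if r = 1 then m else n) ^ 2 := by
    rw [List.map_map]
    refine List.map_congr_left fun i hi => ?_
    rw [vec_getD, idx_pt (List.mem_range.1 hi), pat, getD_map_range _ (List.mem_range.1 hi)]
    rfl
  rw [sqNorm, sum_univ_list, hv, hr]
  simp
  ring
/-- The pattern vector has norm 32. -/
def pat32 (i j k l : ℕ) : Bool :=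
  decide (((i : ℤ) - 5) ^ 2 + ((j : ℤ) - 5) ^ 2 + 11 * (((k : ℤ) - 1) ^ 2 + ((l : ℤ) - 1) ^ 2) = 32)

theorem pat32_of_norm {i j k l : ℕ} (h : sqNorm (patVec i j k l) = 32) : pat32 i j k l = true := by
  rw [patVec, sqNorm_pat] at h
  exact decide_eq_true h

theorem exists_pat {σ : Equiv.Perm GolayPt} (hr : Rep enc σ tableB11) {f : GolayPt → ℤ}
    (hinv : ∀ p, f (σ p) = f p) (hn : sqNorm f = 32) :
    ∃ i j k l : ℕ, i < 11 ∧ j < 11 ∧ k < 3 ∧ l < 3 ∧ f = patVec i j k l := by
  have hpow : ∀ (j : ℕ) p, f ((σ ^ j) p) = f p := by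
    intro j
    induction j with
    | zero => intro p; simp
    | succ j ih => intro p; rw [pow_succ, Equiv.Perm.mul_apply, ih, hinv]
  have hrep : ∀ p, f p = f (pt (repPos (idx p))) := fun p => by
    obtain ⟨j, -, hj⟩ := repPos_spec (idx p) (idx_lt p)
    have hlt : repPos (idx p) < 24 := by
      rcases repPos_card.2.2 _ (idx_lt p) with h | h | h | h <;> omega
    have h1 : idx ((σ ^ j) (pt (repPos (idx p)))) = idx p := by
      rw [← SporadicOut.iterApp_eq hr, idx_pt hlt, hj]
    conv_lhs => rw [← idx_injective h1]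
    exact hpow j _
  have hle : ∀ p, f p ^ 2 ≤ 32 := fun p =>
    hn ▸ Finset.single_le_sum (f := fun p => f p ^ 2) (fun p _ => sq_nonneg _) (Finset.mem_univ p)
  have hbig : ∀ r, (Finset.univ.filter fun p : GolayPt => repPos (idx p) = r).card = 11 →
      11 * f (pt r) ^ 2 ≤ 32 := fun r hr => by
    calc 11 * f (pt r) ^ 2
        = ∑ p ∈ Finset.univ.filter (fun p : GolayPt => repPos (idx p) = r), f p ^ 2 := by
          rw [Finset.sum_congr rfl (g := fun _ => f (pt r) ^ 2) fun p hp => by
            rw [hrep p, (Finset.mem_filter.1 hp).2], Finset.sum_const, hr]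
          simp
      _ ≤ sqNorm f := Finset.sum_le_sum_of_subset_of_nonneg (Finset.filter_subset _ _)
          fun p _ _ => sq_nonneg _
      _ = 32 := hn
  have h5 : ∀ z : ℤ, z ^ 2 ≤ 32 → ∃ i : ℕ, i < 11 ∧ z = (i : ℤ) - 5 := fun z hz => by
    have h1 : z ≤ 5 := by nlinarith
    have h2 : -5 ≤ z := by nlinarith
    exact ⟨(z + 5).toNat, by omega, by omega⟩
  have h1' : ∀ z : ℤ, 11 * z ^ 2 ≤ 32 → ∃ i : ℕ, i < 3 ∧ z = (i : ℤ) - 1 := fun z hz => by
    have h1 : z ≤ 1 := by nlinarith
    have h2 : -1 ≤ z := by nlinarith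
    exact ⟨(z + 1).toNat, by omega, by omega⟩
  obtain ⟨i, hi, ei⟩ := h5 _ (hle (pt 23))
  obtain ⟨j, hj, ej⟩ := h5 _ (hle (pt 0))
  obtain ⟨k, hk, ek⟩ := h1' _ (hbig 1 repPos_card.1)
  obtain ⟨l, hl, el⟩ := h1' _ (hbig 5 repPos_card.2.1)
  refine ⟨i, j, k, l, hi, hj, hk, hl, funext fun p => ?_⟩
  rw [patVec, pat, vec_map_range, hrep p]
  rcases repPos_card.2.2 _ (idx_lt p) with h | h | h | h <;> rw [h] <;> simp [ei, ej, ek, el]

end CfsgLib.Leech
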