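import Cfsg.Agent.Leech.WordGens
import Cfsg.Agent.Leech.Co2Simple
import Cfsg.Agent.Leech.StabConj
import Cfsg.Agent.Leech.FixedEleven
import Cfsg.Agent.Leech.Co2OutChecks
import Cfsg.Agent.Leech.Co2OutRel
import Cfsg.Agent.Leech.Co2OutRelOthers
import Cfsg.Agent.Leech.Co2OutWords
import Cfsg.Agent.Leech.Co2OutTrees

/-!
A rigid generating triple of the stabiliser of a vector of norm 32: an element of order 23, an
element of order 11 normalising it, and an involution inverting the latter.
-/

set_option autoImplicit false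
set_option maxRecDepth 100000

namespace CfsgLib.Leech

open Cfsg CfsgLib.Mathieu

/-- Permutations checked against words give generators. -/
theorem gensIn_tables {N : Subgroup Co0} {gens : List (List Mv)} (hg : GensIn N gens)
    (words : List (List ℕ)) (tables : List ℕ) (hlen : tables.length = words.length)
    (htab : ((words.zip tables).all fun e =>
      (Mv.mono e.2 0).ok && sameP (wordMoves gens e.1) [Mv.mono e.2 0]) = true) :
    GensIn N (tables.map fun t => [Mv.mono t 0]) := by
  intro ms hms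
  obtain ⟨t, ht, rfl⟩ := List.mem_map.1 hms
  obtain ⟨i, hi, rfl⟩ := List.getElem_of_mem ht
  have hi' : i < (words.zip tables).length := by
    rw [List.length_zip, hlen, min_self]; exact hlen ▸ hi
  have h1 := List.all_eq_true.1 htab _ (List.getElem_mem hi')
  rw [List.getElem_zip, Bool.and_eq_true] at h1
  obtain ⟨-, g, hgN, hgA⟩ := gensIn_word hg (words[i]'(hlen ▸ hi))
  have hok : [Mv.mono tables[i] 0].all Mv.ok = true :=
    List.all_eq_true.2 fun x hx => by rw [List.mem_singleton.1 hx]; exact h1.1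
  refine ⟨hok, g, hgN, ?_⟩
  rw [hgA.eq_of (acts_mvEl hok) (sameB_of_sameP h1.2)]
  exact acts_mvEl hok

theorem Acts.ne_one {g : Co0} {ms : List Mv} (h : Acts g ms) (hm : Co2Out.movesSome ms = true) :
    g ≠ 1 := by
  intro he
  subst he
  simp only [Co2Out.movesSome, Bool.and_eq_true, List.any_eq_true, Bool.not_eq_true'] at hm
  obtain ⟨hok, j, -, hp, hne⟩ := hm
  generalize ((List.range 24).map fun i => if i = j then (8 : ℤ) else 0) = l at hp hne
  have hp' := hp
  simp only [packable, Bool.and_eq_true, beq_iff_eq, decide_eq_true_eq] at hp'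
  obtain ⟨⟨⟨h1, h2⟩, h3⟩, hlen⟩ := hp'
  have hl := h l (leechB_iff.mp h1)
  rw [one_smul, runMoves_eq_pact hok hp] at hl
  have h4 : l = dec (ms.foldl pact (penc l)) := by
    conv_lhs => rw [← toList_vec hlen]
    exact (congrArg toList hl).trans (toList_vec (dec_length _))
  have h5 := (prun_spec ms hok (penc l) (by rw [h3]; exact leechB_iff.mp h1) (by rw [h3]; exact h2)
    (by rw [h3])).2
  rw [← h4] at h5
  rw [← h5, Nat.beq_refl] at hne
  exact Bool.noConfusion hne

namespace Co2Out

open Co2OutData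

/-- The fixed vector of norm 32. -/
def bU : leechLattice := ⟨vec vecU, leechB_iff.mp lattice_checks.1⟩
/-- A vector with inner product `-16` with `bU`. -/
def bQ : leechLattice := ⟨vec vecQ, leechB_iff.mp lattice_checks.2.1⟩
/-- The other such vector fixed by the element of order 11. -/
def bP : leechLattice := ⟨vec vecP, leechB_iff.mp lattice_checks.2.2.1⟩
/-- A vector orthogonal to `bQ` with inner product `-8` with `bU`. -/
def bX2 : leechLattice := ⟨vec vecX, leechB_iff.mp lattice_checks.2.2.2.1⟩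

/-- The element of order 23. -/
noncomputable def ea : Co0 := mvEl movesA
/-- The element of order 11. -/
noncomputable def eb : Co0 := mvEl movesB
/-- The involution. -/
noncomputable def ec : Co0 := mvEl movesC

theorem ok_moves : movesA.all Mv.ok = true ∧ movesB.all Mv.ok = true ∧ movesC.all Mv.ok = true := by
  decide +kernel

theorem acts_ea : Acts ea movesA := acts_mvEl ok_moves.1
theorem acts_eb : Acts eb movesB := acts_mvEl ok_moves.2.1
theorem acts_ec : Acts ec movesC := acts_mvEl ok_moves.2.2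

theorem ea_eq : ea = pi23 := acts_ea.eq_of acts_pi23 (by decide +kernel)

theorem orderOf_ea : orderOf ea = 23 := ea_eq ▸ orderOf_pi23

theorem fixes_U : ea • bU = bU ∧ eb • bU = bU ∧ ec • bU = bU :=
  ⟨smul_eq_of_vec (l := vecU) rfl acts_ea (runMoves_of_mapP fix_checks.1),
    smul_eq_of_vec (l := vecU) rfl acts_eb (runMoves_of_mapP fix_checks.2.1),
    smul_eq_of_vec (l := vecU) rfl acts_ec (runMoves_of_mapP fix_checks.2.2.1)⟩

theorem eb_fix : eb • bQ = bQ ∧ eb • bX2 = bX2 ∧ ec • bP = bQ :=
  ⟨smul_eq_of_vec (l := vecQ) rfl acts_eb (runMoves_of_mapP fix_checks.2.2.2.1),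
    smul_eq_of_vec (l := vecX) rfl acts_eb (runMoves_of_mapP fix_checks.2.2.2.2.2),
    acts_ec.smul_eq (l := vecP) (l' := vecQ) rfl rfl (runMoves_of_mapP fix_checks.2.2.2.2.1)⟩

theorem eb_pow : eb ^ 11 = 1 := (acts_eb.pow 11).eq_of acts_one (sameB_of_sameP rel_checks.1)

theorem ec_sq : ec * ec = 1 := (acts_ec.mul acts_ec).eq_of acts_one (sameB_of_sameP rel_checks.2.1)

theorem ec_conj : ec * eb = eb⁻¹ * ec := by
  have h : ec * (eb * (ec * eb)) = 1 :=
    (((acts_eb.mul acts_ec).mul acts_eb).mul acts_ec).eq_of acts_one (sameB_of_sameP rel_checks.2.2.1)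
  have h2 : eb * (ec * eb) = ec := by
    have := congrArg (ec * ·) h
    simpa only [← mul_assoc, ec_sq, one_mul, mul_one] using this
  exact eq_inv_mul_iff_mul_eq.2 h2

theorem eb_conj : eb * ea * eb⁻¹ = ea ^ 12 :=
  mul_inv_eq_iff_eq_mul.2
    ((acts_ea.mul acts_eb).eq_of (acts_eb.mul (acts_ea.pow 12)) (sameB_of_sameP rel_checks.2.2.2.1))

theorem eb_ne : eb ≠ 1 := by
  intro h
  have h1 : ea ^ 1 = ea ^ 12 := by
    have h2 := eb_conj
    rw [h] at h2
    simpa using h2
  have h2 := pow_injOn_Iio_orderOf (x := ea)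
    (show (1 : ℕ) ∈ Set.Iio (orderOf ea) by rw [Set.mem_Iio, orderOf_ea]; norm_num)
    (show (12 : ℕ) ∈ Set.Iio (orderOf ea) by rw [Set.mem_Iio, orderOf_ea]; norm_num) h1
  omega

theorem orderOf_eb : orderOf eb = 11 :=
  have := Fact.mk (by norm_num : Nat.Prime 11)
  orderOf_eq_prime eb_pow eb_ne

/-! ### Short vectors fixed by the element of order 11 -/

/-- The pattern vectors of norm 32 in the lattice with the wanted inner products. -/
def patOK (x : GolayPt → ℤ) : Bool :=
  !(leechB x) ||
    ((!(decide (dotInt (vec vecU) x = -16)) || decide (x = vec vecQ) || decide (x = vec vecP)) &&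
      (!(decide (dotInt (vec vecU) x = -8)) || !(decide (dotInt (vec vecQ) x = 0)) ||
        decide (x = vec vecX)))

theorem pat_checks : ((List.range 11).all fun i => (List.range 11).all fun j =>
    (List.range 3).all fun k => (List.range 3).all fun l => !(pat32 i j k l) || patOK (patVec i j k l)) = true := by
  decide +kernel

theorem pat_cases {i j k l : ℕ} (hi : i < 11) (hj : j < 11) (hk : k < 3) (hl : l < 3)
    (hn : sqNorm (patVec i j k l) = 32) (hm : leechB (patVec i j k l) = true) :
    (dotInt (vec vecU) (patVec i j k l) = -16 →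
      patVec i j k l = vec vecQ ∨ patVec i j k l = vec vecP) ∧
    (dotInt (vec vecU) (patVec i j k l) = -8 → dotInt (vec vecQ) (patVec i j k l) = 0 →
      patVec i j k l = vec vecX) := by
  have h := pat_checks
  simp only [List.all_eq_true, List.mem_range] at h
  have h := h i hi j hj k hk l hl
  simp only [patOK, pat32_of_norm hn, hm, decide_true, Bool.not_true, Bool.false_or, Bool.and_eq_true,
    Bool.or_eq_true, Bool.not_eq_true', decide_eq_false_iff_not, decide_eq_true_eq] at h
  obtain ⟨h1, h2⟩ := h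
  refine ⟨fun e => ?_, fun e e' => ?_⟩
  · rcases h1 with (h1 | h1) | h1
    exacts [absurd e h1, Or.inl h1, Or.inr h1]
  · rcases h2 with (h2 | h2) | h2
    exacts [absurd e h2, absurd e' h2, h2]

theorem eb_perm : ∃ (σ : Equiv.Perm GolayPt) (hσ : σ ∈ M24),
    Rep enc σ tableB ∧ eb = permHom ⟨σ⁻¹, inv_mem hσ⟩ := by
  obtain ⟨σ, hσ, hs, hr, hact⟩ := monoMove_spec (t := tableB) (c := 0) (by decide +kernel)
  refine ⟨σ, hσ, hr, acts_eb.eq_of (n := movesB) (fun l hl => ?_) (by decide +kernel)⟩
  rw [show movesB = [Mv.mono tableB 0] from rfl, ← hact l hl, ← permHom_eq σ hσ,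
    monoCo0_congr (hτ' := hσ) (hc' := hs) rfl (setOf24_zero).symm]

theorem fixed_short {x : leechLattice} (hn : sqNorm (x : GolayPt → ℤ) = 32) (hfix : eb • x = x) :
    (dotInt (vec vecU) (x : GolayPt → ℤ) = -16 → x = bQ ∨ x = bP) ∧
      (dotInt (vec vecU) (x : GolayPt → ℤ) = -8 → dotInt (vec vecQ) (x : GolayPt → ℤ) = 0 →
        x = bX2) := by
  obtain ⟨σ, hσ, hr, he⟩ := eb_perm
  set f : GolayPt → ℤ := (x : GolayPt → ℤ) with hf
  have hinv : ∀ p, f (σ p) = f p := fun p => by
    have h1 := congrFun (congrArg Subtype.val hfix) p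
    rw [he, permHom_smul] at h1
    simpa using h1
  obtain ⟨i, j, k, l, hi, hj, hk, hl, hpat⟩ := exists_pat hr hinv hn
  have hmem : leechB f = true := leechB_iff.mpr x.2
  obtain ⟨c1, c2⟩ := pat_cases hi hj hk hl (hpat ▸ hn) (hpat ▸ hmem)
  rw [hpat]
  refine ⟨fun h => (c1 h).imp (fun e => Subtype.ext ?_) (fun e => Subtype.ext ?_),
    fun h h' => Subtype.ext ?_⟩
  · exact hpat.trans e
  · exact hpat.trans e
  · exact hpat.trans (c2 h h')

/-! ### The bottom and the centraliser -/

theorem bottom {g : Co0} (hU : g • bU = bU) (hQ : g • bQ = bQ) (hX : g • bX2 = bX2) :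
    ∃ τ ∈ perm22, g = permHom τ := by
  have hQX : bQ + bX2 = eightL none := Subtype.ext lattice_checks.2.2.2.2.2.2.2.2.2.2.1
  obtain ⟨τ, hτ, c, hc, rfl, hn, hnc⟩ :=
    eq_mono_of_fix (show g • eightL none = eightL none by rw [← hQX, co0_add, hQ, hX])
  have hu : ∀ p q : GolayPt, p ≠ none → vec vecU p ≠ -vec vecU q ∨ q = none := by decide +kernel
  have hu' : ∀ p : GolayPt, p ≠ none → vec vecU p ≠ -vec vecU none := by decide +kernel
  have hc0 : c = ∅ := Finset.eq_empty_of_forall_notMem fun p hp => by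
    have h1 := mono_fix_apply hU p
    rw [if_pos hp] at h1
    have hp' : p ≠ none := fun e => hnc (e ▸ hp)
    rcases hu p (τ p) hp' with h | h
    · exact h h1.symm
    · rw [h] at h1
      exact hu' p hp' h1.symm
  subst hc0
  have hq : ∀ p : GolayPt, vec vecQ p = vec vecQ (pt 0) → p = pt 0 := by decide +kernel
  have h0 : τ (pt 0) = pt 0 := hq _ (by
    have h1 := mono_fix_apply hQ (pt 0)
    rwa [if_neg (Finset.notMem_empty _)] at h1)
  exact ⟨⟨τ⁻¹, inv_mem hτ⟩, mem_perm22.2 ⟨inv_fix hn, inv_fix h0⟩, permHom_eq τ hτ⟩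

theorem fix_X {g : Co0} (hU : g • bU = bU) (hQ : g • bQ = bQ)
    (hfix : eb • (g • bX2) = g • bX2) : g • bX2 = bX2 := by
  refine (fixed_short (by rw [co0_norm]; exact lattice_checks.2.2.2.2.2.2.1) hfix).2 ?_ ?_
  · have e := co0_dot g bU bX2
    rw [hU] at e
    exact e.trans lattice_checks.2.2.2.2.2.2.2.2.1
  · have e := co0_dot g bQ bX2
    rw [hQ] at e
    exact e.trans lattice_checks.2.2.2.2.2.2.2.2.2.1

theorem eb_inv_fix {v : leechLattice} (h : eb • v = v) : eb⁻¹ • v = v := by
  rw [inv_smul_eq_iff, h]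

theorem fixQ_cases {g : Co0} (hU : g • bU = bU) (hQ : g • bQ = bQ) :
    (g * eb = eb * g → g ∈ Subgroup.zpowers eb) ∧ g * eb ≠ eb⁻¹ * g := by
  obtain ⟨σ, hσ, hr, he⟩ := eb_perm
  constructor
  · intro hc
    obtain ⟨τ, hτ, rfl⟩ := bottom hU hQ (fix_X hU hQ (by rw [← mul_smul, ← hc, mul_smul, eb_fix.2.1]))
    rw [he, ← map_mul, ← map_mul] at hc
    have hc1 : τ.1 * σ⁻¹ = σ⁻¹ * τ.1 := congrArg Subtype.val (permHom_injective hc)
    have hc2 : τ.1 * σ = σ ^ 1 * τ.1 := by
      rw [pow_one]
      have h2 := (show Commute τ.1 σ⁻¹ from hc1).inv_right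
      rw [inv_inv] at h2
      exact h2
    obtain ⟨t, ht, hrep⟩ := SporadicOut.search_sound (k := 1) hr hc2 τ.2 Co3OutData.powB [1, 8388608]
      (fun W hW => by
        simp only [List.mem_cons, List.not_mem_nil, or_false] at hW
        rcases hW with rfl | rfl
        · rw [show setOf24 1 = {pt 0} by decide +kernel, Finset.image_singleton,
            (mem_perm22.1 hτ).2]
          exact ⟨rfl, by norm_num⟩
        · rw [show setOf24 8388608 = {none} by decide +kernel, Finset.image_singleton,
            (mem_perm22.1 hτ).1]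
          exact ⟨rfl, by norm_num⟩)
      Co3OutData.levB [] (fun q hq => by simp at hq) search_checks.1 search_checks.2.1
    obtain ⟨i, hi, rfl⟩ := List.getElem_of_mem ht
    have hp := List.all_eq_true.1 search_checks.2.2.2 (Co3OutData.powB[i], i)
      (List.mem_zipIdx_iff_getElem?.2 (List.getElem?_eq_getElem hi))
    have hτi : τ.1 = σ ^ i := Equiv.ext fun p => by
      have h1 := allBelow_iff.1 hp (idx p) (idx_lt p)
      rw [beq_iff_eq, SporadicOut.iterApp_eq hr p i] at h1
      exact idx_injective ((hrep p).symm.trans h1)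
    refine Subgroup.mem_zpowers_iff.2 ⟨-(i : ℤ), ?_⟩
    rw [he, ← map_zpow]
    refine congrArg permHom (Subtype.ext ?_)
    rw [SubgroupClass.coe_zpow, hτi, zpow_neg, zpow_natCast, ← inv_pow]
    simp
  · intro hc
    obtain ⟨τ, hτ, rfl⟩ := bottom hU hQ (fix_X hU hQ (by
      have h2 : eb⁻¹ • (g • bX2) = g • bX2 := by
        rw [← mul_smul, ← hc, mul_smul, eb_fix.2.1]
      exact (inv_smul_eq_iff.1 h2).symm))
    rw [he, ← map_inv, ← map_mul, ← map_mul] at hc
    have hc1 : τ.1 * σ⁻¹ = σ * τ.1 := by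
      have h2 := congrArg Subtype.val (permHom_injective hc)
      simpa using h2
    have h11 : σ ^ 11 = 1 := by
      have h2 := eb_pow
      rw [he, ← map_pow, ← map_one permHom] at h2
      have h3 := congrArg Subtype.val (permHom_injective h2)
      simpa using h3
    have hc2 : τ.1 * σ = σ ^ 10 * τ.1 := by
      have h3 : σ ^ 10 = σ⁻¹ := eq_inv_of_mul_eq_one_left (by rw [← pow_succ, h11])
      rw [h3, eq_inv_mul_iff_mul_eq, ← mul_assoc, ← hc1]
      group
    obtain ⟨t, ht, -⟩ := SporadicOut.search_sound (k := 10) hr hc2 τ.2 [] [1, 8388608]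
      (fun W hW => by
        simp only [List.mem_cons, List.not_mem_nil, or_false] at hW
        rcases hW with rfl | rfl
        · rw [show setOf24 1 = {pt 0} by decide +kernel, Finset.image_singleton,
            (mem_perm22.1 hτ).2]
          exact ⟨rfl, by norm_num⟩
        · rw [show setOf24 8388608 = {none} by decide +kernel, Finset.image_singleton,
            (mem_perm22.1 hτ).1]
          exact ⟨rfl, by norm_num⟩)
      Co3OutData.levB [] (fun q hq => by simp at hq) search_checks.1 search_checks.2.2.1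
    simp at ht

theorem centraliser_eb {g : Co0} (hc : g * eb = eb * g) (hU : g • bU = bU) :
    g ∈ Subgroup.zpowers eb := by
  have hfix : eb • (g • bQ) = g • bQ := by rw [← mul_smul, ← hc, mul_smul, eb_fix.1]
  have hd : dotInt (vec vecU) ((g • bQ : leechLattice) : GolayPt → ℤ) = -16 := by
    have e := co0_dot g bU bQ
    rw [hU] at e
    exact e.trans lattice_checks.2.2.2.2.2.2.2.1
  rcases (fixed_short (by rw [co0_norm]; exact lattice_checks.2.2.2.2.2.1) hfix).1 hd with h | h
  · exact (fixQ_cases hU h).1 hc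
  · exfalso
    refine (fixQ_cases (g := ec * g) (by rw [mul_smul, hU, fixes_U.2.2])
      (by rw [mul_smul, h, eb_fix.2.2])).2 ?_
    rw [mul_assoc, hc, ← mul_assoc, ec_conj, mul_assoc]

/-! ### Generation -/

theorem le_generated {N : Subgroup Co0} (hle : N ≤ MulAction.stabilizer Co0 bU) (ha : ea ∈ N)
    (hb : eb ∈ N) (hc : ec ∈ N) : MulAction.stabilizer Co0 bU ≤ N := by
  have := co0_finite
  obtain ⟨-, -, -, -, -, hA, hB, hok⟩ := rel_checks
  have hok' := List.all_eq_true.1 hok
  have hLet : GensIn N letters := by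
    intro ms hms
    refine ⟨hok' ms hms, ?_⟩
    simp only [letters, List.mem_cons, List.not_mem_nil, or_false] at hms
    rcases hms with rfl | rfl | rfl | rfl | rfl
    · exact ⟨ea, ha, acts_ea⟩
    · exact ⟨eb, hb, acts_eb⟩
    · exact ⟨ec, hc, acts_ec⟩
    · refine ⟨ea ^ 22, pow_mem ha 22, ?_⟩
      have hm := acts_mvEl (hok' (letters.getD 3 []) (by simp [letters]))
      rw [(acts_ea.pow 22).eq_of hm (sameB_of_sameP hA)]
      exact hm
    · refine ⟨eb ^ 10, pow_mem hb 10, ?_⟩
      have hm := acts_mvEl (hok' (letters.getD 4 []) (by simp [letters]))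
      rw [(acts_eb.pow 10).eq_of hm (sameB_of_sameP hB)]
      exact hm
  obtain ⟨⟨l1, l2, l3⟩, t1, t2, t3, hfix, hch⟩ := word_checks
  have hperm : ∀ τ ∈ perm22, permHom τ ∈ N :=
    perm22_le_of_slp hLet permWords permTables permSteps permTrees l3.symm t3 hch
  set S := N ⊓ MulAction.stabilizer Co0 bQ with hS
  have o1 : 3747 ≤ (orb N bQ).ncard := by
    refine le_ncard_orb top_tree (fun ms hms => ?_) bQ rfl
    rcases List.mem_append.1 hms with h | h
    · exact gensIn_tables hLet topWords topTables l1.symm t1 ms h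
    · rw [List.mem_singleton.1 h]
      exact ⟨ok_moves.2.2, ec, hc, acts_ec⟩
  have o2 : 1539 ≤ (orb S bX2).ncard := by
    refine le_ncard_orb mid_tree (fun ms hms => ?_) bX2 rfl
    obtain ⟨hok2, g, hgN, hgA⟩ : ms.all Mv.ok = true ∧ ∃ g ∈ N, Acts g ms := by
      rcases List.mem_append.1 hms with h | h
      · exact gensIn_tables hLet midWords midTables l2.symm t2 ms h
      · rw [List.mem_singleton.1 h]
        exact gensIn_word hLet midWord
    exact ⟨hok2, g, ⟨hgN, smul_eq_of_vec (l := vecQ) rfl hgA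
      (runMoves_of_mapP (List.all_eq_true.1 hfix ms hms))⟩, hgA⟩
  have o3 : 443520 ≤ Nat.card ↥(S ⊓ MulAction.stabilizer Co0 bX2) := by
    rw [← card_perm22]
    have hfx : ∀ τ ∈ perm22, permHom τ • bQ = bQ ∧ permHom τ • bX2 = bX2 := fun τ hτ =>
      ⟨perm22_fix hτ (by decide +kernel : ∀ p, p ≠ none → p ≠ pt 0 → vec vecQ p = vec vecQ (pt 1)),
        perm22_fix hτ (by decide +kernel : ∀ p, p ≠ none → p ≠ pt 0 → vec vecX p = vec vecX (pt 1))⟩
    refine Nat.card_le_card_of_injective
      (fun τ : perm22 => (⟨permHom τ.1, ⟨hperm τ.1 τ.2, (hfx τ.1 τ.2).1⟩, (hfx τ.1 τ.2).2⟩ :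
        ↥(S ⊓ MulAction.stabilizer Co0 bX2))) fun x y h => ?_
    exact Subtype.ext (permHom_injective (congrArg Subtype.val h))
  have hN : 42305421312000 < 23 * Nat.card N := by
    rw [card_eq_orb_mul N bQ, card_eq_orb_mul S bX2]
    calc 42305421312000 < 23 * (3747 * (1539 * 443520)) := by norm_num
      _ ≤ _ := Nat.mul_le_mul le_rfl (Nat.mul_le_mul o1 (Nat.mul_le_mul o2 o3))
  have hcard := card_stab_norm32 (v := bU) lattice_checks.2.2.2.2.1
  refine le_of_index_lt_prime ?_ hle (by norm_num : Nat.Prime 23) (by rw [hcard]; norm_num)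
    (by rw [hcard]; exact hN)
  obtain ⟨g, hg⟩ := transitive_norm32 bU bA lattice_checks.2.2.2.2.1 base_facts.2.1.2
  exact (stabEquiv hg).isSimpleGroup_congr.2 co2_simple

theorem rel_one : (ea ^ 5 * (eb ^ 3 * (ec * (ea * (eb * ec))))) ^ 9 = 1 :=
  (((((((acts_ec.mul acts_eb).mul acts_ea).mul acts_ec).mul (acts_eb.pow 3))).mul
    (acts_ea.pow 5)).pow 9).eq_of acts_one (sameB_of_sameP rel_checks.2.2.2.2.1)

theorem rel_ne {i : ℕ} {g : Co0} {ma : List Mv}
    (hg : Acts g ma)
    (hm : movesSome (relMoves ma ((List.replicate i movesB).flatten ++ movesC)) = true) :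
    (g ^ 5 * (eb ^ 3 * ((ec * eb ^ i) * (g * (eb * (ec * eb ^ i)))))) ^ 9 ≠ 1 :=
  have hc := (acts_eb.pow i).mul acts_ec
  (((((((hc.mul acts_eb).mul hg).mul hc).mul (acts_eb.pow 3))).mul (hg.pow 5)).pow 9).ne_one hm

theorem acts_ea_inv : Acts ea⁻¹ (letters.getD 3 []) := by
  obtain ⟨-, -, -, -, -, hA, -, hok⟩ := rel_checks
  have hm := acts_mvEl (List.all_eq_true.1 hok (letters.getD 3 []) (by simp [letters]))
  have e : ea⁻¹ = ea ^ 22 := inv_eq_of_mul_eq_one_right (by
    rw [← pow_succ']; exact orderOf_dvd_iff_pow_eq_one.1 (by rw [orderOf_ea]))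
  rw [e, (acts_ea.pow 22).eq_of hm (sameB_of_sameP hA)]
  exact hm

theorem out_stab : Nat.card (Cfsg.Out ↥(MulAction.stabilizer Co0 bU)) = 1 := by
  have := co0_finite
  set G := MulAction.stabilizer Co0 bU
  let a : G := ⟨ea, fixes_U.1⟩
  let b : G := ⟨eb, fixes_U.2.1⟩
  let c : G := ⟨ec, fixes_U.2.2⟩
  have hcard : Nat.card G = 42305421312000 := card_stab_norm32 lattice_checks.2.2.2.2.1
  refine out_one_of_triple (a := a) (b := b) ?_ (Subtype.ext eb_conj) (by rw [hcard]; norm_num) ?_ c
    ?_ ?_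
  · rw [← Subgroup.orderOf_coe]; exact orderOf_ea
  · rintro ⟨y, hy⟩ hc
    refine Subtype.ext ((commute_pi23_cases y
      (ea_eq ▸ congrArg Subtype.val hc)).resolve_right fun h => ?_)
    have h1 : (y ^ 23) • bU = bU := pow_mem hy 23
    rw [h] at h1
    have h2 := congrFun (congrArg Subtype.val h1) none
    rw [negCo0_smul] at h2
    have h3 : vec vecU none ≠ -vec vecU none := by decide +kernel
    exact h3 h2.symm
  · refine Subgroup.map_injective G.subtype_injective ?_
    rw [← MonoidHom.range_eq_map, Subgroup.range_subtype, MonoidHom.map_closure]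
    have hs : G.subtype '' {a, b, c} = {ea, eb, ec} := by
      simp only [Set.image_insert_eq, Set.image_singleton]; rfl
    rw [hs]
    have hle : Subgroup.closure {ea, eb, ec} ≤ G := by
      refine (Subgroup.closure_le _).2 fun x hx => ?_
      rcases hx with rfl | rfl | rfl
      exacts [fixes_U.1, fixes_U.2.1, fixes_U.2.2]
    exact le_antisymm hle (le_generated hle (Subgroup.subset_closure (by simp))
      (Subgroup.subset_closure (by simp)) (Subgroup.subset_closure (by simp)))
  · intro ψ hψb hψa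
    have hcc : c * c = 1 := Subtype.ext ec_sq
    have hcb : c * b = b⁻¹ * c := Subtype.ext ec_conj
    have hψc : ψ c * b = b⁻¹ * ψ c := by
      have := congrArg ψ hcb
      rwa [map_mul, map_mul, map_inv, hψb] at this
    have hbc : c * b⁻¹ = b * c := by
      have h : b * (c * b) = c := by rw [hcb, mul_inv_cancel_left]
      have h' := congrArg (· * b⁻¹) h
      simp only [mul_assoc, mul_inv_cancel, mul_one] at h'
      exact h'.symm
    have hcomm : (c * ψ c) * b = b * (c * ψ c) := by
      rw [mul_assoc, hψc, ← mul_assoc, hbc, mul_assoc]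
    obtain ⟨n, hn⟩ := Subgroup.mem_zpowers_iff.1
      (centraliser_eb (congrArg Subtype.val hcomm) (c * ψ c).2)
    obtain ⟨i, hi, hib⟩ : ∃ i < 11, c * ψ c = b ^ i := by
      refine ⟨(n % 11).toNat, by omega, Subtype.ext ?_⟩
      show _ = eb ^ (n % 11).toNat
      rw [← zpow_natCast, Int.toNat_of_nonneg (Int.emod_nonneg _ (by norm_num)),
        show (11 : ℤ) = ((orderOf eb : ℕ) : ℤ) by rw [orderOf_eb]; rfl, zpow_mod_orderOf]
      exact hn.symm
    have hψc' : ψ c = c * b ^ i := by rw [← hib, ← mul_assoc, hcc, one_mul]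
    have hrel : (a ^ 5 * (b ^ 3 * (c * (a * (b * c))))) ^ 9 = 1 := Subtype.ext rel_one
    have h1 := congrArg ψ hrel
    simp only [map_pow, map_mul, hψb, hψc', map_one] at h1
    have h2 := congrArg Subtype.val h1
    rcases hψa with h | h
    · refine ⟨h, ?_⟩
      rw [h] at h2
      by_cases hi0 : i = 0
      · rw [hψc', hi0, pow_zero, mul_one]
      · have h3 := List.all_eq_true.1 rel_others.1 i (List.mem_range.2 hi)
        rw [beq_eq_false_iff_ne.2 hi0, Bool.false_or] at h3
        exact absurd h2 (rel_ne acts_ea h3)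
    · rw [h] at h2
      exact absurd h2 (rel_ne acts_ea_inv
        (List.all_eq_true.1 rel_others.2 i (List.mem_range.2 hi)))

end Co2Out

end CfsgLib.Leech
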