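import Cfsg.Agent.Leech.Co3OutChecks

/-!
Relations between the three elements, for the stabiliser of a vector of norm 48.
-/

set_option autoImplicit false
set_option maxRecDepth 100000

namespace CfsgLib.Leech

open Cfsg CfsgLib.Mathieu TreeData

namespace Co3Out

open Co3OutData

theorem rel_checks :
    sameP (List.replicate 11 movesB).flatten [] = true ∧
    sameP (movesZ ++ movesZ) [] = true ∧
    sameP (movesB ++ movesZ) (movesZ ++ movesB) = true ∧
    sameP (movesA ++ movesB) (movesB ++ (List.replicate 12 movesA).flatten) = true ∧
    sameP (relMoves movesA) [] = true ∧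
    (relMoves (letters.getD 0 [])).all Mv.ok = true ∧ packable co3mRoot = true ∧
    Nat.beq ((relMoves (letters.getD 0 [])).foldl pact (penc co3mRoot)) (penc co3mRoot) = false ∧
    vec otherM ≠ vec co3mRoot ∧
    sameP (List.replicate 22 movesA).flatten (letters.getD 0 []) = true ∧
    sameP (List.replicate 10 movesB).flatten (letters.getD 4 []) = true ∧
    letters.all (fun l => l.all Mv.ok) = true := by
  decide +kernel

end Co3Out

end CfsgLib.Leech
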