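import Cfsg.Agent.Leech.Co3OutChecks

/-!
Enough points in two orbits, for the stabiliser of a vector of norm 48.
-/

set_option autoImplicit false
set_option maxRecDepth 100000

namespace CfsgLib.Leech

open Cfsg CfsgLib.Mathieu TreeData

namespace Co3Out

open Co3OutData

theorem gen_trees :
    treeOK [] topGens co3mRoot topLvls 1300 = true ∧
    treeOK [] (hsWords.map (wordMoves letters)) hsRoot Co3OutData.hsLvls 100 = true := by
  decide +kernel

end Co3Out

end CfsgLib.Leech
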