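import Cfsg.Agent.Leech.Co3OutChecks

/-!
Words giving the permutations, for the stabiliser of a vector of norm 48.
-/

set_option autoImplicit false
set_option maxRecDepth 100000

namespace CfsgLib.Leech

open Cfsg CfsgLib.Mathieu TreeData

namespace Co3Out

open Co3OutData

theorem word_checks :
    topWords.length = topTables.length ∧
    ((topWords.zip topTables).all fun e =>
      (Mv.mono e.2 0).ok && sameP (wordMoves letters e.1) [Mv.mono e.2 0]) = true ∧
    permTables.length = permWords.length ∧
    ((permWords.zip permTables).all fun e =>
      (Mv.mono e.2 0).ok && sameP (wordMoves letters e.1) [Mv.mono e.2 0]) = true ∧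
    (hsWords.all fun w =>
      mapP (wordMoves letters w) co3vFix[0] co3vFix[0] &&
        mapP (wordMoves letters w) co3mRoot co3mRoot) = true ∧
    reachChainOK (slp 24 permTables permSteps) (m24Levels.drop 2) [pt 23, pt 0] permTrees = true := by
  decide +kernel

end Co3Out

end CfsgLib.Leech
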