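import Cfsg.Agent.Leech.Co3OutChecks
import Cfsg.Agent.Leech.Co3OutRel
import Cfsg.Agent.Leech.Co3OutWords
import Cfsg.Agent.Leech.Co3OutTrees

/-!
A rigid generating triple of the stabiliser of a vector of norm 48: an element of order 23, an
element of order 11 normalising it, and the involution centralising the latter.
-/

set_option autoImplicit false
set_option maxRecDepth 100000

namespace CfsgLib.Leech

open Cfsg CfsgLib.Mathieu TreeData

namespace Co3Out

open Co3OutData

/-- The element of order 11. -/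
noncomputable def eb : Co0 := mvEl movesB
/-- The involution. -/
noncomputable def ez : Co0 := mvEl movesZ

theorem acts_eb : Acts eb movesB := acts_mvEl ok_moves.1
theorem acts_ez : Acts ez movesZ := acts_mvEl ok_moves.2

theorem eb_fix : eb • bD = bD ∧ eb • bM = bM ∧ eb • bA = bA :=
  ⟨smul_eq_of_vec (l := co3vFix[0]) rfl acts_eb (runMoves_of_mapP fix_checks.2.1),
    smul_eq_of_vec (l := co3mRoot) rfl acts_eb (runMoves_of_mapP fix_checks.2.2.2.1),
    smul_eq_of_vec (l := co2Fix[0]) rfl acts_eb (runMoves_of_mapP fix_checks.2.2.2.2.2)⟩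

/-- The other fixed point of `eb` among the 11178. -/
def bM2 : leechLattice := ⟨vec otherM, leechB_iff.mp fix_checks.1⟩

theorem ez_fix : ez • bD = bD ∧ ez • bM = bM2 :=
  ⟨smul_eq_of_vec (l := co3vFix[0]) rfl acts_ez (runMoves_of_mapP fix_checks.2.2.1),
    acts_ez.smul_eq (l := co3mRoot) (l' := otherM) rfl rfl (runMoves_of_mapP fix_checks.2.2.2.2.1)⟩

theorem pi23_fix : pi23 • bD = bD := perm23_fix (mem_perm23.2 rfl) base_const.2.1

theorem eb_pow : eb ^ 11 = 1 :=
  (acts_eb.pow 11).eq_of acts_one (sameB_of_sameP rel_checks.1)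

theorem ez_sq : ez * ez = 1 := (acts_ez.mul acts_ez).eq_of acts_one (sameB_of_sameP rel_checks.2.1)

theorem ez_comm : ez * eb = eb * ez :=
  (acts_eb.mul acts_ez).eq_of (acts_ez.mul acts_eb) (sameB_of_sameP rel_checks.2.2.1)

theorem eb_conj : eb * pi23 * eb⁻¹ = pi23 ^ 12 :=
  mul_inv_eq_iff_eq_mul.2 ((acts_pi23.mul acts_eb).eq_of (acts_eb.mul (acts_pi23.pow 12)) (sameB_of_sameP rel_checks.2.2.2.1))

theorem eb_ne : eb ≠ 1 := by
  intro h
  have h1 : pi23 ^ 1 = pi23 ^ 12 := by
    have h2 := eb_conj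
    rw [h] at h2
    simpa using h2
  have h2 := pow_injOn_Iio_orderOf (x := pi23)
    (show (1 : ℕ) ∈ Set.Iio (orderOf pi23) by rw [Set.mem_Iio, orderOf_pi23]; norm_num)
    (show (12 : ℕ) ∈ Set.Iio (orderOf pi23) by rw [Set.mem_Iio, orderOf_pi23]; norm_num) h1
  omega

theorem orderOf_eb : orderOf eb = 11 :=
  have := Fact.mk (by norm_num : Nat.Prime 11)
  orderOf_eq_prime eb_pow eb_ne

theorem ez_inv : ez⁻¹ = ez := inv_eq_of_mul_eq_one_right ez_sq

theorem ez_ne : ez ≠ 1 := by
  intro h
  have h1 := ez_fix.2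
  rw [h, one_smul] at h1
  exact rel_checks.2.2.2.2.2.2.2.2.1 (congrArg Subtype.val h1).symm

theorem centraliser_bottom {g : Co0} (hc : g * eb = eb * g) (hD : g • bD = bD) (hM : g • bM = bM)
    (hA : g • bA = bA) : g ∈ Subgroup.zpowers eb := by
  obtain ⟨τ, hτ, rfl⟩ := perm22_of_fix hD hM hA
  obtain ⟨σ, hσ, hs, hr, hact⟩ := monoMove_spec (t := tableB) (c := 0) (by decide +kernel)
  have he : eb = permHom ⟨σ⁻¹, inv_mem hσ⟩ := by
    refine acts_eb.eq_of (n := movesB) (fun l hl => ?_) (by decide +kernel)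
    rw [show movesB = [Mv.mono tableB 0] from rfl, ← hact l hl, ← permHom_eq σ hσ,
      monoCo0_congr (hτ' := hσ) (hc' := hs) rfl (setOf24_zero).symm]
  rw [he, ← map_mul, ← map_mul] at hc
  have hc1 : τ.1 * σ⁻¹ = σ⁻¹ * τ.1 := congrArg Subtype.val (permHom_injective hc)
  have hc2 : τ.1 * σ = σ ^ 1 * τ.1 := by
    rw [pow_one]
    have h : Commute τ.1 σ⁻¹ := hc1
    have h2 := h.inv_right
    rw [inv_inv] at h2
    exact h2
  obtain ⟨t, ht, hrep⟩ := SporadicOut.search_sound (k := 1) hr hc2 τ.2 powB [1, 8388608]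
    (fun W hW => by
      simp only [List.mem_cons, List.not_mem_nil, or_false] at hW
      rcases hW with rfl | rfl
      · rw [show setOf24 1 = {pt 0} by decide +kernel, Finset.image_singleton,
          (mem_perm22.1 hτ).2]
        exact ⟨rfl, by norm_num⟩
      · rw [show setOf24 8388608 = {none} by decide +kernel, Finset.image_singleton,
          (mem_perm22.1 hτ).1]
        exact ⟨rfl, by norm_num⟩)
    levB [] (fun q hq => by simp at hq) search_checks.1 search_checks.2.1
  obtain ⟨i, hi, rfl⟩ := List.getElem_of_mem ht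
  have hp := List.all_eq_true.1 search_checks.2.2 (powB[i], i)
    (List.mem_zipIdx_iff_getElem?.2 (List.getElem?_eq_getElem hi))
  have hτi : τ.1 = σ ^ i := Equiv.ext fun p => by
    have h1 := allBelow_iff.1 hp (idx p) (idx_lt p)
    rw [beq_iff_eq, SporadicOut.iterApp_eq hr p i] at h1
    exact idx_injective ((hrep p).symm.trans h1)
  refine Subgroup.mem_zpowers_iff.2 ⟨-(i : ℤ), ?_⟩
  rw [he, ← map_zpow]
  refine congrArg permHom (Subtype.ext ?_)
  rw [SubgroupClass.coe_zpow, hτi, zpow_neg, zpow_natCast, ← inv_pow]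
  simp

theorem centraliser_fixM {g : Co0} (hc : g * eb = eb * g) (hD : g • bD = bD) (hM : g • bM = bM) :
    g ∈ Subgroup.zpowers eb := by
  have hW : g • bW = bW := by
    have h1 := hM
    rw [← bD_add_bW, co0_add, hD] at h1
    exact add_left_cancel h1
  have hmem : ((g • bA : leechLattice) : GolayPt → ℤ) ∈ set100 := by
    refine ⟨⟨(g • bA).2, by rw [co0_norm]; exact base_facts.2.1.2, ?_⟩, ?_⟩
    · have e := co0_dot g bD bA
      rw [hD] at e
      exact e.trans base_facts.2.2.2.2.2.1
    · have e := co0_dot g bW bA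
      rw [hW] at e
      exact e.trans base_facts.2.2.2.2.2.2.2.2.2.2.1
  obtain ⟨c, hc', hcx⟩ := fixed_mem_list hs_tree set100_finite ncard_set100.le sub100 acts_eb
    [852206658587909773353650494292640276] fixed_A hmem
    (by rw [← mul_smul, ← hc, mul_smul, eb_fix.2.2])
  rw [List.mem_singleton.1 hc', codes] at hcx
  exact centraliser_bottom hc hD hM (Subtype.ext hcx)

theorem centraliser_eb {g : Co0} (hc : g * eb = eb * g) (hD : g • bD = bD) :
    g ∈ Subgroup.zpowers eb ∨ ez * g ∈ Subgroup.zpowers eb := by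
  have hmem : ((g • bM : leechLattice) : GolayPt → ℤ) ∈ dotSet baseD 16 := by
    refine ⟨(g • bM).2, by rw [co0_norm]; exact base_facts.2.2.2.2.1.2, ?_⟩
    have e := co0_dot g bD bM
    rw [hD] at e
    exact e.trans base_facts.2.2.2.2.2.2.2.2.2.1
  obtain ⟨σ, hσ, hs, hr, hact⟩ := monoMove_spec (t := tableB11) (c := 0) (by decide +kernel)
  have he : eb = permHom ⟨σ⁻¹, inv_mem hσ⟩ := by
    refine acts_eb.eq_of (n := movesB) (fun l hl => ?_) (by decide +kernel)
    rw [show movesB = [Mv.mono tableB11 0] from rfl, ← hact l hl, ← permHom_eq σ hσ,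
      monoCo0_congr (hτ' := hσ) (hc' := hs) rfl (setOf24_zero).symm]
  have hfix : eb • (g • bM) = g • bM := by rw [← mul_smul, ← hc, mul_smul, eb_fix.2.1]
  have hinv : ∀ p, ((g • bM : leechLattice) : GolayPt → ℤ) (σ p) =
      ((g • bM : leechLattice) : GolayPt → ℤ) p := fun p => by
    have h1 := congrFun (congrArg Subtype.val hfix) p
    rw [he, permHom_smul] at h1
    simpa using h1
  obtain ⟨i, j, k, l, hi, hj, hk, hl, hpat⟩ := exists_pat hr hinv hmem.2.1
  have h := pat_checks
  simp only [List.all_eq_true, List.mem_range] at h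
  have h := h i hi j hj k hk l hl
  simp only [patOK, pat32_of_norm (hpat ▸ hmem.2.1), ← hpat, hmem.2.2, leechB_iff.mpr (g • bM).2, decide_true,
    Bool.not_true, Bool.false_or, Bool.or_eq_true, decide_eq_true_eq] at h
  rcases h with hcx | hcx
  · exact Or.inl (centraliser_fixM hc hD (Subtype.ext hcx))
  · have h2 : g • bM = ez • bM := (Subtype.ext hcx : g • bM = bM2).trans ez_fix.2.symm
    refine Or.inr (centraliser_fixM ?_ (by rw [mul_smul, hD, ez_fix.1]) ?_)
    · rw [mul_assoc, hc, ← mul_assoc, ez_comm, mul_assoc]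
    · rw [mul_smul, h2, ← mul_smul, ez_sq, one_smul]

theorem le_generated {N : Subgroup Co0} (hle : N ≤ MulAction.stabilizer Co0 bD) (ha : pi23 ∈ N)
    (hb : eb ∈ N) (hz : ez ∈ N) : MulAction.stabilizer Co0 bD ≤ N := by
  obtain ⟨-, -, -, -, -, -, -, -, -, hL0, hL4, hok⟩ := rel_checks
  have hok' := List.all_eq_true.1 hok
  have hLet : GensIn N letters := by
    intro ms hms
    refine ⟨hok' ms hms, ?_⟩
    rcases List.mem_cons.1 hms with rfl | hms
    · exact ⟨mvEl _, by
        rw [← (acts_pi23.pow 22).eq_of (acts_mvEl (hok' _ List.mem_cons_self)) (sameB_of_sameP hL0)]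
        exact pow_mem ha 22, acts_mvEl (hok' _ List.mem_cons_self)⟩
    simp only [List.mem_cons, List.not_mem_nil, or_false] at hms
    rcases hms with rfl | rfl | rfl | rfl
    · exact ⟨eb, hb, acts_eb⟩
    · exact ⟨ez, hz, acts_ez⟩
    · exact ⟨pi23, ha, acts_pi23⟩
    · refine ⟨eb ^ 10, pow_mem hb 10, ?_⟩
      have hm := acts_mvEl (hok' (letters.getD 4 []) (by simp [letters]))
      rw [(acts_eb.pow 10).eq_of hm (sameB_of_sameP hL4)]
      exact hm
  obtain ⟨hlen, htab, hlen', htab', hhs, hch⟩ := word_checks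
  have hperm : ∀ τ ∈ perm22, permHom τ ∈ N :=
    perm22_le_of_slp hLet permWords permTables permSteps permTrees hlen' htab' hch
  have hst : MulAction.stabilizer Co0 bD ⊓ MulAction.stabilizer Co0 bM ≤ N := by
    set hs := MulAction.stabilizer Co0 bD ⊓ MulAction.stabilizer Co0 bW with hhsdef
    have h1 : MulAction.stabilizer Co0 bD ⊓ MulAction.stabilizer Co0 bM ≤ hs := by
      rintro g ⟨gD, gM⟩
      refine ⟨gD, ?_⟩
      have h1 : g • bM = bM := gM
      rw [← bD_add_bW, co0_add, show g • bD = bD from gD] at h1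
      exact add_left_cancel h1
    refine h1.trans (le_trans ?_ (inf_le_left : N ⊓ hs ≤ N))
    refine le_of_orb inf_le_right bA ?_ ?_
    · have hg : GensIn (N ⊓ hs) (hsWords.map (wordMoves letters)) := by
        intro ms hms
        obtain ⟨w, hw, rfl⟩ := List.mem_map.1 hms
        obtain ⟨hokw, g, hgN, hgA⟩ := gensIn_word hLet w
        have h2 := List.all_eq_true.1 hhs w hw
        rw [Bool.and_eq_true] at h2
        have gD : g • bD = bD :=
          smul_eq_of_vec (l := co3vFix[0]) rfl hgA (runMoves_of_mapP h2.1)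
        have gM : g • bM = bM :=
          smul_eq_of_vec (l := co3mRoot) rfl hgA (runMoves_of_mapP h2.2)
        exact ⟨hokw, g, ⟨hgN, h1 ⟨gD, gM⟩⟩, hgA⟩
      exact ncard_orb_100.trans (le_ncard_orb gen_trees.2 hg bA (funext (by decide +kernel)))
    · rintro g ⟨⟨gD, gW⟩, gA⟩
      obtain ⟨τ, hτ, rfl⟩ := perm22_of_fix gD
        (by rw [← bD_add_bW, co0_add, show g • bD = bD from gD, show g • bW = bW from gW]) gA
      exact ⟨hperm τ hτ, gD, gW⟩
  have o1 : 1300 ≤ (orb N bM).ncard := by
    have hg : GensIn N topGens := by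
      intro ms hms
      rcases List.mem_append.1 hms with hms | hms
      · obtain ⟨t, ht, rfl⟩ := List.mem_map.1 hms
        obtain ⟨i, hi, rfl⟩ := List.getElem_of_mem ht
        have hi' : i < (topWords.zip topTables).length := by
          rw [List.length_zip, hlen, min_self]; exact hi
        have h1 := List.all_eq_true.1 htab _ (List.getElem_mem hi')
        rw [List.getElem_zip, Bool.and_eq_true] at h1
        dsimp only at h1
        obtain ⟨-, g, hgN, hgA⟩ := gensIn_word hLet topWords[i]
        refine ⟨by simp [h1.1], g, hgN, ?_⟩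
        have hm := acts_mvEl (ms := [Mv.mono topTables[i] 0])
          (List.all_eq_true.2 fun x hx => by rw [List.mem_singleton.1 hx]; exact h1.1)
        rw [hgA.eq_of hm (sameB_of_sameP h1.2)]
        exact hm
      · rw [List.mem_singleton.1 hms]
        exact ⟨ok_moves.2, ez, hz, acts_ez⟩
    exact le_ncard_orb gen_trees.1 hg bM (funext (by decide +kernel))
  have o2 : (orb (MulAction.stabilizer Co0 bD) bM).ncard ≤ 11178 := by
    rw [← ncard_dotSet_D16, ← Set.ncard_image_of_injective _ Subtype.val_injective]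
    refine Set.ncard_le_ncard ?_ (dotSet_finite _ _)
    rintro x ⟨y, ⟨g, gD, rfl⟩, rfl⟩
    refine ⟨(g • bM).2, by rw [co0_norm]; exact base_facts.2.2.2.2.1.2, ?_⟩
    have e := co0_dot g bD bM
    rw [show g • bD = bD from gD] at e
    exact e.trans base_facts.2.2.2.2.2.2.2.2.2.1
  have hcard := card_stab_norm48 (v := bD) base_facts.1.2
  refine le_of_index_lt_prime co3_simple hle (by norm_num : Nat.Prime 23)
    (by rw [hcard]; norm_num) ?_
  have he : MulAction.stabilizer Co0 bD ⊓ MulAction.stabilizer Co0 bM =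
      N ⊓ MulAction.stabilizer Co0 bM :=
    le_antisymm (le_inf hst inf_le_right) (inf_le_inf_right _ hle)
  have := co0_finite
  have hpos : 0 < Nat.card ↥(N ⊓ MulAction.stabilizer Co0 bM) := Nat.card_pos
  rw [card_eq_orb_mul (MulAction.stabilizer Co0 bD) bM, card_eq_orb_mul N bM, he, ← mul_assoc]
  exact Nat.mul_lt_mul_of_pos_right (by omega) hpos

theorem rel_one : (ez * eb ^ 3 * pi23) ^ 11 = 1 :=
  (((acts_pi23.mul (acts_eb.pow 3)).mul acts_ez).pow 11).eq_of acts_one
    (sameB_of_sameP rel_checks.2.2.2.2.1)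

theorem rel_ne : (ez * eb ^ 3 * pi23⁻¹) ^ 11 ≠ 1 := by
  intro h
  obtain ⟨-, -, -, -, -, hok, hp, hne, -, hL0, -, hokL⟩ := rel_checks
  have hok0 := List.all_eq_true.1 hokL (letters.getD 0 []) (by simp [letters])
  have hi : pi23⁻¹ = mvEl (letters.getD 0 []) := by
    rw [← (acts_pi23.pow 22).eq_of (acts_mvEl hok0) (sameB_of_sameP hL0)]
    exact inv_eq_of_mul_eq_one_right (by
      rw [← pow_succ']; exact orderOf_dvd_iff_pow_eq_one.1 (by rw [orderOf_pi23]))
  have hA : Acts ((ez * eb ^ 3 * pi23⁻¹) ^ 11) (relMoves (letters.getD 0 [])) := by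
    rw [hi]
    exact (((acts_mvEl hok0).mul (acts_eb.pow 3)).mul acts_ez).pow 11
  rw [h] at hA
  have hM : vec co3mRoot ∈ leechLattice := bM.2
  have h1 := hA co3mRoot hM
  rw [one_smul, runMoves_eq_pact hok hp] at h1
  have h2 : dec (penc co3mRoot) = dec ((relMoves (letters.getD 0 [])).foldl pact (penc co3mRoot)) := by
    have h3 : dec (penc co3mRoot) = co3mRoot := by decide +kernel
    rw [h3, ← toList_vec (dec_length _), ← h1]
    exact (toList_vec rfl).symm
  have h4 := (prun_spec _ hok (penc co3mRoot) (by rw [show dec (penc co3mRoot) = co3mRoot by decide +kernel]; exact hM)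
    (by decide +kernel) (by decide +kernel)).2
  rw [← h2] at h4
  rw [show penc (dec (penc co3mRoot)) = penc co3mRoot by decide +kernel] at h4
  rw [← h4] at hne
  exact absurd hne (by simp)

theorem out_stab : Nat.card (Cfsg.Out ↥(MulAction.stabilizer Co0 bD)) = 1 := by
  have := co0_finite
  set G := MulAction.stabilizer Co0 bD
  let a : G := ⟨pi23, pi23_fix⟩
  let b : G := ⟨eb, eb_fix.1⟩
  let z : G := ⟨ez, ez_fix.1⟩
  have hcard : Nat.card G = 495766656000 := card_stab_norm48 base_facts.1.2
  have hb11 : b ^ 11 = 1 := Subtype.ext eb_pow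
  refine out_one_of_triple (a := a) (b := b) ?_ (Subtype.ext eb_conj) (by rw [hcard]; norm_num) ?_ z
    ?_ ?_
  · rw [← Subgroup.orderOf_coe]; exact orderOf_pi23
  · rintro ⟨y, hy⟩ hc
    refine Subtype.ext ((commute_pi23_cases y (congrArg Subtype.val hc)).resolve_right fun h => ?_)
    have h1 : (y ^ 23) • bD = bD := pow_mem hy 23
    rw [h] at h1
    have h2 := congrFun (congrArg Subtype.val h1) none
    rw [negCo0_smul] at h2
    have h3 : baseD none ≠ -baseD none := by decide +kernel
    exact h3 h2.symm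
  · refine Subgroup.map_injective G.subtype_injective ?_
    rw [← MonoidHom.range_eq_map, Subgroup.range_subtype, MonoidHom.map_closure]
    have hs : G.subtype '' {a, b, z} = {pi23, eb, ez} := by
      simp only [Set.image_insert_eq, Set.image_singleton]; rfl
    rw [hs]
    refine le_antisymm ((Subgroup.closure_le _).2 ?_) ?_
    · intro x hx
      rcases hx with rfl | rfl | rfl
      exacts [pi23_fix, eb_fix.1, ez_fix.1]
    · refine le_generated ((Subgroup.closure_le _).2 ?_) (Subgroup.subset_closure (by simp))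
        (Subgroup.subset_closure (by simp)) (Subgroup.subset_closure (by simp))
      intro x hx
      rcases hx with rfl | rfl | rfl
      exacts [pi23_fix, eb_fix.1, ez_fix.1]
  · intro ψ hψb hψa
    have hzz : z * z = 1 := Subtype.ext ez_sq
    have hzb : z * b = b * z := Subtype.ext ez_comm
    have hob : orderOf b = 11 := by rw [← Subgroup.orderOf_coe]; exact orderOf_eb
    have hz1 : z ≠ 1 := fun h => ez_ne (congrArg Subtype.val h)
    have hψz : ψ z = z := by
      have hc : (ψ z).1 * eb = eb * (ψ z).1 := congrArg Subtype.val (show ψ z * b = b * ψ z by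
        conv_lhs => rw [← hψb, ← map_mul, hzb, map_mul, hψb])
      have h2 : ψ z * ψ z = 1 := by rw [← map_mul, hzz, map_one]
      rcases centraliser_eb hc (ψ z).2 with h | h
      · obtain ⟨i, hi⟩ := Subgroup.mem_zpowers_iff.1 h
        have hib : ψ z = b ^ i := Subtype.ext (by rw [SubgroupClass.coe_zpow]; exact hi.symm)
        have h11 : ψ z ^ 11 = 1 := by
          rw [hib, ← zpow_natCast, ← zpow_mul, mul_comm, zpow_mul, zpow_natCast, hb11, one_zpow]
        rw [show (11 : ℕ) = 2 * 5 + 1 from rfl, pow_succ, pow_mul, sq, h2, one_pow, one_mul] at h11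
        exact absurd (ψ.map_eq_one_iff.1 h11) hz1
      · obtain ⟨i, hi⟩ := Subgroup.mem_zpowers_iff.1 h
        have hib : ψ z = z * b ^ i := Subtype.ext (by
          rw [Subgroup.coe_mul, SubgroupClass.coe_zpow]
          show (ψ z).1 = ez * eb ^ i
          rw [hi, ← mul_assoc, ez_sq, one_mul])
        have hcb : Commute z (b ^ i) := (show Commute z b from hzb).zpow_right i
        rw [hib, hcb.symm.mul_mul_mul_comm, hzz, one_mul, ← zpow_add] at h2
        have hd : (11 : ℤ) ∣ i + i := by
          have := orderOf_dvd_iff_zpow_eq_one.2 h2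
          rwa [hob] at this
        have h3 : b ^ i = 1 := orderOf_dvd_iff_zpow_eq_one.1 (by rw [hob]; omega)
        rw [hib, h3, mul_one]
    refine ⟨hψa.resolve_right fun h => ?_, hψz⟩
    have hrel : (z * b ^ 3 * a) ^ 11 = 1 := Subtype.ext rel_one
    have h1 := congrArg ψ hrel
    rw [map_pow, map_mul, map_mul, map_pow, hψz, hψb, h, map_one] at h1
    exact rel_ne (congrArg Subtype.val h1)

end Co3Out

end CfsgLib.Leech
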