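import Cfsg.Agent.Leech.StabBottom
import Cfsg.Agent.SporadicOut.Criterion
import Cfsg.Agent.SporadicOut.NormEnum

/-!
Automorphisms of a group with a self-centralising element of order 23, normalised by an element of
order 11, and tools for elements given by moves.
-/

set_option autoImplicit false

namespace CfsgLib.Leech

open Cfsg CfsgLib.Mathieu

section abstract

variable {G : Type*} [Group G] {a b : G}

theorem pow_conj (hab : b * a * b⁻¹ = a ^ 12) : ∀ (m n : ℕ),
    b ^ m * a ^ n * (b ^ m)⁻¹ = a ^ (12 ^ m * n)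
  | 0, n => by simp
  | m + 1, n => by
    have h1 : ∀ j : ℕ, b * a ^ j * b⁻¹ = a ^ (12 * j) := fun j => by
      rw [pow_mul, ← hab, conj_pow]
    calc b ^ (m + 1) * a ^ n * (b ^ (m + 1))⁻¹ = b * (b ^ m * a ^ n * (b ^ m)⁻¹) * b⁻¹ := by
          rw [pow_succ']; group
      _ = a ^ (12 ^ (m + 1) * n) := by rw [pow_conj hab m n, h1, pow_succ']; ring_nf

theorem mem_zpowers_of_commute [Finite G] (ha : orderOf a = 23) (h2 : ¬ 23 ^ 2 ∣ Nat.card G)
    (hC : ∀ y : G, y * a = a * y → y ^ 23 = 1) {y : G} (hy : y * a = a * y) :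
    y ∈ Subgroup.zpowers a := by
  have := Fact.mk (by norm_num : Nat.Prime 23)
  by_cases hy1 : y = 1
  · subst hy1; exact one_mem _
  by_contra hn
  -- the two elements generate a group of order a multiple of `23 ^ 2`
  let f : Subgroup.zpowers a × Subgroup.zpowers y →* G :=
    MonoidHom.noncommCoprod (Subgroup.zpowers a).subtype (Subgroup.zpowers y).subtype
      (fun u v => by
        obtain ⟨i, hi⟩ := u.2
        obtain ⟨j, hj⟩ := v.2
        show Commute (u : G) (v : G)
        rw [← hi, ← hj]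
        exact (Commute.zpow_zpow (show Commute a y from hy.symm) i j))
  have hyo : orderOf y = 23 := orderOf_eq_prime (hC y hy) hy1
  have hinj : Function.Injective f := by
    refine (injective_iff_map_eq_one f).2 fun ⟨u, v⟩ h => ?_
    have h' : (u : G) * (v : G) = 1 := h
    have hv : (v : G) ∈ Subgroup.zpowers a := by
      rw [eq_inv_of_mul_eq_one_right h']
      exact inv_mem u.2
    obtain ⟨j, hj⟩ := Subgroup.mem_zpowers_iff.1 v.2
    have hv1 : (v : G) = 1 := by
      by_contra hne
      apply hn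
      have ho : orderOf (v : G) = 23 := orderOf_eq_prime (by
        rw [← hj, ← zpow_natCast, ← zpow_mul, mul_comm, zpow_mul, zpow_natCast, hC y hy, one_zpow])
        hne
      have he : Subgroup.zpowers (v : G) = Subgroup.zpowers y :=
        Subgroup.eq_of_le_of_card_ge (Subgroup.zpowers_le.2 v.2)
          (by rw [Nat.card_zpowers, Nat.card_zpowers, ho, hyo])
      have : Subgroup.zpowers y ≤ Subgroup.zpowers a := he ▸ Subgroup.zpowers_le.2 hv
      exact this (Subgroup.mem_zpowers y)
    rw [hv1, mul_one] at h'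
    exact Prod.ext (Subtype.ext h') (Subtype.ext hv1)
  have hd := Subgroup.card_dvd_of_injective f hinj
  rw [Nat.card_prod, Nat.card_zpowers, Nat.card_zpowers, ha, hyo] at hd
  exact h2 (by simpa [sq] using hd)

/-- Every automorphism becomes one fixing `b` and fixing or inverting `a`. -/
theorem normalise_pair [Finite G] (ha : orderOf a = 23) (hab : b * a * b⁻¹ = a ^ 12)
    (h2 : ¬ 23 ^ 2 ∣ Nat.card G) (hC : ∀ y : G, y * a = a * y → y ^ 23 = 1) (φ : MulAut G) :
    ∃ g : G, g * φ b * g⁻¹ = b ∧ (g * φ a * g⁻¹ = a ∨ g * φ a * g⁻¹ = a⁻¹) := by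
  classical
  have := Fact.mk (by norm_num : Nat.Prime 23)
  have hdvd : 23 ∣ Nat.card G := ha ▸ orderOf_dvd_natCard a
  obtain ⟨g₁, hg₁⟩ := exists_conj_mem_zpowers hdvd h2
    (show orderOf (φ a) = 23 by rw [MulEquiv.orderOf_eq, ha]) ha
  obtain ⟨k, hk, hka⟩ := Finset.mem_image.1 (mem_zpowers_iff_mem_range_orderOf.1 hg₁)
  rw [ha, Finset.mem_range] at hk
  let ψ : MulAut G := MulAut.conj g₁ * φ
  have hψa : ψ a = a ^ k := hka.symm
  have ha23 : a ^ 23 = 1 := ha ▸ pow_orderOf_eq_one a
  have hk0 : k ≠ 0 := by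
    rintro rfl
    rw [pow_zero] at hψa
    rw [ψ.map_eq_one_iff.1 hψa, orderOf_one] at ha
    omega
  -- the image of `b` acts on `a` as `b` does
  have hy : ψ b * a * (ψ b)⁻¹ = a ^ 12 := by
    have e : ψ b * a ^ k * (ψ b)⁻¹ = (a ^ k) ^ 12 := by
      rw [← hψa, ← map_inv, ← map_mul, ← map_mul, hab, map_pow]
    obtain ⟨m, hm⟩ : ∃ m, (a ^ k) ^ m = a := exists_pow_eq_self_of_coprime (by
      rw [ha]
      exact ((by norm_num : Nat.Prime 23).coprime_iff_not_dvd.2 fun h =>
        hk0 (Nat.eq_zero_of_dvd_of_lt h hk)).symm)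
    have e2 := congrArg (· ^ m) e
    simp only [conj_pow, ← pow_mul] at e2
    rw [pow_mul, hm, show k * 12 * m = k * m * 12 by ring, pow_mul, pow_mul, hm] at e2
    exact e2
  have hc : (b⁻¹ * ψ b) * a = a * (b⁻¹ * ψ b) := by
    have h1 : ψ b * a = a ^ 12 * ψ b := by rw [← hy]; group
    have h3 : b⁻¹ * a ^ 12 = a * b⁻¹ := by rw [← hab]; group
    rw [mul_assoc, h1, ← mul_assoc, h3, mul_assoc]
  obtain ⟨i, hi, hia⟩ := Finset.mem_image.1 (mem_zpowers_iff_mem_range_orderOf.1
    (mem_zpowers_of_commute ha h2 hC hc))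
  rw [ha, Finset.mem_range] at hi
  have hψb : ψ b = b * a ^ i := by rw [hia]; group
  -- a power of `a` takes it to `b`
  obtain ⟨j, hj, hij⟩ := (by decide +kernel : ∀ i < 23, ∃ j < 23, (2 * j + i + (23 - j)) % 23 = 0) i hi
  have h2a : b⁻¹ * a * b = a ^ 2 := by
    have h1 : b * a ^ 2 * b⁻¹ = a := by
      rw [← conj_pow, hab, ← pow_mul, pow_eq_pow_mod _ ha23]
      norm_num
    conv_lhs => rw [← h1]
    group
  have hinv : (a ^ j)⁻¹ = a ^ (23 - j) :=
    inv_eq_of_mul_eq_one_right (by rw [← pow_add, show j + (23 - j) = 23 by omega, ha23])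
  have hgb : a ^ j * ψ b * (a ^ j)⁻¹ = b := by
    have h1 : a ^ j * b = b * a ^ (2 * j) := by
      rw [pow_mul, ← h2a]
      have h2 : (b⁻¹ * a * b) ^ j = b⁻¹ * a ^ j * b := by
        have := conj_pow (a := b⁻¹) (b := a) (i := j)
        rwa [inv_inv] at this
      rw [h2]; group
    rw [hψb, ← mul_assoc, h1, hinv, mul_assoc, mul_assoc, ← pow_add, ← pow_add,
      pow_eq_pow_mod _ ha23, show (2 * j + (i + (23 - j))) % 23 = 0 by omega, pow_zero, mul_one]
  have hga : a ^ j * ψ a * (a ^ j)⁻¹ = a ^ k := by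
    rw [hψa, ← pow_add, hinv, ← pow_add, pow_eq_pow_mod _ ha23,
      show (j + k + (23 - j)) % 23 = k by omega]
  obtain ⟨m, hm, hkm⟩ := (by decide +kernel :
    ∀ k < 23, k ≠ 0 → ∃ m < 11, 12 ^ m * k % 23 = 1 ∨ 12 ^ m * k % 23 = 22) k hk hk0
  refine ⟨b ^ m * a ^ j * g₁, ?_, ?_⟩
  · calc b ^ m * a ^ j * g₁ * φ b * (b ^ m * a ^ j * g₁)⁻¹
        = b ^ m * (a ^ j * ψ b * (a ^ j)⁻¹) * (b ^ m)⁻¹ := by
          show _ = _ * (a ^ j * (g₁ * φ b * g₁⁻¹) * (a ^ j)⁻¹) * _
          group
      _ = b := by rw [hgb]; group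
  · have e : b ^ m * a ^ j * g₁ * φ a * (b ^ m * a ^ j * g₁)⁻¹ = a ^ (12 ^ m * k) := by
      rw [← pow_conj hab m k, ← hga]
      show _ = _ * (a ^ j * (g₁ * φ a * g₁⁻¹) * (a ^ j)⁻¹) * _
      group
    rcases hkm with h | h
    · exact Or.inl (by rw [e, pow_eq_pow_mod _ ha23, h, pow_one])
    · refine Or.inr ?_
      rw [e, pow_eq_pow_mod _ ha23, h]
      exact eq_inv_of_mul_eq_one_left (by rw [← pow_succ, ha23])

/-- The criterion for a generating triple. -/
theorem out_one_of_triple [Finite G] (ha : orderOf a = 23) (hab : b * a * b⁻¹ = a ^ 12)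
    (h2 : ¬ 23 ^ 2 ∣ Nat.card G) (hC : ∀ y : G, y * a = a * y → y ^ 23 = 1) (z : G)
    (hgen : Subgroup.closure {a, b, z} = ⊤)
    (hfin : ∀ ψ : MulAut G, ψ b = b → (ψ a = a ∨ ψ a = a⁻¹) → ψ a = a ∧ ψ z = z) :
    Nat.card (Cfsg.Out G) = 1 := by
  refine SporadicOut.card_out_eq_one (ι := Fin 3) ![a, b, z] ?_ fun φ => ?_
  · rw [← hgen]
    congr 1
    simp only [Matrix.range_cons, Matrix.range_empty, Set.union_empty, Set.singleton_union]
  · obtain ⟨g, hgb, hga⟩ := normalise_pair ha hab h2 hC φ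
    obtain ⟨e1, e2⟩ := hfin (MulAut.conj g * φ) hgb hga
    refine ⟨g, fun i => ?_⟩
    fin_cases i
    · exact e1
    · exact hgb
    · exact e2

end abstract

/-! ### Elements given by moves -/

/-- The member acts as the moves. -/
def Acts (g : Co0) (ms : List Mv) : Prop :=
  ∀ (l : List ℤ) (hl : vec l ∈ leechLattice),
    ((g • (⟨vec l, hl⟩ : leechLattice) : leechLattice) : GolayPt → ℤ) = vec (runMoves ms l)

theorem acts_one : Acts 1 [] := fun l hl => by rw [one_smul]; rfl

theorem Acts.mul {a b : Co0} {m n : List Mv} (hb : Acts b m) (ha : Acts a n) :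
    Acts (a * b) (m ++ n) := act_append hb ha

theorem Acts.pow {g : Co0} {ms : List Mv} (h : Acts g ms) :
    ∀ k : ℕ, Acts (g ^ k) (List.replicate k ms).flatten
  | 0 => by rw [pow_zero]; exact acts_one
  | k + 1 => by
    rw [pow_succ, List.replicate_succ, List.flatten_cons]
    exact h.mul (h.pow k)

/-- A coordinate list of a short lattice vector that survives packing. -/
def packable (l : List ℤ) : Bool :=
  leechB (vec l) && decide (sqNorm (vec l) ≤ 80) && dec (penc l) == l && l.length == 24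

theorem runMoves_eq_pact {ms : List Mv} (hok : ms.all Mv.ok = true) {l : List ℤ}
    (hl : packable l = true) : runMoves ms l = dec (ms.foldl pact (penc l)) := by
  simp only [packable, Bool.and_eq_true, beq_iff_eq, decide_eq_true_eq] at hl
  obtain ⟨⟨⟨h1, h2⟩, h3⟩, -⟩ := hl
  have := (prun_spec ms hok (penc l) (by rw [h3]; exact leechB_iff.mp h1) (by rw [h3]; exact h2)
    (by rw [h3])).1
  rw [h3] at this
  exact this.symm

/-- The packed form of `runMoves ms l = l'`. -/
def mapP (ms : List Mv) (l l' : List ℤ) : Bool :=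
  ms.all Mv.ok && packable l && packable l' && Nat.beq (ms.foldl pact (penc l)) (penc l')

theorem runMoves_of_mapP {ms : List Mv} {l l' : List ℤ} (h : mapP ms l l' = true) :
    runMoves ms l = l' := by
  simp only [mapP, Bool.and_eq_true, Nat.beq_eq] at h
  obtain ⟨⟨⟨h0, h1⟩, h2⟩, h3⟩ := h
  simp only [packable, Bool.and_eq_true, beq_iff_eq] at h2
  rw [runMoves_eq_pact h0 h1, h3, h2.1.2]

/-- The comparison of two move lists. -/
def sameB (m n : List Mv) : Bool :=
  (List.range 24).all fun j =>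
    runMoves m ((List.range 24).map fun i => if i = j then (8 : ℤ) else 0) ==
      runMoves n ((List.range 24).map fun i => if i = j then (8 : ℤ) else 0)

/-- The packed comparison of two move lists. -/
def sameP (m n : List Mv) : Bool :=
  m.all Mv.ok && n.all Mv.ok && (List.range 24).all fun j =>
    packable ((List.range 24).map fun i => if i = j then (8 : ℤ) else 0) &&
      Nat.beq (m.foldl pact (penc ((List.range 24).map fun i => if i = j then (8 : ℤ) else 0)))
        (n.foldl pact (penc ((List.range 24).map fun i => if i = j then (8 : ℤ) else 0)))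

theorem sameB_of_sameP {m n : List Mv} (h : sameP m n = true) : sameB m n = true := by
  simp only [sameP, Bool.and_eq_true, List.all_eq_true, Nat.beq_eq] at h
  obtain ⟨⟨h1, h2⟩, h3⟩ := h
  refine List.all_eq_true.2 fun j hj => ?_
  obtain ⟨h4, h5⟩ := h3 j hj
  rw [runMoves_eq_pact (List.all_eq_true.2 h1) h4, runMoves_eq_pact (List.all_eq_true.2 h2) h4, h5]
  exact beq_self_eq_true _

theorem Acts.eq_of {g h : Co0} {m n : List Mv} (hg : Acts g m) (hh : Acts h n)
    (e : sameB m n = true) : g = h :=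
  co0_eq_of_moves hg hh e

/-- The member given by moves. -/
noncomputable def mvEl (ms : List Mv) : Co0 :=
  if h : ms.all Mv.ok = true then (runMoves_spec ms h).choose else 1

theorem acts_mvEl {ms : List Mv} (h : ms.all Mv.ok = true) : Acts (mvEl ms) ms := by
  rw [mvEl, dif_pos h]
  exact (runMoves_spec ms h).choose_spec.2

theorem Acts.smul_eq {g : Co0} {ms : List Mv} (h : Acts g ms) {v : leechLattice} {l l' : List ℤ}
    {w : leechLattice} (hv : (v : GolayPt → ℤ) = vec l) (hw : (w : GolayPt → ℤ) = vec l')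
    (e : runMoves ms l = l') : g • v = w := by
  obtain ⟨v, hm⟩ := v
  obtain rfl : v = vec l := hv
  exact Subtype.ext ((h l hm).trans ((congrArg vec e).trans hw.symm))

theorem acts_pi23 : Acts pi23
    [.mono 565977270196090167975255165272110459093503235228275114006 0] := by
  intro l hl
  funext p
  rw [pi23, permHom_smul, runMoves, List.foldl_cons, List.foldl_nil, Mv.act, vec_map_range,
    Nat.zero_testBit]
  show vec l (shiftOne⁻¹ p) = l.getD (app _ (idx p)) 0
  rw [vec_getD]
  exact congrArg (l.getD · 0) ((by decide +kernel : ∀ p : GolayPt, idx (shiftOne⁻¹ p) =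
    app 565977270196090167975255165272110459093503235228275114006 (idx p)) p)

/-- A member fixing a vector of a finite set, up to the listed exceptions. -/
theorem fixed_mem_list {F : List (List ℤ)} {gens : List (List Mv)} {root : List ℤ} {ms : List ℕ}
    {N : ℕ} {S : Set (GolayPt → ℤ)} (h : treeOK F gens root ms N = true) (hfin : S.Finite)
    (hS : S.ncard ≤ N) (hsub : ∀ x, ReachL (F.map vec) (vec root) x → x ∈ S)
    {g : Co0} {w : List Mv} (hw : Acts g w) (ok : List ℕ)
    (hchk : ((treeList gens [penc root] ms).all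
      fun c => decide (vec (runMoves w (dec c)) ≠ vec (dec c)) || ok.contains c) = true)
    {x : leechLattice} (hx : (x : GolayPt → ℤ) ∈ S) (hfix : g • x = x) :
    ∃ c ∈ ok, (x : GolayPt → ℤ) = vec (dec c) := by
  rw [set_eq_tree h hfin hS hsub] at hx
  obtain ⟨c, hc, hcx⟩ := hx
  have h1 := List.all_eq_true.1 hchk c hc
  rw [Bool.or_eq_true, decide_eq_true_iff, List.contains_iff_mem] at h1
  rcases h1 with h1 | h1
  · exfalso
    refine h1 ?_
    have hm : vec (dec c) ∈ leechLattice := by
      show (fun c => vec (dec c)) c ∈ leechLattice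
      rw [hcx]; exact x.2
    have e : x = ⟨vec (dec c), hm⟩ := Subtype.ext hcx.symm
    rw [e] at hfix
    exact (hw (dec c) hm).symm.trans (congrArg Subtype.val hfix)
  · exact ⟨c, h1, hcx.symm⟩

end CfsgLib.Leech
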