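import Cfsg.Agent.Leech.OutTriple
import Cfsg.Agent.Mathieu.SmallOrders
import Mathlib.GroupTheory.GroupAction.Quotient

/-!
Generators from words in checked letters, and permutations from straight line programs.
-/

set_option autoImplicit false

namespace CfsgLib.Leech

open Cfsg CfsgLib.Mathieu

/-- The moves of the words in the letters. -/
def wordMoves (letters : List (List Mv)) (w : List ℕ) : List Mv :=
  (w.map fun i => letters.getD i []).flatten

theorem gensIn_getD {S : Subgroup Co0} {gens : List (List Mv)} (h : GensIn S gens) (i : ℕ) :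
    (gens.getD i []).all Mv.ok = true ∧ ∃ g ∈ S, Acts g (gens.getD i []) := by
  by_cases hi : i < gens.length
  · rw [List.getD_eq_getElem _ _ hi]
    exact h _ (List.getElem_mem hi)
  · rw [List.getD_eq_default _ _ (not_lt.1 hi)]
    exact ⟨rfl, 1, one_mem S, acts_one⟩

theorem gensIn_word {S : Subgroup Co0} {gens : List (List Mv)} (h : GensIn S gens) :
    ∀ w : List ℕ, (wordMoves gens w).all Mv.ok = true ∧ ∃ g ∈ S, Acts g (wordMoves gens w)
  | [] => ⟨rfl, 1, one_mem S, acts_one⟩
  | i :: w => by
    obtain ⟨h1, a, ha, hA⟩ := gensIn_getD h i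
    obtain ⟨h2, b, hb, hB⟩ := gensIn_word h w
    have e : wordMoves gens (i :: w) = gens.getD i [] ++ wordMoves gens w := rfl
    rw [e]
    exact ⟨by rw [List.all_append, h1, h2]; rfl, b * a, mul_mem hb ha, hA.mul hB⟩

/-- Permutations produced by words and a straight line program fill the two point stabiliser. -/
theorem perm22_le_of_slp {N : Subgroup Co0} {gens : List (List Mv)} (hg : GensIn N gens)
    (words : List (List ℕ)) (tables : List ℕ) (steps : List Step)
    (trees : List (List (ℕ × ℕ × ℕ)))
    (hlen : tables.length = words.length)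
    (htab : ((words.zip tables).all fun e =>
      (Mv.mono e.2 0).ok && sameP (wordMoves gens e.1) [Mv.mono e.2 0]) = true)
    (hch : reachChainOK (slp 24 tables steps) (m24Levels.drop 2) [pt 23, pt 0] trees = true) :
    ∀ τ ∈ perm22, permHom τ ∈ N := by
  let H : Subgroup (Equiv.Perm GolayPt) := (N.comap permHom).map M24.subtype
  have hin : ∀ t ∈ tables, InGroup enc H t := by
    intro t ht
    obtain ⟨i, hi, rfl⟩ := List.getElem_of_mem ht
    have hmem : (words[i]'(hlen ▸ hi), tables[i]) ∈ words.zip tables := by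
      have hz : i < (words.zip tables).length := by
        rw [List.length_zip, hlen, min_self]; exact hlen ▸ hi
      have := List.getElem_mem (l := words.zip tables) hz
      rwa [List.getElem_zip] at this
    have h1 := List.all_eq_true.1 htab _ hmem
    rw [Bool.and_eq_true] at h1
    obtain ⟨hok, hsame⟩ := h1
    obtain ⟨τ, hτ, hc, hr, hact⟩ := monoMove_spec hok
    obtain ⟨-, g, hgN, hgA⟩ := gensIn_word hg (words[i]'(hlen ▸ hi))
    have hp : permHom ⟨τ⁻¹, inv_mem hτ⟩ = g := by
      refine (Acts.eq_of hgA (n := [Mv.mono tables[i] 0]) (fun l hl => ?_) (sameB_of_sameP hsame)).symm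
      rw [← hact l hl, ← permHom_eq τ hτ, monoCo0_congr (hτ' := hτ) (hc' := hc) rfl (setOf24_zero).symm]
    refine ⟨τ, ⟨⟨τ, hτ⟩, ?_, rfl⟩, hr⟩
    show permHom ⟨τ, hτ⟩ ∈ N
    have h2 : (⟨τ, hτ⟩ : M24) = (⟨τ⁻¹, inv_mem hτ⟩ : M24)⁻¹ := Subtype.ext (inv_inv τ).symm
    rw [h2, map_inv, hp]
    exact inv_mem hgN
  have hc : IsChain' H M24 (m24Levels.drop 2) [pt 23, pt 0] :=
    m24Levels_tail2.change _ _ (isReachChain_of_ok (inGroup_slp enc steps tables hin) _ _ _ hch)
  have hle : H ≤ M24 := by rintro _ ⟨τ, -, rfl⟩; exact τ.2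
  intro τ hτ
  obtain ⟨τ', hτ', e⟩ := (hc.spec hle _ _).1 (show τ.1 ∈ fixList M24 [pt 23, pt 0] from ⟨τ.2, by
    intro x hx
    simp only [List.mem_cons, List.not_mem_nil, or_false] at hx
    rcases hx with rfl | rfl
    · exact (mem_perm22.1 hτ).1
    · exact (mem_perm22.1 hτ).2⟩)
  rwa [← M24.subtype_injective e]

/-- A subgroup of a simple group with index below a prime dividing the order is everything. -/
theorem le_of_index_lt_prime {G N : Subgroup Co0} (hs : IsSimpleGroup G) (hle : N ≤ G) {p : ℕ}
    (hp : p.Prime) (hdvd : p ∣ Nat.card G) (h : Nat.card G < p * Nat.card N) : G ≤ N := by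
  have := co0_finite
  set H := N.subgroupOf G
  have hH : Nat.card H = Nat.card N := Nat.card_congr (Subgroup.subgroupOfEquivOfLe hle).toEquiv
  rw [← hH, ← H.card_mul_index, mul_comm p] at h
  have hk : H.index < p := Nat.lt_of_mul_lt_mul_left h
  rcases IsSimpleGroup.eq_bot_or_eq_top_of_normal H.normalCore H.normalCore_normal with hb | ht
  · exfalso
    rw [H.normalCore_eq_ker, MonoidHom.ker_eq_bot_iff] at hb
    have hd := Subgroup.card_dvd_of_injective _ hb
    rw [Nat.card_perm] at hd
    have h2 : p ∣ H.index.factorial := hdvd.trans hd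
    exact absurd ((Nat.Prime.dvd_factorial hp).1 h2) (not_le.2 hk)
  · have hT : H = ⊤ := top_le_iff.1 (ht ▸ H.normalCore_le)
    exact Subgroup.subgroupOf_eq_top.1 hT

end CfsgLib.Leech
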