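import Cfsg.Agent.Leech.Co3Simple
import Cfsg.Agent.Leech.OutTriple
import Cfsg.Agent.Leech.Co3OutData
import Cfsg.Agent.Leech.WordGens
import Cfsg.Agent.Leech.FixedEleven

/-!
Kernel checks for the rigid triple of the stabiliser of a vector of norm 48.
-/

set_option autoImplicit false
set_option maxRecDepth 100000

namespace CfsgLib.Leech

open Cfsg CfsgLib.Mathieu TreeData

namespace Co3Out

open Co3OutData

theorem ok_moves : movesB.all Mv.ok = true ∧ movesZ.all Mv.ok = true := by decide +kernel

theorem fix_checks : leechB (vec otherM) = true ∧
    mapP movesB co3vFix[0] co3vFix[0] = true ∧ mapP movesZ co3vFix[0] co3vFix[0] = true ∧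
    mapP movesB co3mRoot co3mRoot = true ∧ mapP movesZ co3mRoot otherM = true ∧
    mapP movesB co2Fix[0] co2Fix[0] = true := by
  decide +kernel

/-- The moves of the element of order 23. -/
def movesA : List Mv := [.mono 565977270196090167975255165272110459093503235228275114006 0]

/-- A relation of order 11 in the three elements. -/
def relMoves (ta : List Mv) : List Mv :=
  (List.replicate 11 (ta ++ (List.replicate 3 movesB).flatten ++ movesZ)).flatten


/-- The pattern vectors with inner product 16 with the base vector are the two fixed ones. -/
def patOK (x : GolayPt → ℤ) : Bool :=
  !(leechB x) || !(decide (dotInt baseD x = 16)) ||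
    decide (x = baseM) || decide (x = vec otherM)

theorem pat_checks : ((List.range 11).all fun i => (List.range 11).all fun j =>
    (List.range 3).all fun k => (List.range 3).all fun l => !(pat32 i j k l) || patOK (patVec i j k l)) = true := by
  decide +kernel

theorem fixed_A : ((treeList hsGens [penc hsRoot] TreeData.hsLvls).all fun c =>
      decide (vec (runMoves movesB (dec c)) ≠ vec (dec c)) ||
        [852206658587909773353650494292640276].contains c) = true := by
  decide +kernel

theorem codes : vec (dec 852206658587909773353650494292640276) = baseA := by
  decide +kernel

/-- The table of the element of order 11. -/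
def tableB : ℕ := 565976893111451123696566449653690447839358251609054511616

theorem search_checks :
    SporadicOut.levelsOK [1, 8388608] tableB levB 0 = true ∧
    SporadicOut.search tableB 1 powB levB [] = true ∧
    (powB.zipIdx.all fun e =>
      allBelow 24 fun i => app e.1 i == SporadicOut.iterApp tableB e.2 i) = true := by
  decide +kernel


/-- Words giving the permutations used on the 11178 vectors. -/
def topWords : List (List ℕ) := [[0], [1], [3], [4]] ++ (permWords.drop 5).take 6


end Co3Out

end CfsgLib.Leech
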