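import Cfsg.Agent.Leech.StabBottom

/-!
The stabiliser of a norm 48 vector is simple.
-/

set_option autoImplicit false
set_option maxRecDepth 100000

namespace CfsgLib.Leech

open Cfsg CfsgLib.Mathieu SimpleData
open scoped Pointwise

theorem co3a_tree : treeOK co3aFix co3aGens co3aRoot co3aLvls 11178 = true := by decide +kernel
theorem hsn_tree : treeOK hsnFix hsnGens hsnRoot hsnLvls 100 = true := by decide +kernel

theorem co3_data : (co3aMono ++ co3aConj.map fun e => [e.2.1]).all (monoPermB [23]) = true ∧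
    co3aConj.all (conjOK co3aFix) = true ∧
    (hsnMono ++ hsnConj.map fun e => [e.2.1]).all (monoPermB [23, 0]) = true ∧
    hsnConj.all (conjOK hsnFix) = true := by
  decide +kernel

theorem fixesAll_co3a : FixesAll (MulAction.stabilizer Co0 bD) co3aFix := fun g hg =>
  fix_of_list bD (l := co3aFix[0]) (funext (by decide +kernel)) (hg _ (by simp [co3aFix]))

theorem fixesAll_hsn : FixesAll (MulAction.stabilizer Co0 bD ⊓ MulAction.stabilizer Co0 bW) hsnFix :=
  fun g hg => ⟨fix_of_list bD (l := hsnFix[0]) (funext (by decide +kernel)) (hg _ (by simp [hsnFix])),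
    fix_of_list bW (l := hsnFix[1]) (funext (by decide +kernel)) (hg _ (by simp [hsnFix]))⟩

theorem ncard_orb_100 :
    (orb (MulAction.stabilizer Co0 bD ⊓ MulAction.stabilizer Co0 bW) bA).ncard ≤ 100 := by
  rw [← ncard_set100, ← Set.ncard_image_of_injective _ Subtype.val_injective]
  refine Set.ncard_le_ncard ?_ set100_finite
  rintro x ⟨y, ⟨g, ⟨gD, gW⟩, rfl⟩, rfl⟩
  refine ⟨⟨(g • bA).2, by rw [co0_norm]; exact base_facts.2.1.2, ?_⟩, ?_⟩
  · have e := co0_dot g bD bA
    rw [show g • bD = bD from gD] at e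
    exact e.trans base_facts.2.2.2.2.2.1
  · have e := co0_dot g bW bA
    rw [show g • bW = bW from gW] at e
    exact e.trans base_facts.2.2.2.2.2.2.2.2.2.2.1

/-- A normalised subgroup with the permutations fixing two points holds the stabiliser of the HS pair. -/
theorem hs_le {N : Subgroup Co0}
    (hle : N ≤ MulAction.stabilizer Co0 bD ⊓ MulAction.stabilizer Co0 bW)
    (hN : NormalisedBy (MulAction.stabilizer Co0 bD ⊓ MulAction.stabilizer Co0 bW) N)
    (hperm : ∀ τ ∈ perm22, permHom τ ∈ N) :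
    MulAction.stabilizer Co0 bD ⊓ MulAction.stabilizer Co0 bW ≤ N := by
  refine le_of_orb hle bA ?_ ?_
  · have hg := gensIn_perm (fix := [none, pt 0]) hN fixesAll_hsn
      (fun τ hτ => hperm τ (mem_perm22.2 ⟨hτ none (by simp), hτ (pt 0) (by simp)⟩))
      (by simpa [idx_none, pt_zero] using co3_data.2.2.1) co3_data.2.2.2
    exact ncard_orb_100.trans (le_ncard_orb hsn_tree hg bA (funext (by decide +kernel)))
  · rintro g ⟨⟨gD, gW⟩, gA⟩
    obtain ⟨τ, hτ, rfl⟩ := perm22_of_fix gD
      (by rw [← bD_add_bW, co0_add, show g • bD = bD from gD, show g • bW = bW from gW]) gA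
    exact hperm τ hτ

theorem co3_simple : IsSimpleGroup (MulAction.stabilizer Co0 bD) := by
  have := Fact.mk (by norm_num : Nat.Prime 23)
  set G := MulAction.stabilizer Co0 bD with hG
  have hperm : ∀ τ ∈ perm23, permHom τ ∈ G := fun τ hτ => perm23_fix hτ base_const.2.1
  have hπ : pi23 ∈ G := hperm _ (mem_perm23.2 rfl)
  have hcard : Nat.card G = 495766656000 := card_stab_norm48 base_facts.1.2
  refine isSimpleGroup_of_cases G ⟨pi23, hπ, fun e => ?_⟩ fun N hle hN => ?_
  · have := orderOf_pi23; rw [e, orderOf_one] at this; omega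
  have hC : ∀ y ∈ G, y * pi23 = pi23 * y → y ^ 23 = 1 := by
    intro y hy hc
    refine (commute_pi23_cases y hc).resolve_right fun h => ?_
    have h1 : (y ^ 23) • bD = bD := pow_mem hy 23
    rw [h] at h1
    have h2 := congrFun (congrArg Subtype.val h1) none
    rw [negCo0_smul] at h2
    have h3 : baseD none ≠ -baseD none := by decide +kernel
    exact h3 h2.symm
  rcases normal_dichotomy (p := 1) hle hN hπ orderOf_pi23 (by rw [hcard]; decide +kernel) hC
    (fun q hq _ hq23 k hk hdvd => by
      rw [hcard] at hdvd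
      have hmem := mem_of_dvd_prod hq (List.replicate 10 2 ++ List.replicate 7 3 ++ [5, 5, 5, 7, 11, 23])
        (fun a ha => by
          simp only [List.mem_append, List.mem_replicate, List.mem_cons, List.not_mem_nil, or_false] at ha
          rcases ha with (⟨-, rfl⟩ | ⟨-, rfl⟩) | rfl | rfl | rfl | rfl | rfl | rfl <;> norm_num)
        ((dvd_pow_self q hk).trans (by norm_num; exact hdvd))
      have hk64 : k < 64 := by
        by_contra hk'
        have h1 := Nat.le_of_dvd (by norm_num) hdvd
        have h2 : 2 ^ 64 ≤ q ^ k := (Nat.pow_le_pow_right (by norm_num) (by omega : 64 ≤ k)).trans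
          (Nat.pow_le_pow_left hq.two_le k)
        omega
      exact (by decide +kernel : ∀ q ∈ List.replicate 10 2 ++ List.replicate 7 3 ++ [5, 5, 5, 7, 11, 23],
        q ≠ 23 → ∀ k < 64, k ≠ 0 → q ^ k ∣ 495766656000 → q ^ k % 23 ≠ 1) q hmem hq23 k hk64 hk hdvd)
    with hP | hord
  · exact Or.inl (eq_bot_of_isPGroup_one hP)
  right
  haveI : IsSimpleGroup perm23 := simple_M24_point (none : GolayPt)
  have hp23 : ∀ τ ∈ perm23, permHom τ ∈ N :=
    perms_mem hN perm23 hperm (τ₀ := ⟨shiftOne, shiftOne_mem_M24⟩) (mem_perm23.2 rfl)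
      (fun e => by have := shiftOne_order; rw [e, orderOf_one] at this; omega) (hord _ hπ orderOf_pi23)
  refine le_of_orb hle bM ?_ ?_
  · have hg := gensIn_perm (fix := [none]) hN fixesAll_co3a
      (fun τ hτ => hp23 τ (mem_perm23.2 (hτ none (by simp))))
      (by simpa [idx_none] using co3_data.1) co3_data.2.1
    refine le_trans ?_ (le_ncard_orb co3a_tree hg bM (funext (by decide +kernel)))
    rw [← ncard_dotSet_D16, ← Set.ncard_image_of_injective _ Subtype.val_injective]
    refine Set.ncard_le_ncard ?_ (dotSet_finite _ _)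
    rintro x ⟨y, ⟨g, gD, rfl⟩, rfl⟩
    refine ⟨(g • bM).2, by rw [co0_norm]; exact base_facts.2.2.2.2.1.2, ?_⟩
    have e := co0_dot g bD bM
    rw [show g • bD = bD from gD] at e
    exact e.trans base_facts.2.2.2.2.2.2.2.2.2.1
  · have hHS : G ⊓ MulAction.stabilizer Co0 bM ≤
        MulAction.stabilizer Co0 bD ⊓ MulAction.stabilizer Co0 bW := by
      rintro g ⟨gD, gM⟩
      refine ⟨gD, ?_⟩
      have h1 : g • bM = bM := gM
      rw [← bD_add_bW, co0_add, show g • bD = bD from gD] at h1
      exact add_left_cancel h1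
    refine hHS.trans (le_trans (hs_le (N := N ⊓ (MulAction.stabilizer Co0 bD ⊓ MulAction.stabilizer Co0 bW))
      inf_le_right (fun g hg n hn => ⟨hN g hg.1 n hn.1, ?_⟩) fun τ hτ => ?_) inf_le_left)
    · exact Subgroup.mul_mem _ (Subgroup.mul_mem _ hg hn.2) (Subgroup.inv_mem _ hg)
    · obtain ⟨hD, -, hW, -⟩ := perm22_fix_base hτ
      exact ⟨hp23 τ (mem_perm23.2 (mem_perm22.1 hτ).1), hD, hW⟩

end CfsgLib.Leech
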