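import Cfsg.Agent.Leech.ConfigMain

/-!
The stabiliser of a vector of norm 48 on its 11178 minimal vectors of inner product `-16`.
-/

set_option autoImplicit false

namespace CfsgLib.Leech

open Cfsg CfsgLib.Mathieu TreeData

theorem dotInt_neg_right (x y : GolayPt → ℤ) : dotInt x (-y) = -dotInt x y := by
  simp only [dotInt, Pi.neg_apply, mul_neg, Finset.sum_neg_distrib]

theorem sqNorm_neg_eq (y : GolayPt → ℤ) : sqNorm (-y) = sqNorm y :=
  Finset.sum_congr rfl fun i _ => by simp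

/-- The transport to `dotSet baseD 16`. -/
theorem co3_transport {g : Co0} {u : leechLattice} (gu : g • u = bD) (x : leechLattice) :
    (sqNorm (x : GolayPt → ℤ) = 32 ∧ dotInt (u : GolayPt → ℤ) (x : GolayPt → ℤ) = -16) ↔
      ((-(g • x) : leechLattice) : GolayPt → ℤ) ∈ dotSet baseD 16 := by
  have e : dotInt baseD ((g • x : leechLattice) : GolayPt → ℤ) =
      dotInt (u : GolayPt → ℤ) (x : GolayPt → ℤ) := smul_dot_eq gu x
  rw [AddSubgroup.coe_neg]
  constructor
  · rintro ⟨h1, h2⟩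
    refine ⟨neg_mem (g • x).2, ?_, ?_⟩
    · rw [sqNorm_neg_eq, co0_norm]; exact h1
    · rw [dotInt_neg_right, e, h2]; norm_num
  · rintro ⟨-, h1, h2⟩
    rw [sqNorm_neg_eq, co0_norm] at h1
    rw [dotInt_neg_right, e] at h2
    exact ⟨h1, by omega⟩

theorem to11178 {x : leechLattice} (hx : (x : GolayPt → ℤ) ∈ dotSet baseD 16) :
    ∃ g : Co0, g • bD = bD ∧ g • x = bD + bW := by
  obtain ⟨g, e, hF⟩ := exists_smul_of_reach (x := x) (y := bD + bW)
    (reach_of_tree co3m_tree (dotSet_finite _ _) ncard_dotSet_D16.le sub11178 hx)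
    (show ReachL (co3mFix.map vec) (vec co3mRoot) ((bD + bW : leechLattice) : GolayPt → ℤ) from by
      rw [AddSubgroup.coe_add,
        show (bD : GolayPt → ℤ) + bW = baseM from base_facts.2.2.2.2.2.2.2.2.2.2.2]
      exact ReachG.refl _ (leechB_iff.mp base_facts.2.2.2.2.1.1))
  exact ⟨g, hF bD (by simp [bD, baseD, co3mFix, co3vFix]), e⟩

theorem co3_trans_11178 (u : leechLattice) (hu : sqNorm (u : GolayPt → ℤ) = 48) :
    {x : leechLattice | sqNorm (x : GolayPt → ℤ) = 32 ∧
        dotInt (u : GolayPt → ℤ) (x : GolayPt → ℤ) = -16}.ncard = 11178 ∧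
      ∀ x ∈ {x : leechLattice | sqNorm (x : GolayPt → ℤ) = 32 ∧
        dotInt (u : GolayPt → ℤ) (x : GolayPt → ℤ) = -16},
      ∀ x' ∈ {x : leechLattice | sqNorm (x : GolayPt → ℤ) = 32 ∧
        dotInt (u : GolayPt → ℤ) (x : GolayPt → ℤ) = -16}, ∃ g : Co0, g • u = u ∧ g • x = x' := by
  obtain ⟨g, gu⟩ := transitive_norm48 u bD hu base_facts.1.2
  refine ⟨?_, fun x hx x' hx' => ?_⟩
  · rw [ncard_transport g _
      (fun z : leechLattice => ((-z : leechLattice) : GolayPt → ℤ) ∈ dotSet baseD 16)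
      (co3_transport gu)]
    have e : {z : leechLattice | ((-z : leechLattice) : GolayPt → ℤ) ∈ dotSet baseD 16}.ncard =
        {z : leechLattice | (z : GolayPt → ℤ) ∈ dotSet baseD 16}.ncard :=
      Set.ncard_congr (fun z _ => -z) (fun z hz => hz) (fun a b _ _ e => neg_inj.1 e)
        fun y hy => ⟨-y, show ((-(-y) : leechLattice) : GolayPt → ℤ) ∈ dotSet baseD 16 by rw [neg_neg]; exact hy,
          neg_neg y⟩
    rw [e, ncard_val (fun z => z ∈ dotSet baseD 16) fun z hz => hz.1]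
    exact ncard_dotSet_D16
  · obtain ⟨a, aD, ax⟩ := to11178 ((co3_transport gu x).1 hx)
    obtain ⟨b, bD', bx⟩ := to11178 ((co3_transport gu x').1 hx')
    refine ⟨g⁻¹ * (b⁻¹ * a) * g, ?_, ?_⟩
    · rw [mul_smul, mul_smul, mul_smul, gu, aD]
      conv_lhs => rw [← bD', inv_smul_smul, ← gu, inv_smul_smul]
    · rw [co0_neg] at ax bx
      have e : b⁻¹ • a • g • x = g • x' := by
        rw [inv_smul_eq_iff]
        exact neg_inj.1 (ax.trans bx.symm)
      rw [mul_smul, mul_smul, mul_smul, e, inv_smul_smul]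

end CfsgLib.Leech
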