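import Cfsg.Agent.Leech.Basic

/-!
Counting lattice vectors with given norm, coordinate sum and per-coordinate value restrictions, by a
table recursion evaluated in the kernel.
-/

set_option autoImplicit false

namespace CfsgLib.Leech

open Cfsg CfsgLib.Mathieu

/-! ### Integer lists with prescribed square sum and sum modulo `M` -/

/-- Number of integer lists choosing an entry from each list with square sum `n` and sum `s` mod `M`. -/
def cntR (M : ℕ) : List (List ℤ) → ℕ → ℤ → ℕ
  | [], n, s => if n = 0 ∧ (M : ℤ) ∣ s then 1 else 0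
  | vs :: l, n, s =>
    (vs.map fun v => if v.natAbs ^ 2 ≤ n then cntR M l (n - v.natAbs ^ 2) (s - v) else 0).sum

/-- The lists counted by `cntR`. -/
def listSet (M : ℕ) : List (List ℤ) → ℕ → ℤ → Finset (List ℤ)
  | [], n, s => if n = 0 ∧ (M : ℤ) ∣ s then {[]} else ∅
  | vs :: l, n, s => vs.toFinset.biUnion fun v =>
      if v.natAbs ^ 2 ≤ n then (listSet M l (n - v.natAbs ^ 2) (s - v)).image (v :: ·) else ∅

theorem mem_listSet (M : ℕ) : ∀ (l : List (List ℤ)) (n : ℕ) (s : ℤ) (xs : List ℤ),
    xs ∈ listSet M l n s ↔ List.Forall₂ (fun x vs => x ∈ vs) xs l ∧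
      ((xs.map fun x => x.natAbs ^ 2).sum = n ∧ (M : ℤ) ∣ s - xs.sum)
  | [], n, s, xs => by
    rw [listSet, List.forall₂_nil_right_iff]
    by_cases h : n = 0 ∧ (M : ℤ) ∣ s
    · rw [if_pos h, Finset.mem_singleton]
      refine ⟨fun e => ?_, fun e => e.1⟩
      subst e; simp [h]
    · rw [if_neg h]
      simp only [Finset.notMem_empty, false_iff]
      rintro ⟨rfl, h1, h2⟩
      exact h ⟨by simpa using h1.symm, by simpa using h2⟩
  | vs :: l, n, s, xs => by
    simp only [listSet, Finset.mem_biUnion, List.mem_toFinset]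
    constructor
    · rintro ⟨v, hv, hx⟩
      split at hx
      · next hle =>
        simp only [Finset.mem_image, mem_listSet M l] at hx
        obtain ⟨ys, ⟨hF, hn, hs⟩, rfl⟩ := hx
        refine ⟨List.Forall₂.cons hv hF, ?_, ?_⟩
        · simp only [List.map_cons, List.sum_cons, hn]; omega
        · rwa [List.sum_cons, ← sub_sub]
      · simp at hx
    · rintro ⟨hF, hn, hs⟩
      cases hF with
      | @cons a _ ys _ hv hF =>
        simp only [List.map_cons, List.sum_cons] at hn
        refine ⟨a, hv, ?_⟩
        rw [if_pos (by omega), Finset.mem_image]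
        refine ⟨ys, (mem_listSet M l _ _ _).mpr ⟨hF, by omega, ?_⟩, rfl⟩
        rwa [List.sum_cons, ← sub_sub] at hs

theorem card_listSet (M : ℕ) : ∀ (l : List (List ℤ)) (n : ℕ) (s : ℤ), (∀ vs ∈ l, vs.Nodup) →
    (listSet M l n s).card = cntR M l n s
  | [], n, s, _ => by
    rw [listSet, cntR]; split <;> simp
  | vs :: l, n, s, h => by
    rw [listSet, cntR, Finset.card_biUnion, List.sum_toFinset _ (h vs (by simp))]
    · congr 1
      refine List.map_congr_left fun v _ => ?_
      split
      · rw [Finset.card_image_of_injective _ fun a b e => by simpa using e,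
          card_listSet M l _ _ fun ws hw => h ws (by simp [hw])]
      · rfl
    · intro a _ b _ hab
      rw [Function.onFun, Finset.disjoint_left]
      intro x hx hx'
      split at hx
      · split at hx'
        · simp only [Finset.mem_image] at hx hx'
          obtain ⟨y, -, rfl⟩ := hx
          obtain ⟨z, -, e⟩ := hx'
          exact hab (List.cons.inj e).1.symm
        · simp at hx'
      · simp at hx

theorem cntR_congr (M : ℕ) : ∀ (l : List (List ℤ)) (n : ℕ) (s t : ℤ), (M : ℤ) ∣ s - t →
    cntR M l n s = cntR M l n t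
  | [], n, s, t, h => by
    rw [cntR, cntR]
    have : ((M : ℤ) ∣ s ↔ (M : ℤ) ∣ t) :=
      ⟨fun hs => by have := dvd_sub hs h; simpa using this,
        fun ht => by have := dvd_add h ht; simpa using this⟩
    simp only [this]
  | vs :: l, n, s, t, h => by
    rw [cntR, cntR]
    congr 1
    refine List.map_congr_left fun v _ => ?_
    rw [cntR_congr M l _ (s - v) (t - v) (by simpa using h)]

theorem sum_map_swap {α β : Type*} (f : α → β → ℕ) : ∀ (A : List α) (B : List β),
    (A.map fun a => (B.map fun b => f a b).sum).sum = (B.map fun b => (A.map fun a => f a b).sum).sum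
  | [], B => by simp
  | a :: A, B => by
    simp only [List.map_cons, List.sum_cons, sum_map_swap f A B]
    rw [← List.sum_map_add]

theorem cntR_perm (M : ℕ) {l l' : List (List ℤ)} (h : l.Perm l') :
    ∀ (n : ℕ) (s : ℤ), cntR M l n s = cntR M l' n s := by
  induction h with
  | nil => intros; rfl
  | cons x _ ih => intro n s; simp only [cntR, ih]
  | trans _ _ ih1 ih2 => intro n s; rw [ih1, ih2]
  | swap x y l =>
    intro n s
    simp only [cntR]
    let f : ℤ → ℤ → ℕ := fun a b => if a.natAbs ^ 2 + b.natAbs ^ 2 ≤ n then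
      cntR M l (n - (a.natAbs ^ 2 + b.natAbs ^ 2)) (s - (a + b)) else 0
    have key : ∀ (A B : List ℤ), (A.map fun a => if a.natAbs ^ 2 ≤ n then
        (B.map fun b => if b.natAbs ^ 2 ≤ n - a.natAbs ^ 2 then
          cntR M l (n - a.natAbs ^ 2 - b.natAbs ^ 2) (s - a - b) else 0).sum else 0).sum =
        (A.map fun a => (B.map fun b => f a b).sum).sum := by
      intro A B
      congr 1
      refine List.map_congr_left fun a _ => ?_
      by_cases ha : a.natAbs ^ 2 ≤ n
      · rw [if_pos ha]
        congr 1
        refine List.map_congr_left fun b _ => ?_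
        simp only [f]
        rw [Nat.sub_sub, sub_sub]
        exact if_congr (by omega) rfl rfl
      · rw [if_neg ha]
        symm
        rw [List.sum_eq_zero]
        intro z hz
        obtain ⟨b, -, rfl⟩ := List.mem_map.mp hz
        exact if_neg (by omega)
    rw [key, key, sum_map_swap]
    congr 1
    refine List.map_congr_left fun a _ => ?_
    congr 1
    refine List.map_congr_left fun b _ => ?_
    simp only [f, add_comm a b, add_comm (a.natAbs ^ 2)]

/-! ### Table evaluation -/

/-- Pointwise sum of rows. -/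
def addRow (a b : List ℕ) : List ℕ := List.zipWith (· + ·) a b

/-- A row shifted up by `k`. -/
def shiftRow (N k : ℕ) (a : List ℕ) : List ℕ := (List.replicate k 0 ++ a).take (N + 1)

theorem addRow_length (a b : List ℕ) : (addRow a b).length = min a.length b.length :=
  List.length_zipWith

theorem addRow_getD {a b : List ℕ} {n : ℕ} (ha : n < a.length) (hb : n < b.length) :
    (addRow a b).getD n 0 = a.getD n 0 + b.getD n 0 := by
  simp [addRow, List.getD_eq_getElem?_getD, List.getElem?_zipWith, List.getElem?_eq_getElem ha,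
    List.getElem?_eq_getElem hb]

theorem shiftRow_length {N k : ℕ} {a : List ℕ} (ha : a.length = N + 1) :
    (shiftRow N k a).length = N + 1 := by
  unfold shiftRow
  rw [List.length_take, List.length_append, List.length_replicate, ha]
  omega

theorem shiftRow_getD {N k n : ℕ} {a : List ℕ} (ha : a.length = N + 1) (hn : n ≤ N) :
    (shiftRow N k a).getD n 0 = if k ≤ n then a.getD (n - k) 0 else 0 := by
  unfold shiftRow
  rw [List.getD_eq_getElem?_getD, List.getElem?_take, if_pos (by omega), List.getElem?_append,
    List.length_replicate]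
  by_cases h : k ≤ n
  · rw [if_neg (by omega), if_pos h, List.getD_eq_getElem?_getD]
  · rw [if_pos (by omega), if_neg h, List.getElem?_replicate, if_pos (by omega)]; rfl

/-- Table of `cntR` for all `n ≤ N`, `s < M`. -/
def cntTab (M N : ℕ) : List (List ℤ) → List (List ℕ)
  | [] => (List.range M).map fun s => (List.range (N + 1)).map fun n =>
      if n = 0 ∧ s = 0 then 1 else 0
  | vs :: l =>
    let T := cntTab M N l
    (List.range M).map fun s : ℕ => vs.foldr
      (fun v acc => addRow (shiftRow N (v.natAbs ^ 2) (T.getD (((s : ℤ) - v) % M).toNat [])) acc)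
      (List.replicate (N + 1) 0)

theorem cntTab_spec (M N : ℕ) (hM : 0 < M) : ∀ (l : List (List ℤ)) (s : ℕ), s < M →
    ((cntTab M N l).getD s []).length = N + 1 ∧
      ∀ n ≤ N, ((cntTab M N l).getD s []).getD n 0 = cntR M l n (s : ℤ)
  | [], s, hs => by
    rw [cntTab, List.getD_eq_getElem?_getD, List.getElem?_map, List.getElem?_range hs]
    refine ⟨by simp, fun n hn => ?_⟩
    simp only [Option.map_some, Option.getD_some, List.getD_eq_getElem?_getD, List.getElem?_map,
      List.getElem?_range (Nat.lt_succ_of_le hn), cntR]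
    refine if_congr ⟨fun h => ⟨h.1, by simp [h.2]⟩, fun h => ⟨h.1, ?_⟩⟩ rfl rfl
    exact Nat.eq_zero_of_dvd_of_lt (by exact_mod_cast h.2) hs
  | vs :: l, s, hs => by
    rw [cntTab, List.getD_eq_getElem?_getD, List.getElem?_map, List.getElem?_range hs]
    simp only [Option.map_some, Option.getD_some]
    have hrow : ∀ v : ℤ, (((s : ℤ) - v) % M).toNat < M := fun v => by
      have h1 := Int.emod_nonneg ((s : ℤ) - v) (by omega : (M : ℤ) ≠ 0)
      have h2 := Int.emod_lt_of_pos ((s : ℤ) - v) (by omega : (0 : ℤ) < M)
      omega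
    induction vs with
    | nil =>
      refine ⟨by simp, fun n hn => ?_⟩
      simp [cntR, List.getD_eq_getElem?_getD, List.getElem?_replicate, hn]
    | cons v vs ih =>
      obtain ⟨hlen, hval⟩ := ih
      obtain ⟨hTlen, hTval⟩ := cntTab_spec M N hM l _ (hrow v)
      have hlen' := shiftRow_length (k := v.natAbs ^ 2) hTlen
      rw [List.foldr_cons]
      refine ⟨by rw [addRow_length, hlen', hlen, min_self], fun n hn => ?_⟩
      rw [addRow_getD (by omega) (by omega), shiftRow_getD hTlen hn, hval n hn, cntR, cntR,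
        List.map_cons, List.sum_cons]
      congr 1
      by_cases hv : v.natAbs ^ 2 ≤ n
      · rw [if_pos hv, if_pos hv, hTval (n - v.natAbs ^ 2) (by omega)]
        refine cntR_congr M l _ _ _ ?_
        rw [Int.toNat_of_nonneg (Int.emod_nonneg _ (by omega))]
        rw [Int.emod_def]
        simp
      · rw [if_neg hv, if_neg hv]

/-- Evaluation of `cntR` by table. -/
def cntEval (M : ℕ) (l : List (List ℤ)) (n : ℕ) (s : ℤ) : ℕ :=
  ((cntTab M n l).getD (s % M).toNat []).getD n 0

theorem cntEval_eq {M : ℕ} (hM : 0 < M) (l : List (List ℤ)) (n : ℕ) (s : ℤ) :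
    cntEval M l n s = cntR M l n s := by
  have h1 := Int.emod_nonneg s (by omega : (M : ℤ) ≠ 0)
  have h2 := Int.emod_lt_of_pos s (by omega : (0 : ℤ) < M)
  rw [cntEval, (cntTab_spec M n hM l (s % M).toNat (by omega)).2 n le_rfl]
  refine cntR_congr M l _ _ _ ?_
  rw [Int.toNat_of_nonneg h1, Int.emod_def]
  simp

/-! ### Lattice vectors by code word pattern -/

/-- The possible coordinates in vectors of norm at most 80. -/
def valRange : List ℤ := [-8, -7, -6, -5, -4, -3, -2, -1, 0, 1, 2, 3, 4, 5, 6, 7, 8]

/-- Values allowed at position `i` for parity `m`, code mask `k` and restriction `P`. -/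
def allowedAt (P : ℕ → ℤ → Bool) (m : ℤ) (k : ℕ) (i : ℕ) : List ℤ :=
  valRange.filter fun v => (v % 4 == (m + if k.testBit i then 2 else 0) % 4) && P i v

/-- The pattern list of a code mask. -/
def patList (P : ℕ → ℤ → Bool) (m : ℤ) (k : ℕ) : List (List ℤ) :=
  (List.range 24).map (allowedAt P m k)

theorem isCode_maskWhere {x : GolayPt → ℤ} (hx : x ∈ leechLattice) {m : ℤ}
    (hm : ∀ p, (x p - m) % 2 = 0) :
    isCode (maskWhere fun p => decide ((x p - m) % 4 = 2)) = true := by
  obtain ⟨n, a, ha, -, hw⟩ := mem_leech.mp hx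
  have hn : (2 : ℤ) ∣ n - m := by have := hm none; rw [ha none] at this; omega
  obtain ⟨j, hj⟩ := hn
  have h2 : (res2 a + fun _ => ((j : ℤ) : ZMod 2)) ∈ golayCode := by
    refine add_mem hw ?_
    have e : (fun _ => ((j : ℤ) : ZMod 2) : GolayPt → ZMod 2) =
        ((j : ℤ) : ZMod 2) • (1 : GolayPt → ZMod 2) := by ext; simp
    rw [e]
    exact Submodule.smul_mem _ _ one_mem_golayCode
  have h3 := mem_golayCode_iff_support.mp h2
  rw [support₂_res2_add, mem_supports_iff] at h3
  convert h3 using 2
  simp only [maskWhere]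
  congr 1
  ext p
  simp only [Finset.mem_filter, Finset.mem_univ, true_and, decide_eq_true_eq]
  rw [ha p]
  omega

theorem testBit_maskWhere (f : GolayPt → Bool) (p : GolayPt) :
    (maskWhere f).testBit (idx p) = f p := by
  have h : p ∈ setOf24 (maskWhere f) ↔ f p = true := by
    rw [maskWhere, setOf24_maskOf]; simp
  rw [mem_setOf24] at h
  exact Bool.eq_iff_iff.mpr h

theorem leech_of_pattern {x : GolayPt → ℤ} {m : ℤ} {k : ℕ} (hk : isCode k = true)
    (hp : ∀ p, x p % 4 = (m + if k.testBit (idx p) then 2 else 0) % 4)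
    (hs : ∑ p, x p ≡ 4 * m [ZMOD 8]) : x ∈ leechLattice := by
  rw [mem_leech]
  have h2 : ∀ p, (x p - m) % 2 = 0 := fun p => by have := hp p; split at this <;> omega
  refine ⟨m, fun p => (x p - m) / 2, fun p => by have := h2 p; dsimp only; omega, hs, ?_⟩
  rw [mem_golayCode_iff_support]
  convert setOf24_mem_supports hk using 1
  ext p
  rw [mem_setOf24]
  simp only [support₂, res2, Finset.mem_filter, Finset.mem_univ, true_and, ne_eq,
    ZMod.intCast_zmod_eq_zero_iff_dvd]
  have := h2 p
  have := hp p
  push_cast
  cases hb : k.testBit (idx p) <;>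
    simp only [hb, Bool.false_eq_true, if_true, if_false, iff_true, iff_false, not_not] at this ⊢ <;>
    omega

/-- The parity belonging to a coordinate sum. -/
def parityOf (t : ℤ) : ℤ := if t % 8 = 0 then 0 else 1

/-- The vectors counted: norm `n`, coordinate sum `t` mod `M`, values restricted by `P`. -/
def countSet (M : ℕ) (P : ℕ → ℤ → Bool) (n : ℕ) (t : ℤ) : Set (GolayPt → ℤ) :=
  {x | x ∈ leechLattice ∧ sqNorm x = n ∧ (M : ℤ) ∣ t - ∑ p, x p ∧ ∀ p, P (idx p) (x p) = true}

theorem natAbs_sq_cast (v : ℤ) : ((v.natAbs ^ 2 : ℕ) : ℤ) = v ^ 2 := by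
  push_cast; rw [sq_abs]

theorem sum_univ_list {β : Type*} [AddCommMonoid β] (f : GolayPt → β) :
    ∑ p, f p = ((List.range 24).map fun i => f (pt i)).sum := by
  rw [← List.sum_toFinset _ (List.nodup_range)]
  refine Finset.sum_nbij' idx pt (fun p _ => by simp [idx_lt p]) (by simp) (fun p _ => pt_idx p)
    (fun i hi => idx_pt (by simpa using hi)) (fun p _ => by rw [pt_idx])

theorem countSet_eq (M : ℕ) (h8 : 8 ∣ M) (P : ℕ → ℤ → Bool) (n : ℕ) (hn : n ≤ 80) (t : ℤ)
    (ht : t % 8 = 0 ∨ t % 8 = 4) :
    countSet M P n t = ⋃ k ∈ Finset.range 4096,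
      vec '' (listSet M (patList P (parityOf t) (codeMask k)) n t : Set (List ℤ)) := by
  have hM8 : (8 : ℤ) ∣ (M : ℤ) := by exact_mod_cast h8
  ext x
  simp only [countSet, Set.mem_setOf_eq, Set.mem_iUnion, Set.mem_image, Finset.mem_coe,
    Finset.mem_range, exists_prop, mem_listSet, List.forall₂_iff_get, patList, List.length_map,
    List.length_range]
  constructor
  · rintro ⟨hx, hnorm, hsum, hP⟩
    have hm : ∀ p, (x p - parityOf t) % 2 = 0 := by
      obtain ⟨m, a, ha, hs, -⟩ := mem_leech.mp hx
      intro p
      have := ha p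
      have h8' := dvd_trans hM8 hsum
      unfold Int.ModEq at hs
      unfold parityOf
      split <;> omega
    obtain ⟨k, hk, hkm⟩ := exists_codeMask (isCode_maskWhere hx hm)
    refine ⟨k, hk, toList x, ⟨⟨toList_length x, fun i h1 h2 => ?_⟩, ?_, ?_⟩, vec_toList x⟩
    · rw [toList_length] at h1
      simp only [List.get_eq_getElem, toList, List.getElem_map, List.getElem_range, allowedAt,
        List.mem_filter, Bool.and_eq_true, beq_iff_eq]
      refine ⟨?_, ?_, ?_⟩
      · have hle : x (pt i) ^ 2 ≤ sqNorm x :=
          Finset.single_le_sum (f := fun p => x p ^ 2) (fun p _ => sq_nonneg _) (Finset.mem_univ _)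
        have h81 : x (pt i) ^ 2 < 9 ^ 2 := by omega
        rw [sq_lt_sq, abs_lt] at h81
        simp only [valRange, List.mem_cons, List.not_mem_nil, or_false]
        norm_num at h81 ⊢
        omega
      · rw [← hkm]
        have h4 := testBit_maskWhere (fun p => decide ((x p - parityOf t) % 4 = 2)) (pt i)
        rw [idx_pt h1] at h4
        rw [h4]
        have := hm (pt i)
        by_cases hb : (x (pt i) - parityOf t) % 4 = 2 <;>
          simp only [hb, decide_true, decide_false, Bool.false_eq_true, if_true, if_false] <;> omega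
      · have := hP (pt i)
        rwa [idx_pt h1] at this
    · rw [toList, List.map_map]
      have := sum_univ_list fun p => x p ^ 2
      simp only [sqNorm] at hnorm
      rw [hnorm] at this
      have h2 : ((((List.range 24).map fun i => (x (pt i)).natAbs ^ 2).sum : ℕ) : ℤ) = n := by
        rw [this, Nat.cast_list_sum, List.map_map]
        exact congrArg List.sum (List.map_congr_left fun i _ => natAbs_sq_cast _)
      exact_mod_cast h2
    · rwa [toList, ← sum_univ_list]
  · rintro ⟨k, hk, xs, ⟨⟨hlen, hv⟩, hsq, hsum⟩, rfl⟩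
    have hv' : ∀ p, vec xs p ∈ allowedAt P (parityOf t) (codeMask k) (idx p) := fun p => by
      have hp : idx p < xs.length := by rw [hlen]; exact idx_lt p
      have := hv (idx p) hp (idx_lt p)
      simp only [List.get_eq_getElem, List.getElem_map, List.getElem_range] at this
      simpa [vec, List.getD_eq_getElem?_getD, List.getElem?_eq_getElem hp] using this
    simp only [allowedAt, List.mem_filter, Bool.and_eq_true, beq_iff_eq] at hv'
    have hL : ((List.range 24).map fun i => vec xs (pt i)) = xs := toList_vec hlen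
    have hsum' : (M : ℤ) ∣ t - ∑ p, vec xs p := by rw [sum_univ_list, hL]; exact hsum
    refine ⟨leech_of_pattern (isCode_codeMask k) (fun p => (hv' p).2.1) ?_, ?_, hsum',
      fun p => (hv' p).2.2⟩
    · have h8' := dvd_trans hM8 hsum'
      unfold Int.ModEq parityOf
      split <;> omega
    · have e : xs.map (fun v : ℤ => v ^ 2) = (List.range 24).map fun i => vec xs (pt i) ^ 2 := by
        conv_lhs => rw [← hL]
        rw [List.map_map]; rfl
      rw [sqNorm, sum_univ_list, ← e, ← hsq, Nat.cast_list_sum, List.map_map]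
      exact congrArg List.sum (List.map_congr_left fun i _ => (natAbs_sq_cast _).symm)

theorem allowedAt_nodup (P : ℕ → ℤ → Bool) (m : ℤ) (k i : ℕ) : (allowedAt P m k i).Nodup :=
  List.Nodup.filter _ (by decide)

theorem ncard_countSet (M : ℕ) (h8 : 8 ∣ M) (P : ℕ → ℤ → Bool) (n : ℕ) (hn : n ≤ 80) (t : ℤ)
    (ht : t % 8 = 0 ∨ t % 8 = 4) :
    (countSet M P n t).ncard =
      ∑ k ∈ Finset.range 4096, cntR M (patList P (parityOf t) (codeMask k)) n t := by
  classical
  rw [countSet_eq M h8 P n hn t ht]
  have hfin : (⋃ k ∈ Finset.range 4096,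
      vec '' (listSet M (patList P (parityOf t) (codeMask k)) n t : Set (List ℤ))) =
      ↑((Finset.range 4096).biUnion fun k =>
        (listSet M (patList P (parityOf t) (codeMask k)) n t).image vec) := by
    simp
  have hlen : ∀ k, ∀ xs ∈ listSet M (patList P (parityOf t) (codeMask k)) n t, xs.length = 24 := by
    intro k xs h
    simpa [patList] using ((mem_listSet M _ _ _ _).mp h).1.length_eq
  rw [hfin, Set.ncard_coe_finset, Finset.card_biUnion]
  · refine Finset.sum_congr rfl fun k _ => ?_
    rw [Finset.card_image_of_injOn, card_listSet]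
    · intro vs hvs
      obtain ⟨i, -, rfl⟩ := List.mem_map.mp hvs
      exact allowedAt_nodup _ _ _ _
    · intro a ha b hb e
      rw [← toList_vec (hlen k a ha), e, toList_vec (hlen k b hb)]
  · intro a ha b hb hab
    rw [Function.onFun, Finset.disjoint_left]
    intro x hxa hxb
    simp only [Finset.mem_image] at hxa hxb
    obtain ⟨xs, hxs, rfl⟩ := hxa
    obtain ⟨ys, hys, e⟩ := hxb
    have exy : ys = xs := by rw [← toList_vec (hlen b ys hys), e, toList_vec (hlen a xs hxs)]
    subst exy
    refine hab (codeMask_injOn (Finset.mem_range.mp ha) (Finset.mem_range.mp hb) ?_)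
    refine setOf24_inj (isCode_lt (isCode_codeMask a)) (isCode_lt (isCode_codeMask b)) ?_
    have hget : ∀ k, ys ∈ listSet M (patList P (parityOf t) (codeMask k)) n t → ∀ p : GolayPt,
        vec ys p % 4 = (parityOf t + if (codeMask k).testBit (idx p) then 2 else 0) % 4 := by
      intro k hk p
      obtain ⟨hF, -, -⟩ := (mem_listSet M _ _ _ _).mp hk
      rw [List.forall₂_iff_get] at hF
      have hl : idx p < ys.length := by rw [hlen k ys hk]; exact idx_lt p
      have := hF.2 (idx p) hl (by simp [patList, idx_lt p])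
      simp only [List.get_eq_getElem, patList, List.getElem_map, List.getElem_range, allowedAt,
        List.mem_filter, Bool.and_eq_true, beq_iff_eq] at this
      simpa [vec, List.getD_eq_getElem?_getD, List.getElem?_eq_getElem hl] using this.2.1
    ext p
    rw [mem_setOf24, mem_setOf24]
    have ha' := hget a hxs p
    have hb' := hget b hys p
    rw [ha'] at hb'
    cases h1 : (codeMask a).testBit (idx p) <;> cases h2 : (codeMask b).testBit (idx p) <;>
      simp only [h1, h2, Bool.false_eq_true, if_true, if_false, iff_self, false_iff, iff_false,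
        not_true_eq_false] at hb' ⊢ <;> omega

/-! ### Grouping code words with equivalent patterns -/

theorem map_perm_replicate {α : Type*} (g : ℕ → Bool) (A B : α) : ∀ l : List ℕ,
    (l.map fun i => if g i then A else B).Perm
      (List.replicate (l.countP g) A ++ List.replicate (l.length - l.countP g) B)
  | [] => by simp
  | i :: l => by
    have ih := map_perm_replicate g A B l
    have hc : l.countP g ≤ l.length := List.countP_le_length
    by_cases h : g i = true
    · simp [h, List.replicate_succ, ih]
    · simp only [Bool.not_eq_true] at h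
      simp only [List.map_cons, h, Bool.false_eq_true, if_false, List.countP_cons,
        List.length_cons, add_zero]
      rw [show l.length + 1 - l.countP g = l.length - l.countP g + 1 by omega, List.replicate_succ]
      exact (ih.cons B).trans List.perm_middle.symm

/-- The key of a code mask: weight on the ordinary positions and bits at the special ones. -/
def patKey (S rest : List ℕ) (k : ℕ) : ℕ × List Bool :=
  (rest.countP fun i => k.testBit i, S.map fun i => k.testBit i)

/-- The canonical pattern of a key, the restriction being `Q` on ordinary positions. -/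
def keyPat (S rest : List ℕ) (P : ℕ → ℤ → Bool) (Q : ℤ → Bool) (m : ℤ) (key : ℕ × List Bool) :
    List (List ℤ) :=
  (S.zip key.2).map (fun ib => allowedAt P m (if ib.2 then 2 ^ ib.1 else 0) ib.1) ++
    (List.replicate key.1 (allowedAt (fun _ => Q) m 1 0) ++
      List.replicate (rest.length - key.1) (allowedAt (fun _ => Q) m 0 0))

theorem zip_map_self {α β γ : Type*} (f : α → β) (g : α × β → γ) :
    ∀ S : List α, (S.zip (S.map f)).map g = S.map fun i => g (i, f i)
  | [] => rfl
  | a :: S => by simp [zip_map_self f g S]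

theorem patList_perm (S rest : List ℕ) (hperm : (S ++ rest).Perm (List.range 24))
    (P : ℕ → ℤ → Bool) (Q : ℤ → Bool) (hQ : ∀ i ∈ rest, ∀ v, P i v = Q v) (m : ℤ) (k : ℕ) :
    (patList P m k).Perm (keyPat S rest P Q m (patKey S rest k)) := by
  refine ((hperm.map _).symm).trans ?_
  rw [List.map_append, keyPat, patKey]
  refine List.Perm.append (List.Perm.of_eq ?_) ?_
  · rw [zip_map_self]
    refine List.map_congr_left fun i _ => ?_
    cases h : k.testBit i <;> simp [allowedAt, h, Nat.testBit_two_pow]
  · refine (List.Perm.of_eq ?_).trans (map_perm_replicate (fun i => k.testBit i)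
      (allowedAt (fun _ => Q) m 1 0) (allowedAt (fun _ => Q) m 0 0) rest)
    refine List.map_congr_left fun i hi => ?_
    cases h : k.testBit i <;> simp [allowedAt, h, hQ i hi]

/-- A table of keys with multiplicities covering all code words. -/
def keyTableOK (S rest : List ℕ) (tbl : List ((ℕ × List Bool) × ℕ)) : Bool :=
  let ks := (List.range 4096).map fun k => patKey S rest (codeMask k)
  (tbl.map Prod.fst).Nodup && (tbl.map Prod.snd).sum == 4096 &&
    tbl.all fun e => ks.countP (fun c => decide (c = e.1)) == e.2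

theorem sum_by_keys {γ : Type*} [DecidableEq γ] (f : γ → ℕ) (key : ℕ → γ) (N : ℕ)
    (tbl : List (γ × ℕ)) (hnd : (tbl.map Prod.fst).Nodup) (htot : (tbl.map Prod.snd).sum = N)
    (hc : ∀ e ∈ tbl, ((List.range N).map key).countP (fun c => decide (c = e.1)) = e.2) :
    ∑ k ∈ Finset.range N, f (key k) = (tbl.map fun e => e.2 * f e.1).sum := by
  classical
  have hcount : ∀ e ∈ tbl, ((Finset.range N).filter fun k => key k = e.1).card = e.2 := by
    intro e he
    rw [← hc e he, List.countP_map, List.countP_eq_length_filter]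
    show (Multiset.filter _ (Multiset.range N)).card = _
    rw [Multiset.range, Multiset.filter_coe, Multiset.coe_card]
    rfl
  have hsum : ∀ g : γ → ℕ, (tbl.map fun e => e.2 * g e.1).sum =
      ∑ c ∈ (tbl.map Prod.fst).toFinset, ((Finset.range N).filter fun k => key k = c).card * g c := by
    intro g
    rw [List.sum_toFinset _ hnd, List.map_map]
    exact congrArg List.sum (List.map_congr_left fun e he => by simp [hcount e he])
  have hall : ∀ k ∈ Finset.range N, key k ∈ (tbl.map Prod.fst).toFinset := by
    intro k hk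
    by_contra hne
    have h1 := hsum fun _ => 1
    simp only [mul_one, htot] at h1
    rw [Finset.sum_card_fiberwise_eq_card_filter] at h1
    have : ((Finset.range N).filter fun k => key k ∈ (tbl.map Prod.fst).toFinset).card < N := by
      conv_rhs => rw [← Finset.card_range N]
      exact Finset.card_lt_card (Finset.filter_ssubset.mpr ⟨k, hk, hne⟩)
    omega
  rw [hsum, ← Finset.sum_fiberwise_of_maps_to hall]
  refine Finset.sum_congr rfl fun c _ => ?_
  rw [Finset.sum_congr rfl fun k hk => congrArg f (Finset.mem_filter.mp hk).2, Finset.sum_const,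
    smul_eq_mul]

/-- The count, evaluated over a key table. -/
def countVal (M : ℕ) (S rest : List ℕ) (P : ℕ → ℤ → Bool) (Q : ℤ → Bool) (n : ℕ) (t : ℤ)
    (tbl : List ((ℕ × List Bool) × ℕ)) : ℕ :=
  (tbl.map fun e => e.2 * cntEval M (keyPat S rest P Q (parityOf t) e.1) n t).sum

theorem ncard_countSet_eval (M : ℕ) (hM : 0 < M) (h8 : 8 ∣ M) (S rest : List ℕ)
    (hperm : (S ++ rest).Perm (List.range 24)) (P : ℕ → ℤ → Bool) (Q : ℤ → Bool)
    (hQ : ∀ i ∈ rest, ∀ v, P i v = Q v) (n : ℕ) (hn : n ≤ 80) (t : ℤ)
    (ht : t % 8 = 0 ∨ t % 8 = 4) (tbl : List ((ℕ × List Bool) × ℕ))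
    (htbl : keyTableOK S rest tbl = true) :
    (countSet M P n t).ncard = countVal M S rest P Q n t tbl := by
  simp only [keyTableOK, Bool.and_eq_true, decide_eq_true_eq, beq_iff_eq, List.all_eq_true] at htbl
  obtain ⟨⟨hnd, htot⟩, hc⟩ := htbl
  rw [ncard_countSet M h8 P n hn t ht, countVal]
  simp only [cntEval_eq hM]
  rw [← sum_by_keys (fun key => cntR M (keyPat S rest P Q (parityOf t) key) n t)
    (fun k => patKey S rest (codeMask k)) 4096 tbl hnd htot hc]
  exact Finset.sum_congr rfl fun k _ => cntR_perm M (patList_perm S rest hperm P Q hQ _ _) n t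

/-! ### The norm shells -/

/-- Key table without special positions. -/
def keys0 : List ((ℕ × List Bool) × ℕ) :=
  [((0, []), 1), ((8, []), 759), ((12, []), 2576), ((16, []), 759), ((24, []), 1)]

theorem keys0_ok : keyTableOK [] (List.range 24) keys0 = true := by decide +kernel

/-- The set of norm `n` vectors with all coordinates allowed by `Q` splits by the coordinate sum. -/
theorem ncard_shell (Q : ℤ → Bool) (n : ℕ) (hn : n ≤ 80) :
    {x : GolayPt → ℤ | x ∈ leechLattice ∧ sqNorm x = n ∧ ∀ p, Q (x p) = true}.ncard =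
      countVal 8 [] (List.range 24) (fun _ => Q) Q n 0 keys0 +
      countVal 8 [] (List.range 24) (fun _ => Q) Q n 4 keys0 := by
  have hc : ∀ t : ℤ, t = 0 ∨ t = 4 → (countSet 8 (fun _ => Q) n t).ncard =
      countVal 8 [] (List.range 24) (fun _ => Q) Q n t keys0 := fun t ht =>
    ncard_countSet_eval 8 (by norm_num) (dvd_refl 8) [] (List.range 24)
      (List.Perm.of_eq (List.nil_append _)) _ Q (fun _ _ _ => rfl) n hn t (by omega) keys0 keys0_ok
  have hfin : ∀ t, (countSet 8 (fun _ => Q) n t).Finite := fun t => by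
    refine Set.Finite.subset (Set.Finite.pi' fun _ : GolayPt => Set.finite_Icc (-(n : ℤ)) n)
      fun x hx p => ?_
    have h1 : x p ^ 2 ≤ sqNorm x :=
      Finset.single_le_sum (f := fun q => x q ^ 2) (fun q _ => sq_nonneg _) (Finset.mem_univ _)
    have h2 : |x p| ≤ x p ^ 2 := by rw [← sq_abs]; exact Int.le_self_sq |x p|
    rw [hx.2.1] at h1
    exact ⟨by have := neg_abs_le (x p); omega, by have := le_abs_self (x p); omega⟩
  rw [← hc 0 (Or.inl rfl), ← hc 4 (Or.inr rfl),
    ← Set.ncard_union_eq ?_ (hfin 0) (hfin 4)]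
  · congr 1
    ext x
    simp only [Set.mem_setOf_eq, countSet, Set.mem_union]
    constructor
    · rintro ⟨hx, hn', hQ⟩
      obtain ⟨m, a, ha, hs, -⟩ := mem_leech.mp hx
      unfold Int.ModEq at hs
      rcases (by omega : (8 : ℤ) ∣ 0 - ∑ i, x i ∨ (8 : ℤ) ∣ 4 - ∑ i, x i) with h | h
      · exact Or.inl ⟨hx, hn', h, hQ⟩
      · exact Or.inr ⟨hx, hn', h, hQ⟩
    · rintro (⟨hx, hn', -, hQ⟩ | ⟨hx, hn', -, hQ⟩) <;> exact ⟨hx, hn', hQ⟩
  · rw [Set.disjoint_left]
    rintro x ⟨-, -, h, -⟩ ⟨-, -, h', -⟩
    push_cast at h h'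
    omega

theorem ncard_norm {n : ℕ} (hn : n ≤ 80) {c : ℕ}
    (h : countVal 8 [] (List.range 24) (fun _ _ => true) (fun _ => true) n 0 keys0 +
      countVal 8 [] (List.range 24) (fun _ _ => true) (fun _ => true) n 4 keys0 = c) :
    {x : GolayPt → ℤ | x ∈ leechLattice ∧ sqNorm x = n}.ncard = c := by
  rw [← h, ← ncard_shell (fun _ => true) n hn]
  congr 1
  ext x
  simp

theorem ncard_norm32 : {x : GolayPt → ℤ | x ∈ leechLattice ∧ sqNorm x = 32}.ncard = 196560 :=
  ncard_norm (n := 32) (by norm_num) (by decide +kernel)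

theorem ncard_norm48 : {x : GolayPt → ℤ | x ∈ leechLattice ∧ sqNorm x = 48}.ncard = 16773120 :=
  ncard_norm (n := 48) (by norm_num) (by decide +kernel)

theorem ncard_norm64 : {x : GolayPt → ℤ | x ∈ leechLattice ∧ sqNorm x = 64}.ncard = 398034000 :=
  ncard_norm (n := 64) (by norm_num) (by decide +kernel)

end CfsgLib.Leech
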