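import Cfsg.Agent.Leech.ConfigMain

/-!
An involution fixing `baseD` and `baseW` and moving all 100 points.
-/

set_option autoImplicit false
set_option maxRecDepth 100000

namespace CfsgLib.Leech

open Cfsg CfsgLib.Mathieu TreeData

/-- The moves of the involution. -/
def hsInvMoves : List Mv :=
  [.mono 564154434161200215254675764420661882197403043334027873536 0,
   .mono 565690678488042626584852509485807885450515210472234942976 0,
   .mono 564150306857986697833997942962623398299666812004958148096 0,
   .mono 564154434161200215254675764420661882197403043334027873536 0,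
   .mono 565690678488042626584852509485807885450515210472234942976 0,
   .mono 564154434161200215254675764420661882197403043334027873536 0,
   .mono 172981210347255110855961364605477305507224572789131116566 8510684,
   .xi,
   .mono 393572243807448882821060672763878437765637819330244054801 5586596,
   .xi,
   .mono 295007288680308724404198611098619684685445032500217580041 4014875]

theorem hsInv_checks : hsInvMoves.all Mv.ok = true ∧ hsFix.all (fun f => runMoves hsInvMoves f == f) = true ∧
    ((treeList hsGens [penc hsRoot] hsLvls).all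
      fun c => decide (vec (runMoves hsInvMoves (dec c)) ≠ vec (dec c))) = true := by
  decide +kernel

theorem hsInv_square :
    vec (runMoves (hsInvMoves ++ hsInvMoves) (toList oddVec)) = oddVec ∧
      (∀ r ∈ codeRows, vec (runMoves (hsInvMoves ++ hsInvMoves) (toList (twiceMask r))) = twiceMask r) ∧
      ∀ p : ZMod 23,
        vec (runMoves (hsInvMoves ++ hsInvMoves) (toList (pairVec p 1))) = pairVec p 1 ∧
        vec (runMoves (hsInvMoves ++ hsInvMoves) (toList (pairVec p (-1)))) = pairVec p (-1) := by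
  decide +kernel

theorem exists_hs_involution : ∃ g : Co0, g • bD = bD ∧ g • bW = bW ∧ orderOf g = 2 ∧
    ∀ x : leechLattice, (x : GolayPt → ℤ) ∈ set100 → g • x ≠ x := by
  obtain ⟨hok, hfix, hmove⟩ := hsInv_checks
  obtain ⟨g, -, hg⟩ := runMoves_spec hsInvMoves hok
  have hval : ∀ (x : leechLattice) (l : List ℤ), (x : GolayPt → ℤ) = vec l →
      ((g • x : leechLattice) : GolayPt → ℤ) = vec (runMoves hsInvMoves l) := by
    intro x l e
    obtain ⟨x, hx⟩ := x
    obtain rfl : x = vec l := e
    exact hg l hx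
  have hfx : ∀ f ∈ hsFix, runMoves hsInvMoves f = f := fun f hf => by
    simpa using List.all_eq_true.mp hfix f hf
  have hmoved : ∀ x : leechLattice, (x : GolayPt → ℤ) ∈ set100 → g • x ≠ x := by
    intro x hx e
    rw [set_eq_tree hs_tree set100_finite ncard_set100.le sub100] at hx
    obtain ⟨c, hc, hcx⟩ := hx
    have h := List.all_eq_true.mp hmove c hc
    rw [decide_eq_true_iff] at h
    refine h ?_
    rw [← hval x _ hcx.symm, e]
    exact hcx.symm
  have hne : g ≠ 1 := fun e => hmoved bA
    ⟨⟨bA.2, base_facts.2.1.2, base_facts.2.2.2.2.2.1⟩, base_facts.2.2.2.2.2.2.2.2.2.2.1⟩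
    (by rw [e, one_smul])
  refine ⟨g, ?_, ?_, ?_, hmoved⟩
  · refine Subtype.ext ((hval bD hsFix[0] rfl).trans ?_)
    rw [hfx _ (List.getElem_mem _)]
    rfl
  · refine Subtype.ext ((hval bW hsFix[1] rfl).trans ?_)
    rw [hfx _ (List.getElem_mem _)]
    rfl
  refine orderOf_eq_prime ?_ hne
  refine co0_ext fun v => ?_
  rw [one_smul, pow_two]
  have hgen : ∀ y ∈ genSet, ∀ hy : y ∈ leechLattice,
      (g * g) • (⟨y, hy⟩ : leechLattice) = ⟨y, hy⟩ := by
    obtain ⟨h1, h2, h3⟩ := hsInv_square
    have key : ∀ y, vec (runMoves (hsInvMoves ++ hsInvMoves) (toList y)) = y →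
        ∀ hy : y ∈ leechLattice, (g * g) • (⟨y, hy⟩ : leechLattice) = ⟨y, hy⟩ := by
      intro y e hy
      refine Subtype.ext ?_
      rw [mul_smul, hval (g • (⟨y, hy⟩ : leechLattice)) (runMoves hsInvMoves (toList y))
        (hval _ (toList y) (vec_toList y).symm)]
      refine Eq.trans ?_ e
      rw [runMoves, runMoves, runMoves, List.foldl_append]
    intro y hy
    rcases hy with (rfl | ⟨r, hr, rfl⟩) | ⟨p, t, rfl | rfl, rfl⟩
    exacts [key _ h1, key _ (h2 r hr), key _ (h3 p).1, key _ (h3 p).2]
  obtain ⟨v, hv⟩ := v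
  suffices h : ∀ hv' : v ∈ leechLattice, (g * g) • (⟨v, hv'⟩ : leechLattice) = ⟨v, hv'⟩ from h hv
  refine (AddSubgroup.closure_induction (p := fun y _ => y ∈ leechLattice ∧
    ∀ hy : y ∈ leechLattice, (g * g) • (⟨y, hy⟩ : leechLattice) = ⟨y, hy⟩)
    (fun y hy => ⟨(genSet_spec y hy).1, hgen y hy⟩) ?_ ?_ ?_ (mem_closure_genSet hv)).2
  · exact ⟨zero_mem _, fun _ => map_zero (co0Hom (g * g))⟩
  · intro a b _ _ ha hb
    refine ⟨add_mem ha.1 hb.1, fun _ => ?_⟩
    exact (co0_add (g * g) ⟨a, ha.1⟩ ⟨b, hb.1⟩).trans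
      (congrArg₂ (· + ·) (ha.2 ha.1) (hb.2 hb.1))
  · intro a _ ha
    exact ⟨neg_mem ha.1, fun _ => (co0_neg (g * g) ⟨a, ha.1⟩).trans (congrArg Neg.neg (ha.2 ha.1))⟩

end CfsgLib.Leech
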