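import Cfsg.Agent.Leech.StabBottom

/-!
A member of order 11 of the stabilisers of the HS and McL pairs and its centraliser.
-/

set_option autoImplicit false

namespace CfsgLib.Leech

open Cfsg CfsgLib.Mathieu
open scoped Pointwise symmDiff

/-- Table of the permutation of order 11. -/
def tab11 : ℕ := 565685807291735023679156268760275852232164823779772663296
/-- Table of its inverse. -/
def tab11inv : ℕ := 565592636511285687785205909107777864049412421076638436096

/-- The function of the table. -/
def p11 (q : GolayPt) : GolayPt := pt (app tab11 (idx q))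
/-- The function of the inverse table. -/
def p11inv (q : GolayPt) : GolayPt := pt (app tab11inv (idx q))

/-- A permutation of order 11 with two fixed points. -/
def perm11 : Equiv.Perm GolayPt where
  toFun := p11
  invFun := p11inv
  left_inv := (by decide +kernel : ∀ q, p11inv (p11 q) = q)
  right_inv := (by decide +kernel : ∀ q, p11 (p11inv q) = q)

theorem perm11_mem : perm11 ∈ M24 :=
  mem_M24_of_table (rep_of_tableOK p11 (fun _ => rfl) (t := tab11) (by decide +kernel)) (by decide +kernel)

/-- The member of `Co0` of order 11. -/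
def pi11 : Co0 := permHom ⟨perm11, perm11_mem⟩

theorem orderOf_perm11 : orderOf perm11 = 11 := by
  have := Fact.mk (by norm_num : Nat.Prime 11)
  refine orderOf_eq_prime (Equiv.ext (by decide +kernel)) fun h => ?_
  exact (by decide +kernel : perm11 (pt 1) ≠ pt 1) (Equiv.congr_fun h (pt 1))

theorem orderOf_pi11 : orderOf pi11 = 11 := by
  rw [pi11, orderOf_injective permHom permHom_injective, Subgroup.orderOf_mk]
  exact orderOf_perm11

theorem perm11_fixes : perm11 none = none ∧ perm11 (pt 0) = pt 0 := by decide +kernel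

theorem pi11_mem_perm22 : (⟨perm11, perm11_mem⟩ : M24) ∈ perm22 := mem_perm22.2 perm11_fixes

/-- The cycle containing a point. -/
def cyc11 (q : GolayPt) : ℕ :=
  [0, 1, 1, 1, 1, 1, 1, 1, 2, 2, 2, 1, 2, 2, 1, 1, 2, 2, 2, 1, 2, 2, 2, 0].getD (idx q) 0

/-- The base point of a moving cycle. -/
def rep11 (q : GolayPt) : GolayPt :=
  if cyc11 q = 1 then pt 1 else if cyc11 q = 2 then pt 8 else q

/-- The step from the base point. -/
def step11 (q : GolayPt) : ℕ :=
  (((List.range 11).find? fun i => idx (p11^[i] (rep11 q)) == idx q).getD 0)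

theorem step11_spec : ∀ q, p11^[step11 q] (rep11 q) = q := by decide +kernel

/-- The candidate commuting with the permutation, given the images of the two base points. -/
def cand11 (a b : GolayPt) (q : GolayPt) : GolayPt :=
  if cyc11 q = 1 then p11^[step11 q] a else if cyc11 q = 2 then p11^[step11 q] b else q

theorem cand11_cases : ∀ a, cyc11 a ≠ 0 → ∀ b, cyc11 b ≠ 0 →
    (codeRows.all fun r => isCode (maskOf ((setOf24 r).image (cand11 a b)))) = true →
      ∀ q, (cand11 a b)^[11] q = q := by
  decide +kernel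

theorem cyc11_zero : ∀ q, cyc11 q = 0 → q = none ∨ q = pt 0 := by decide +kernel

/-- A permutation of the code fixing two points and commuting with `perm11` has order dividing 11. -/
theorem pow11_of_commute {τ : Equiv.Perm GolayPt} (hτ : τ ∈ M24) (h0 : τ none = none)
    (h1 : τ (pt 0) = pt 0) (hc : τ * perm11 = perm11 * τ) : τ ^ 11 = 1 := by
  have hstep : ∀ (i : ℕ) q, τ (p11^[i] q) = p11^[i] (τ q) := by
    intro i
    induction i with
    | zero => intro q; rfl
    | succ i ih =>
      intro q
      rw [Function.iterate_succ_apply', Function.iterate_succ_apply', ← ih]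
      exact Equiv.congr_fun hc _
  have hne : ∀ r, r ≠ none → r ≠ pt 0 → cyc11 (τ r) ≠ 0 := by
    intro r hr hr' e
    rcases cyc11_zero _ e with e' | e'
    · exact hr (τ.injective (e'.trans h0.symm))
    · exact hr' (τ.injective (e'.trans h1.symm))
  have ht : ⇑τ = cand11 (τ (pt 1)) (τ (pt 8)) := by
    funext q
    have h2 := hstep (step11 q) (rep11 q)
    rw [step11_spec] at h2
    unfold cand11
    by_cases c1 : cyc11 q = 1
    · rw [if_pos c1, h2, rep11, if_pos c1]
    by_cases c2 : cyc11 q = 2
    · rw [if_neg c1, if_pos c2, h2, rep11, if_neg c1, if_pos c2]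
    rw [if_neg c1, if_neg c2]
    have h3 : cyc11 q = 0 := by
      have : ∀ q, cyc11 q ≤ 2 := by decide +kernel
      have := this q
      omega
    rcases cyc11_zero q h3 with rfl | rfl <;> assumption
  have key := cand11_cases _ (hne (pt 1) (by decide +kernel) (by decide +kernel))
    _ (hne (pt 8) (by decide +kernel) (by decide +kernel)) (by
      rw [List.all_eq_true]
      intro r hr
      rw [← ht]
      exact (mem_supports_iff _).1 (setSystemAut_image_mem hτ
        (setOf24_mem_supports ((by decide +kernel : ∀ r ∈ codeRows, isCode r = true) r hr))))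
  refine Equiv.ext fun q => ?_
  rw [Equiv.Perm.coe_pow, ht]
  exact key q

/-- The four values of an invariant vector. -/
def quadVec (a b c d : ℤ) (q : GolayPt) : ℤ :=
  if cyc11 q = 1 then c else if cyc11 q = 2 then d else if q = none then a else b

theorem sum_quad (u : GolayPt → ℤ) (a b c d : ℤ) :
    ∑ q, u q * quadVec a b c d q = u none * a + u (pt 0) * b +
      (∑ q ∈ Finset.univ.filter (cyc11 · = 1), u q) * c +
      (∑ q ∈ Finset.univ.filter (cyc11 · = 2), u q) * d := by
  have h : ∀ q, u q * quadVec a b c d q = (if q = none then u q * a else 0) +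
      (if q = pt 0 then u q * b else 0) + (if cyc11 q = 1 then u q * c else 0) +
      (if cyc11 q = 2 then u q * d else 0) := by
    intro q
    have h1 : cyc11 (none : GolayPt) = 0 ∧ cyc11 (pt 0) = 0 := by decide +kernel
    have h2 : cyc11 q ≤ 2 := (by decide +kernel : ∀ q, cyc11 q ≤ 2) q
    unfold quadVec
    by_cases hn : q = none
    · subst hn; simp [h1.1, pt0_ne_none]
    by_cases hz : q = pt 0
    · subst hz; simp [h1.2, hn]
    have : cyc11 q ≠ 0 := fun e => by rcases cyc11_zero q e with e' | e' <;> contradiction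
    rcases (by omega : cyc11 q = 1 ∨ cyc11 q = 2) with e | e <;> simp [e, hn, hz]
  simp only [h, Finset.sum_add_distrib, Finset.sum_mul, Finset.sum_ite_eq', Finset.mem_univ, if_true,
    Finset.sum_filter, ite_mul, zero_mul]

theorem quad_unique : ∀ a ∈ Finset.Icc (-8 : ℤ) 8, ∀ b ∈ Finset.Icc (-8 : ℤ) 8,
    ∀ c ∈ Finset.Icc (-2 : ℤ) 2, ∀ d ∈ Finset.Icc (-2 : ℤ) 2,
      a ^ 2 + b ^ 2 + 11 * c ^ 2 + 11 * d ^ 2 = 64 → 5 * a + b + 11 * c + 11 * d = 40 →
        (4 * a + 4 * b = 32 ∨ -a - 5 * b - 11 * c - 11 * d = -8) → a = 8 ∧ b = 0 ∧ c = 0 ∧ d = 0 := by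
  decide +kernel

/-- The second vector of the pair. -/
def secondOK (v : leechLattice) : Prop := v = bA ∨ v = bW

set_option maxHeartbeats 1000000 in
/-- The image of an eight under what commutes with `pi11` takes four values. -/
theorem invariant_eight {y : Co0} (hc : y * pi11 = pi11 * y) :
    ∃ a b c d : ℤ, ((y • eightL none : leechLattice) : GolayPt → ℤ) = quadVec a b c d ∧
      64 = a ^ 2 + b ^ 2 + 11 * c ^ 2 + 11 * d ^ 2 := by
  have hconst : ∀ q, q ≠ none → (eight none : GolayPt → ℤ) q = (eight none : GolayPt → ℤ) (pt 1) := by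
    decide +kernel
  have hfix : pi11 • eightL none = eightL none :=
    perm23_fix (mem_perm23.2 perm11_fixes.1) (v := eightL none) hconst
  set f := ((y • eightL none : leechLattice) : GolayPt → ℤ) with hf
  have hinv : ∀ q, f (p11 q) = f q := by
    intro q
    have h1 : pi11 • y • eightL none = y • eightL none := by rw [smul_smul, ← hc, mul_smul, hfix]
    have h2 := congrFun (congrArg Subtype.val h1) (p11 q)
    rw [pi11, permHom_smul, show (perm11⁻¹ : Equiv.Perm GolayPt) (p11 q) = q from perm_inv_apply perm11 q,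
      ← hf] at h2
    exact h2.symm
  have hiter : ∀ (i : ℕ) q, f (p11^[i] q) = f q := by
    intro i
    induction i with
    | zero => intro q; rfl
    | succ i ih => intro q; rw [Function.iterate_succ_apply', hinv, ih]
  have hq : f = quadVec (f none) (f (pt 0)) (f (pt 1)) (f (pt 8)) := by
    funext q
    have e : f q = f (rep11 q) := by conv_lhs => rw [← step11_spec q, hiter]
    rw [e, quadVec, rep11]
    split_ifs with c1 c2 hn
    · rfl
    · rfl
    · rw [hn]
    · have h2 : cyc11 q ≤ 2 := (by decide +kernel : ∀ q, cyc11 q ≤ 2) q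
      rcases cyc11_zero q (by omega) with e' | e'
      · exact absurd e' hn
      · rw [e']
  obtain ⟨a, ha⟩ : ∃ a, f none = a := ⟨_, rfl⟩
  obtain ⟨b, hb⟩ : ∃ b, f (pt 0) = b := ⟨_, rfl⟩
  obtain ⟨c, hc'⟩ : ∃ c, f (pt 1) = c := ⟨_, rfl⟩
  obtain ⟨d, hd⟩ : ∃ d, f (pt 8) = d := ⟨_, rfl⟩
  rw [ha, hb, hc', hd] at hq
  have hn : sqNorm f = 64 := by rw [hf, co0_norm]; exact sqNorm_eight none
  have e2 : sqNorm f = a ^ 2 + b ^ 2 + 11 * c ^ 2 + 11 * d ^ 2 := by
    have h1 : sqNorm f = ∑ q, f q * quadVec a b c d q := by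
      rw [sqNorm]
      exact Finset.sum_congr rfl fun q _ => by
        conv_lhs => rw [sq]
        conv_rhs => rw [← hq]
    rw [h1, sum_quad, hq]
    have s1 : ∀ q ∈ Finset.univ.filter (cyc11 · = 1), quadVec a b c d q = c := fun q hq' => by
      simp [quadVec, (Finset.mem_filter.1 hq').2]
    have s2 : ∀ q ∈ Finset.univ.filter (cyc11 · = 2), quadVec a b c d q = d := fun q hq' => by
      simp [quadVec, (Finset.mem_filter.1 hq').2]
    rw [Finset.sum_congr rfl s1, Finset.sum_congr rfl s2, Finset.sum_const, Finset.sum_const,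
      show (Finset.univ.filter (cyc11 · = 1)).card = 11 by decide +kernel,
      show (Finset.univ.filter (cyc11 · = 2)).card = 11 by decide +kernel]
    have h1 : cyc11 (none : GolayPt) = 0 ∧ cyc11 (pt 0) = 0 := by decide +kernel
    simp [quadVec, h1.1, h1.2, Ne.symm pt0_ne_none]
    ring
  rw [hn] at e2
  exact ⟨a, b, c, d, hq, e2⟩

set_option maxHeartbeats 1000000 in
/-- What commutes with `pi11` and fixes the pair fixes the vector with one nonzero entry. -/
theorem fix_eight_of_commute {v : leechLattice} (hv : secondOK v) {y : Co0} (hD : y • bD = bD)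
    (hV : y • v = v) (hc : y * pi11 = pi11 * y) : y • eightL none = eightL none := by
  obtain ⟨a, b, c, d, hq, e2⟩ := invariant_eight hc
  set f := ((y • eightL none : leechLattice) : GolayPt → ℤ) with hf
  have hdot : ∀ (u : leechLattice), y • u = u →
      dotInt (u : GolayPt → ℤ) f = dotInt (u : GolayPt → ℤ) (eight none) := by
    intro u hu
    have := co0_dot y u (eightL none)
    rwa [hu] at this
  have hdD := hdot bD hD
  have hdV := hdot v hV
  rw [hq] at hdD hdV
  simp only [dotInt] at hdD hdV
  rw [sum_quad] at hdD hdV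
  have eD : baseD none = 5 ∧ baseD (pt 0) = 1 ∧
      (∑ q ∈ Finset.univ.filter (cyc11 · = 1), baseD q) = 11 ∧
      (∑ q ∈ Finset.univ.filter (cyc11 · = 2), baseD q) = 11 ∧
      (∑ q, baseD q * eight none q) = 40 := by decide +kernel
  have eA : baseA none = 4 ∧ baseA (pt 0) = 4 ∧
      (∑ q ∈ Finset.univ.filter (cyc11 · = 1), baseA q) = 0 ∧
      (∑ q ∈ Finset.univ.filter (cyc11 · = 2), baseA q) = 0 ∧
      (∑ q, baseA q * eight none q) = 32 := by decide +kernel
  have eW : baseW none = -1 ∧ baseW (pt 0) = -5 ∧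
      (∑ q ∈ Finset.univ.filter (cyc11 · = 1), baseW q) = -11 ∧
      (∑ q ∈ Finset.univ.filter (cyc11 · = 2), baseW q) = -11 ∧
      (∑ q, baseW q * eight none q) = -8 := by decide +kernel
  change baseD none * a + baseD (pt 0) * b + _ + _ = _ at hdD
  obtain ⟨d1, d2, d3, d4, d5⟩ := eD
  change baseD none * a + baseD (pt 0) * b +
    (∑ q ∈ Finset.univ.filter (cyc11 · = 1), baseD q) * c +
    (∑ q ∈ Finset.univ.filter (cyc11 · = 2), baseD q) * d = ∑ q, baseD q * eight none q at hdD
  rw [d1, d2, d3, d4, d5, one_mul] at hdD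
  have hsec : 4 * a + 4 * b = 32 ∨ -a - 5 * b - 11 * c - 11 * d = -8 := by
    rcases hv with rfl | rfl
    · left
      obtain ⟨v1, v2, v3, v4, v5⟩ := eA
      change baseA none * a + baseA (pt 0) * b +
        (∑ q ∈ Finset.univ.filter (cyc11 · = 1), baseA q) * c +
        (∑ q ∈ Finset.univ.filter (cyc11 · = 2), baseA q) * d = ∑ q, baseA q * eight none q at hdV
      rw [v1, v2, v3, v4, v5] at hdV
      omega
    · right
      obtain ⟨v1, v2, v3, v4, v5⟩ := eW
      change baseW none * a + baseW (pt 0) * b +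
        (∑ q ∈ Finset.univ.filter (cyc11 · = 1), baseW q) * c +
        (∑ q ∈ Finset.univ.filter (cyc11 · = 2), baseW q) * d = ∑ q, baseW q * eight none q at hdV
      rw [v1, v2, v3, v4, v5] at hdV
      omega
  obtain ⟨r1, r2, r3, r4⟩ := quad_unique a
    (Finset.mem_Icc.2 ⟨by nlinarith [sq_nonneg b, sq_nonneg c, sq_nonneg d],
      by nlinarith [sq_nonneg b, sq_nonneg c, sq_nonneg d]⟩) b
    (Finset.mem_Icc.2 ⟨by nlinarith [sq_nonneg a, sq_nonneg c, sq_nonneg d],
      by nlinarith [sq_nonneg a, sq_nonneg c, sq_nonneg d]⟩) c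
    (Finset.mem_Icc.2 ⟨by nlinarith [sq_nonneg a, sq_nonneg b, sq_nonneg d],
      by nlinarith [sq_nonneg a, sq_nonneg b, sq_nonneg d]⟩) d
    (Finset.mem_Icc.2 ⟨by nlinarith [sq_nonneg a, sq_nonneg b, sq_nonneg c],
      by nlinarith [sq_nonneg a, sq_nonneg b, sq_nonneg c]⟩) e2.symm hdD hsec
  apply Subtype.ext
  rw [← hf, hq, r1, r2, r3, r4]
  exact funext (by decide +kernel)

/-- What commutes with `pi11` and fixes the pair has order dividing 11. -/
theorem commute_pi11 {v : leechLattice} (hv : secondOK v) {y : Co0} (hD : y • bD = bD) (hV : y • v = v)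
    (hc : y * pi11 = pi11 * y) : y ^ 11 = 1 := by
  obtain ⟨τ, rfl, hτn⟩ := perm_of_fix_eight_D (fix_eight_of_commute hv hD hV hc) hD
  have hτ0 : τ.1 (pt 0) = pt 0 := by
    have h1 := congrFun (congrArg Subtype.val hV) (pt 0)
    rw [permHom_smul] at h1
    have h2 : (∀ q, baseA q = baseA (pt 0) → q = none ∨ q = pt 0) ∧
        (∀ q, baseW q = baseW (pt 0) → q = none ∨ q = pt 0) := by decide +kernel
    have h3 : τ.1⁻¹ (pt 0) = none ∨ τ.1⁻¹ (pt 0) = pt 0 := by
      rcases hv with rfl | rfl
      exacts [h2.1 _ h1, h2.2 _ h1]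
    rcases h3 with e | e
    · exact absurd (τ.1⁻¹.injective (e.trans (inv_fix hτn).symm)) (Ne.symm pt0_ne_none)
    · conv_lhs => rw [← e]
      exact perm_apply_inv τ.1 (pt 0)
  rw [pi11, ← map_mul, ← map_mul] at hc
  have hc2 : τ.1 * perm11 = perm11 * τ.1 := congrArg Subtype.val (permHom_injective hc)
  rw [← map_pow, map_eq_one_iff _ permHom_injective]
  exact Subtype.ext (pow11_of_commute τ.2 hτn hτ0 hc2)

end CfsgLib.Leech
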