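import Cfsg.Agent.Leech.Co3Simple
import Cfsg.Agent.Leech.ConfigMain
import Cfsg.Agent.Leech.Perm11

/-!
Orders of the stabilisers of pairs of short vectors and simplicity for the HS pair.
-/

set_option autoImplicit false
set_option maxRecDepth 100000

namespace CfsgLib.Leech

open Cfsg CfsgLib.Mathieu SimpleData
open scoped Pointwise

/-- Only finitely many residues are to be checked. -/
theorem pow_mod_of_list {n r p : ℕ} (l : List ℕ) (hl : ∀ a ∈ l, a.Prime) (hn : l.prod = n) (hb : n < 2 ^ 64)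
    (h0 : n ≠ 0) (hd : ∀ q ∈ l, q ≠ p → q ≠ r → ∀ k < 64, k ≠ 0 → q ^ k ∣ n → q ^ k % r ≠ 1) :
    ∀ q, q.Prime → q ≠ p → q ≠ r → ∀ k, k ≠ 0 → q ^ k ∣ n → q ^ k % r ≠ 1 := by
  intro q hq hqp hqr k hk hdvd
  refine hd q (mem_of_dvd_prod hq l hl ((dvd_pow_self q hk).trans (by rw [hn]; exact hdvd))) hqp hqr k
    ?_ hk hdvd
  by_contra hk'
  have h1 := Nat.le_of_dvd (Nat.pos_of_ne_zero h0) hdvd
  have h2 : 2 ^ 64 ≤ q ^ k := (Nat.pow_le_pow_right (by norm_num) (by omega : 64 ≤ k)).trans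
    (Nat.pow_le_pow_left hq.two_le k)
  omega

/-- An orbit is a set on which the subgroup is transitive. -/
theorem ncard_orb_eq {G : Subgroup Co0} {x : leechLattice} {S : Set (GolayPt → ℤ)}
    (hS : ∀ y ∈ S, y ∈ leechLattice)
    (hmem : ∀ g ∈ G, ((g • x : leechLattice) : GolayPt → ℤ) ∈ S)
    (htrans : ∀ y : leechLattice, (y : GolayPt → ℤ) ∈ S → ∃ g ∈ G, g • y = x) :
    (orb G x).ncard = S.ncard := by
  refine Eq.trans ?_ (ncard_val (fun z => z ∈ S) hS)
  congr 1
  ext y
  constructor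
  · rintro ⟨g, hg, rfl⟩; exact hmem g hg
  · intro hy
    obtain ⟨g, hg, e⟩ := htrans y hy
    exact ⟨g⁻¹, inv_mem hg, by rw [← e, inv_smul_smul]⟩

theorem stab_DM_eq : MulAction.stabilizer Co0 bD ⊓ MulAction.stabilizer Co0 bM =
    MulAction.stabilizer Co0 bD ⊓ MulAction.stabilizer Co0 bW := by
  ext g
  simp only [Subgroup.mem_inf, MulAction.mem_stabilizer_iff]
  constructor
  · rintro ⟨hD, hM⟩
    refine ⟨hD, ?_⟩
    rw [← bD_add_bW, co0_add, hD] at hM
    exact add_left_cancel hM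
  · rintro ⟨hD, hW⟩
    exact ⟨hD, by rw [← bD_add_bW, co0_add, hD, hW]⟩

theorem card_hs :
    Nat.card ↥(MulAction.stabilizer Co0 bD ⊓ MulAction.stabilizer Co0 bW) = 44352000 := by
  have h := card_eq_orb_mul (MulAction.stabilizer Co0 bD) bM
  rw [card_stab_norm48 base_facts.1.2, stab_DM_eq, ncard_orb_eq (S := dotSet baseD 16) (fun y hy => hy.1)
    (fun g hg => ⟨(g • bM).2, by rw [co0_norm]; exact base_facts.2.2.2.2.1.2,
      (smul_dot_eq (show g • bD = bD from hg) bM).trans base_facts.2.2.2.2.2.2.2.2.2.1⟩)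
    (fun y hy => by
      obtain ⟨g, e, hF⟩ := exists_smul_of_reach
        (reach_of_tree co3m_tree (dotSet_finite _ _) ncard_dotSet_D16.le sub11178 hy)
        (show ReachL (TreeData.co3mFix.map vec) (vec TreeData.co3mRoot) (bM : GolayPt → ℤ) from
          ReachG.refl _ bM.2)
      exact ⟨g, hF bD (by simp [bD, baseD, TreeData.co3mFix, TreeData.co3vFix]), e⟩),
    ncard_dotSet_D16] at h
  omega

theorem pi11_fix_base : pi11 • bD = bD ∧ pi11 • bA = bA ∧ pi11 • bW = bW ∧ pi11 • bM = bM :=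
  perm22_fix_base pi11_mem_perm22

theorem hs_simple : IsSimpleGroup ↥(MulAction.stabilizer Co0 bD ⊓ MulAction.stabilizer Co0 bW) := by
  have := Fact.mk (by norm_num : Nat.Prime 11)
  set G := MulAction.stabilizer Co0 bD ⊓ MulAction.stabilizer Co0 bW with hG
  have hperm : ∀ τ ∈ perm22, permHom τ ∈ G := fun τ hτ =>
    ⟨(perm22_fix_base hτ).1, (perm22_fix_base hτ).2.2.1⟩
  have hπ : pi11 ∈ G := hperm _ pi11_mem_perm22
  refine isSimpleGroup_of_cases G ⟨pi11, hπ, fun e => ?_⟩ fun N hle hN => ?_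
  · have := orderOf_pi11; rw [e, orderOf_one] at this; omega
  rcases normal_dichotomy (p := 1) hle hN hπ orderOf_pi11 (by rw [card_hs]; decide +kernel)
    (fun y hy hc => commute_pi11 (Or.inr rfl) hy.1 hy.2 hc)
    (by
      rw [card_hs]
      exact pow_mod_of_list (List.replicate 9 2 ++ [3, 3, 5, 5, 5, 7, 11])
        (fun a ha => by
          simp only [List.mem_append, List.mem_replicate, List.mem_cons, List.not_mem_nil, or_false] at ha
          rcases ha with ⟨-, rfl⟩ | rfl | rfl | rfl | rfl | rfl | rfl | rfl <;> norm_num)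
        (by decide +kernel) (by norm_num) (by norm_num) (by decide +kernel))
    with hP | hord
  · exact Or.inl (eq_bot_of_isPGroup_one hP)
  right
  have : IsSimpleGroup perm22 := simple_perm22
  exact hs_le hle hN (perms_mem hN perm22 hperm pi11_mem_perm22
    (fun e => by have := orderOf_perm11; rw [show perm11 = 1 from congrArg Subtype.val e, orderOf_one] at this; omega)
    (hord _ hπ orderOf_pi11))

end CfsgLib.Leech
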