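import Cfsg.Agent.Leech.TreeCerts

/-!
The 2025 among the 11178 points.
-/

set_option autoImplicit false
set_option maxRecDepth 100000

namespace CfsgLib.Leech

open TreeData

theorem co3m_counts_mcl :
    ((treeList co3mGens [penc co3mRoot] co3mLvls).countP fun c => dotP mclFix[1] c == 0) = 2025 := by
  decide +kernel

end CfsgLib.Leech
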