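import Cfsg.Agent.Leech.HsSimple
import Cfsg.Agent.Leech.SuborbitCountsA

/-!
The stabiliser of the McL pair is simple.
-/

set_option autoImplicit false
set_option maxRecDepth 100000

namespace CfsgLib.Leech

open Cfsg CfsgLib.Mathieu SimpleData
open scoped Pointwise

/-- A normal subgroup of prime power order lies in every subgroup of prime-to-`p` index. -/
theorem le_of_isPGroup_index {G N K : Subgroup Co0} (hle : N ≤ G) (hN : NormalisedBy G N) {p : ℕ}
    [Fact p.Prime] (hP : IsPGroup p N) (hnd : ¬ p ∣ (K.subgroupOf G).index) : N ≤ K := by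
  have := co0_finite
  have hP' : IsPGroup p (N.subgroupOf G) := hP.of_equiv (Subgroup.subgroupOfEquivOfLe hle).symm
  have := hN.normal
  obtain ⟨q, hq⟩ := hP'.nonempty_fixed_point_of_prime_not_dvd_card (G ⧸ K.subgroupOf G) hnd
  obtain ⟨g, rfl⟩ := QuotientGroup.mk_surjective q
  intro n hn
  have hm : g * ⟨n, hle hn⟩ * g⁻¹ ∈ N.subgroupOf G :=
    Subgroup.mem_subgroupOf.2 (hN g.1 g.2 n hn)
  have h1 : ((g * ⟨n, hle hn⟩ * g⁻¹ * g : G) : G ⧸ K.subgroupOf G) = g := hq ⟨_, hm⟩
  rw [inv_mul_cancel_right, QuotientGroup.eq, mul_inv_rev, inv_mul_cancel_right] at h1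
  exact inv_mem_iff.1 (Subgroup.mem_subgroupOf.1 h1)

theorem index_stab_orb (G : Subgroup Co0) (x : leechLattice) :
    ((MulAction.stabilizer Co0 x).subgroupOf G).index = (orb G x).ncard := by
  have e : (MulAction.stabilizer Co0 x).subgroupOf G = MulAction.stabilizer G x := by
    ext g; exact Iff.rfl
  rw [e, MulAction.index_stabilizer]
  congr 1
  ext y
  exact ⟨fun ⟨g, e⟩ => ⟨g.1, g.2, e⟩, fun ⟨g, hg, e⟩ => ⟨⟨g, hg⟩, e⟩⟩

theorem card_mcl :
    Nat.card ↥(MulAction.stabilizer Co0 bD ⊓ MulAction.stabilizer Co0 bA) = 898128000 := by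
  have h := card_eq_orb_mul (MulAction.stabilizer Co0 bD) bA
  rw [card_stab_norm48 base_facts.1.2, ncard_orb_eq (S := dotSet baseD 24) (fun y hy => hy.1)
    (fun g hg => ⟨(g • bA).2, by rw [co0_norm]; exact base_facts.2.1.2,
      (smul_dot_eq (show g • bD = bD from hg) bA).trans base_facts.2.2.2.2.2.1⟩)
    (fun y hy => to552 hy), ncard_dotSet_D] at h
  omega

/-- Four at the extra point and four at `p`. -/
def pairInf (p : GolayPt) : GolayPt → ℤ := fun r => (if r = none then 4 else 0) + if r = p then 4 else 0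

theorem pairInf_facts : ∀ p, leechB (pairInf p) = true ∧
    (p = none ∨ pairInf p = baseA ∨
      (sqNorm (pairInf p) = 32 ∧ dotInt baseD (pairInf p) = 24 ∧ dotInt baseA (pairInf p) = 16)) := by
  decide +kernel

theorem pairInf_sum : (∀ r, ∑ p ∈ Finset.univ.erase none, pairInf p r = 4 * baseD r + 9 * eight none r) ∧
    ∀ p r, 2 * pairInf p r = eight none r + eight p r := by
  decide +kernel

/-- What fixes all 275 points and the pair is trivial. -/
theorem eq_one_of_fix275 {n : Co0} (hD : n • bD = bD) (hA : n • bA = bA)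
    (h : ∀ x : leechLattice, (x : GolayPt → ℤ) ∈ set275 → n • x = x) : n = 1 := by
  set v : GolayPt → leechLattice := fun p => ⟨pairInf p, leechB_iff.mp (pairInf_facts p).1⟩ with hv
  have hfix : ∀ p ∈ Finset.univ.erase (none : GolayPt), n • v p = v p := by
    intro p hp
    rcases (pairInf_facts p).2 with e | e | ⟨e1, e2, e3⟩
    · exact absurd e (Finset.ne_of_mem_erase hp)
    · rw [show v p = bA from Subtype.ext e]; exact hA
    · exact h (v p) ⟨⟨(v p).2, e1, e2⟩, e3⟩
  have hsum : n • (∑ p ∈ Finset.univ.erase none, v p) = ∑ p ∈ Finset.univ.erase none, v p := by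
    change co0Hom n _ = _
    rw [map_sum]
    exact Finset.sum_congr rfl hfix
  have heq : ∑ p ∈ Finset.univ.erase none, v p = (4 : ℤ) • bD + (9 : ℤ) • eightL none := by
    apply Subtype.ext
    funext r
    rw [AddSubmonoidClass.coe_finsetSum, Finset.sum_apply]
    exact pairInf_sum.1 r
  rw [heq, co0_add, co0_zsmul, co0_zsmul, hD] at hsum
  have hinf : n • eightL none = eightL none := by
    refine Subtype.ext (funext fun r => ?_)
    have h1 := congrFun (congrArg Subtype.val (add_left_cancel hsum)) r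
    exact mul_left_cancel₀ (by norm_num : (9 : ℤ) ≠ 0) h1
  refine co0_eq_of_eight fun p => ?_
  rw [one_smul]
  by_cases hp : p = none
  · rw [hp]; exact hinf
  have he : eightL p = (2 : ℤ) • v p - eightL none := by
    refine Subtype.ext (funext fun r => ?_)
    show eight p r = 2 * pairInf p r - eight none r
    rw [pairInf_sum.2 p r]; ring
  rw [he, co0_sub, co0_zsmul, hfix p (Finset.mem_erase.2 ⟨hp, Finset.mem_univ p⟩), hinf]

theorem mcln_tree : treeOK mclnFix mclnGens mclnRoot mclnLvls 2025 = true := by decide +kernel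

theorem mcl_data : (mclnMono ++ mclnConj.map fun e => [e.2.1]).all (monoPermB [23, 0]) = true ∧
    mclnConj.all (conjOK mclnFix) = true ∧
    ((treeList TreeData.co3mGens [penc TreeData.co3mRoot] TreeData.co3mLvls).countP fun c =>
      dotP mclnFix[1] c == 0) = 2025 :=
  ⟨by decide +kernel, by decide +kernel, co3m_counts_mcl⟩

theorem fixesAll_mcln : FixesAll (MulAction.stabilizer Co0 bD ⊓ MulAction.stabilizer Co0 bA) mclnFix :=
  fun g hg => ⟨fix_of_list bD (l := mclnFix[0]) (funext (by decide +kernel)) (hg _ (by simp [mclnFix])),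
    fix_of_list bA (l := mclnFix[1]) (funext (by decide +kernel)) (hg _ (by simp [mclnFix]))⟩

theorem ncard_orb_2025 :
    (orb (MulAction.stabilizer Co0 bD ⊓ MulAction.stabilizer Co0 bA) bM).ncard ≤ 2025 := by
  have hA : vec mclnFix[1] = baseA := funext (by decide +kernel)
  rw [← (ncard_sep_tree co3m_tree (dotSet_finite _ _) ncard_dotSet_D16.le sub11178 _
    (fun x => dotInt baseA x = 0) fun c => by rw [beq_iff_eq, dotP_eq _ (by rfl), hA]).trans mcl_data.2.2,
    ← Set.ncard_image_of_injective _ Subtype.val_injective]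
  refine Set.ncard_le_ncard ?_ ((dotSet_finite _ _).subset fun _ h => h.1)
  rintro x ⟨y, ⟨g, ⟨gD, gA⟩, rfl⟩, rfl⟩
  refine ⟨⟨(g • bM).2, by rw [co0_norm]; exact base_facts.2.2.2.2.1.2,
    (smul_dot_eq (show g • bD = bD from gD) bM).trans base_facts.2.2.2.2.2.2.2.2.2.1⟩, ?_⟩
  exact (smul_dot_eq (show g • bA = bA from gA) bM).trans
    (by decide +kernel : dotInt baseA baseM = 0)

theorem mcl_simple : IsSimpleGroup ↥(MulAction.stabilizer Co0 bD ⊓ MulAction.stabilizer Co0 bA) := by
  have := Fact.mk (by norm_num : Nat.Prime 11)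
  have := Fact.mk (by norm_num : Nat.Prime 3)
  set G := MulAction.stabilizer Co0 bD ⊓ MulAction.stabilizer Co0 bA with hG
  have hperm : ∀ τ ∈ perm22, permHom τ ∈ G := fun τ hτ =>
    ⟨(perm22_fix_base hτ).1, (perm22_fix_base hτ).2.1⟩
  have hπ : pi11 ∈ G := hperm _ pi11_mem_perm22
  refine isSimpleGroup_of_cases G ⟨pi11, hπ, fun e => ?_⟩ fun N hle hN => ?_
  · have := orderOf_pi11; rw [e, orderOf_one] at this; omega
  rcases normal_dichotomy (p := 3) hle hN hπ orderOf_pi11 (by rw [card_mcl]; decide +kernel)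
    (fun y hy hc => commute_pi11 (Or.inl rfl) hy.1 hy.2 hc)
    (by
      rw [card_mcl]
      exact pow_mod_of_list (List.replicate 7 2 ++ List.replicate 6 3 ++ [5, 5, 5, 7, 11])
        (fun a ha => by
          simp only [List.mem_append, List.mem_replicate, List.mem_cons, List.not_mem_nil, or_false] at ha
          rcases ha with (⟨-, rfl⟩ | ⟨-, rfl⟩) | rfl | rfl | rfl | rfl | rfl <;> norm_num)
        (by decide +kernel) (by norm_num) (by norm_num) (by decide +kernel))
    with hP | hord
  · left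
    have horb : (orb G bX).ncard = 275 :=
      (ncard_orb_eq (fun y hy => hy.1.1) (fun g hg => by
        refine ⟨⟨(g • bX).2, by rw [co0_norm]; exact base_facts.2.2.2.1.2, ?_⟩, ?_⟩
        · exact (smul_dot_eq (show g • bD = bD from hg.1) bX).trans base_facts.2.2.2.2.2.2.2.1
        · exact (smul_dot_eq (show g • bA = bA from hg.2) bX).trans base_facts.2.2.2.2.2.2.2.2.1)
        (fun y hy => by
          obtain ⟨g, gD, gA, e⟩ := to275 hy
          exact ⟨g, ⟨gD, gA⟩, e⟩)).trans ncard_set275
    have hK : N ≤ MulAction.stabilizer Co0 bX :=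
      le_of_isPGroup_index hle hN hP (by rw [index_stab_orb, horb]; norm_num)
    refine (Subgroup.eq_bot_iff_forall N).2 fun n hn => eq_one_of_fix275 (hle hn).1 (hle hn).2 fun x hx => ?_
    obtain ⟨g, gD, gA, e⟩ := to275 hx
    have h1 : (g * n * g⁻¹ * g) • x = g • x := by
      rw [mul_smul, e]; exact hK (hN g ⟨gD, gA⟩ n hn)
    rw [inv_mul_cancel_right, mul_smul] at h1
    exact smul_left_cancel g h1
  right
  have : IsSimpleGroup perm22 := simple_perm22
  have hp22 : ∀ τ ∈ perm22, permHom τ ∈ N :=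
    perms_mem hN perm22 hperm pi11_mem_perm22
      (fun e => by
        have := orderOf_perm11
        rw [show perm11 = 1 from congrArg Subtype.val e, orderOf_one] at this; omega)
      (hord _ hπ orderOf_pi11)
  refine le_of_orb hle bM ?_ ?_
  · have hg := gensIn_perm (fix := [none, pt 0]) hN fixesAll_mcln
      (fun τ hτ => hp22 τ (mem_perm22.2 ⟨hτ none (by simp), hτ (pt 0) (by simp)⟩))
      (by simpa [idx_none, pt_zero] using mcl_data.1) mcl_data.2.1
    exact ncard_orb_2025.trans (le_ncard_orb mcln_tree hg bM (funext (by decide +kernel)))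
  · rintro g ⟨⟨gD, gA⟩, gM⟩
    obtain ⟨τ, hτ, rfl⟩ := perm22_of_fix gD gM gA
    exact hp22 τ hτ

end CfsgLib.Leech
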