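import Cfsg.Agent.Leech.CrossMax

/-!
`Cfsg.Co0` is transitive on ordered pairs of orthogonal minimal vectors.
-/

set_option autoImplicit false

namespace CfsgLib.Leech

open Cfsg CfsgLib.Mathieu
open scoped Pointwise symmDiff

/-- Four at the extra point and four times `s` at `p`. -/
def fourPair (p : GolayPt) (s : ℤ) : GolayPt → ℤ :=
  fun q => (if q = none then 4 else 0) + if q = p then 4 * s else 0

theorem ortho_canon (v w : leechLattice) (hv : sqNorm (v : GolayPt → ℤ) = 32)
    (hw : sqNorm (w : GolayPt → ℤ) = 32) (hd : dotInt (v : GolayPt → ℤ) (w : GolayPt → ℤ) = 0) :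
    ∃ g : Co0, ((g • v : leechLattice) : GolayPt → ℤ) = fourPair (pt 0) 1 ∧
      ((g • w : leechLattice) : GolayPt → ℤ) = fourPair (pt 0) (-1) := by
  have hexp : ∀ x y : GolayPt → ℤ, sqNorm (x + y) = sqNorm x + 2 * dotInt x y + sqNorm y := by
    intro x y
    simp only [sqNorm, dotInt, Pi.add_apply, Finset.mul_sum, ← Finset.sum_add_distrib]
    exact Finset.sum_congr rfl fun i _ => by ring
  have hexp' : ∀ x y : GolayPt → ℤ, sqNorm (x - y) = sqNorm x - 2 * dotInt x y + sqNorm y := by
    intro x y
    simp only [sqNorm, dotInt, Pi.sub_apply, Finset.mul_sum, ← Finset.sum_add_distrib,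
      ← Finset.sum_sub_distrib]
    exact Finset.sum_congr rfl fun i _ => by ring
  obtain ⟨g, hg⟩ := transitive_norm64 (v + w) (eightL none)
    (by rw [AddSubgroup.coe_add, hexp, hv, hw, hd]; norm_num) (sqNorm_eight none)
  set a : GolayPt → ℤ := ((g • v : leechLattice) : GolayPt → ℤ) with ha
  set b : GolayPt → ℤ := ((g • w : leechLattice) : GolayPt → ℤ) with hb
  have hsum : a + b = eight none := by
    have := congrArg Subtype.val hg
    rwa [co0_add, AddSubgroup.coe_add] at this
  have han : sqNorm a = 32 := by rw [ha, co0_norm]; exact hv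
  have hbn : sqNorm b = 32 := by rw [hb, co0_norm]; exact hw
  have hab : dotInt a b = 0 := by rw [ha, hb, co0_dot]; exact hd
  have hcr : a - b ∈ stdCross := by
    rw [stdCross_eq_cross]
    refine ⟨sub_mem (g • v).2 (g • w).2, by rw [hexp', han, hbn, hab, sqNorm_eight]; norm_num,
      b, (g • w).2, ?_⟩
    rw [← hsum]; abel
  obtain ⟨p, s, hs, hp, hdiff⟩ : ∃ (p : GolayPt) (s : ℤ), (s = 1 ∨ s = -1) ∧ p ≠ none ∧
      a = fourPair p s ∧ b = fourPair p (-s) := by
    have hne : ∀ p, (a - b = eight p ∨ a - b = -eight p) → p ≠ none := by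
      rintro p h rfl
      rcases h with h | h
      · have h0 : b = 0 := by
          funext q
          have e1 := congrFun hsum q
          have e2 := congrFun h q
          simp only [Pi.add_apply, Pi.sub_apply] at e1 e2
          show b q = 0
          omega
        rw [h0] at hbn; simp [sqNorm] at hbn
      · have h0 : a = 0 := by
          funext q
          have e1 := congrFun hsum q
          have e2 := congrFun h q
          simp only [Pi.add_apply, Pi.sub_apply, Pi.neg_apply] at e1 e2
          show a q = 0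
          omega
        rw [h0] at han; simp [sqNorm] at han
    obtain ⟨p, h | h⟩ := mem_stdCross_iff.mp hcr
    · refine ⟨p, 1, Or.inl rfl, hne p (Or.inl h), funext fun q => ?_, funext fun q => ?_⟩ <;>
      · have e1 := congrFun hsum q
        have e2 := congrFun h q
        simp only [Pi.add_apply, Pi.sub_apply, eight, Pi.single_apply] at e1 e2
        simp only [fourPair]
        split_ifs at e1 e2 ⊢ <;> omega
    · refine ⟨p, -1, Or.inr rfl, hne p (Or.inr h), funext fun q => ?_, funext fun q => ?_⟩ <;>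
      · have e1 := congrFun hsum q
        have e2 := congrFun h q
        simp only [Pi.add_apply, Pi.sub_apply, Pi.neg_apply, eight, Pi.single_apply] at e1 e2
        simp only [fourPair]
        split_ifs at e1 e2 ⊢ <;> omega
  obtain ⟨c, hc, hnc, hsc⟩ : ∃ c ∈ supports (golayCode : Set (GolayPt → ZMod 2)),
      none ∉ c ∧ (p ∈ c ↔ s = -1) := by
    rcases hs with rfl | rfl
    · exact ⟨∅, by rw [mem_supports_iff]; decide +kernel, by simp, by simp⟩
    · obtain ⟨c, hc, hpc, hnc⟩ := exists_code_sep p hp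
      exact ⟨c, hc, hnc, by simp [hpc]⟩
  obtain ⟨σ, hσ, he⟩ := exists_map_fun (k := 2) (by norm_num) ![none, pt 0] ![none, p]
    (by decide +kernel) (by
      intro i j hij
      fin_cases i <;> fin_cases j <;> simp_all [eq_comm])
  have he0 : σ none = none := by simpa using he 0
  have he1 : σ (pt 0) = p := by simpa using he 1
  have key : ∀ t : ℤ, monoFun σ (c.image ⇑σ⁻¹) (fourPair p t) = fourPair (pt 0) (t * s) := by
    intro t
    funext q
    have hmem : q ∈ c.image ⇑σ⁻¹ ↔ σ q ∈ c := by
      rw [Finset.mem_image]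
      exact ⟨fun ⟨r, hr, e⟩ => by rw [← e, perm_apply_inv]; exact hr,
        fun h => ⟨σ q, h, perm_inv_apply σ q⟩⟩
    simp only [monoFun, fourPair, hmem]
    by_cases hq : q = none
    · subst hq
      have h0 : (none : GolayPt) ≠ pt 0 := by decide +kernel
      simp [he0, hnc, h0, Ne.symm hp]
    · have hσq : σ q ≠ none := fun e => hq (σ.injective (e.trans he0.symm))
      by_cases hq0 : q = pt 0
      · subst hq0
        rcases hs with rfl | rfl <;> simp [he1, hp, hq, hsc]
      · have hσp : σ q ≠ p := fun e => hq0 (σ.injective (e.trans he1.symm))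
        simp [hq, hσq, hq0, hσp]
  have hcs : c.image ⇑σ⁻¹ ∈ supports (golayCode : Set (GolayPt → ZMod 2)) :=
    setSystemAut_image_mem (inv_mem hσ : σ⁻¹ ∈ M24) hc
  refine ⟨monoCo0 σ hσ _ hcs * g, ?_, ?_⟩
  · rw [mul_smul, monoCo0_smul, ← ha, hdiff.1, key]
    rcases hs with rfl | rfl <;> rfl
  · rw [mul_smul, monoCo0_smul, ← hb, hdiff.2, key]
    rcases hs with rfl | rfl <;> rfl

/-- The stabiliser of a minimal vector is transitive on the minimal vectors orthogonal to it. -/
theorem exists_smul_ortho (v w w' : leechLattice) (hv : sqNorm (v : GolayPt → ℤ) = 32)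
    (hw : sqNorm (w : GolayPt → ℤ) = 32) (hw' : sqNorm (w' : GolayPt → ℤ) = 32)
    (hd : dotInt (v : GolayPt → ℤ) (w : GolayPt → ℤ) = 0)
    (hd' : dotInt (v : GolayPt → ℤ) (w' : GolayPt → ℤ) = 0) :
    ∃ g : Co0, g • v = v ∧ g • w = w' := by
  obtain ⟨g, gv, gw⟩ := ortho_canon v w hv hw hd
  obtain ⟨g', gv', gw'⟩ := ortho_canon v w' hv hw' hd'
  refine ⟨g'⁻¹ * g, ?_, ?_⟩
  · rw [mul_smul, inv_smul_eq_iff]; exact Subtype.ext (gv.trans gv'.symm)
  · rw [mul_smul, inv_smul_eq_iff]; exact Subtype.ext (gw.trans gw'.symm)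

end CfsgLib.Leech
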