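import Cfsg.Agent.Leech.Co0

/-!
Lattice vectors with the same absolute values differ by the signs of a code word.
-/

set_option autoImplicit false

namespace CfsgLib.Leech

open Cfsg CfsgLib.Mathieu
open scoped symmDiff

/-- The support of an integer vector. -/
def suppOf (x : GolayPt → ℤ) : Finset GolayPt := Finset.univ.filter fun p => x p ≠ 0

/-- The positions where a vector is 2 mod 4. -/
def twosOf (x : GolayPt → ℤ) : Finset GolayPt := Finset.univ.filter fun p => x p % 4 = 2

theorem eq_or_neg {x y : GolayPt → ℤ} (h : ∀ p, (x p).natAbs = (y p).natAbs) (p : GolayPt) :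
    x p = y p ∨ x p = -y p := Int.natAbs_eq_natAbs_iff.mp (h p)

theorem flip_eq {x y : GolayPt → ℤ} (h : ∀ p, (x p).natAbs = (y p).natAbs) {c : Finset GolayPt}
    (hc : c ∩ suppOf y = (Finset.univ.filter fun p => x p ≠ y p)) :
    monoFun 1 c x = y := by
  funext p
  have hp := Finset.ext_iff.mp hc p
  simp only [Finset.mem_inter, suppOf, Finset.mem_filter, Finset.mem_univ, true_and, ne_eq] at hp
  simp only [monoFun, Equiv.Perm.one_apply]
  rcases eq_or_neg h p with e | e <;> by_cases hpc : p ∈ c <;> simp only [hpc, if_true, if_false]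
  · by_cases h0 : y p = 0
    · omega
    · exact absurd e (hp.mp ⟨hpc, h0⟩)
  · exact e
  · omega
  · by_cases h0 : y p = 0
    · omega
    · by_contra hne
      exact hpc (hp.mpr hne).1

/-- Odd vectors with the same absolute values. -/
theorem exists_signs_odd {x y : GolayPt → ℤ} (hx : x ∈ leechLattice) (hy : y ∈ leechLattice)
    (h : ∀ p, (x p).natAbs = (y p).natAbs) (hodd : y none % 2 = 1) :
    ∃ c ∈ supports (golayCode : Set (GolayPt → ZMod 2)), monoFun 1 c x = y := by
  have par : ∀ z : GolayPt → ℤ, z ∈ leechLattice → z none % 2 = 1 → ∀ p, (z p - 1) % 2 = 0 := by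
    intro z hz hn p
    obtain ⟨m, a, ha, -, -⟩ := mem_leech.mp hz
    rw [ha none] at hn
    rw [ha p]; omega
  have hxn : x none % 2 = 1 := by rcases eq_or_neg h none with e | e <;> omega
  -- the positions that are 3 mod 4
  have code : ∀ z : GolayPt → ℤ, z ∈ leechLattice → z none % 2 = 1 →
      (Finset.univ.filter fun p => z p % 4 = 3) ∈ supports (golayCode : Set (GolayPt → ZMod 2)) := by
    intro z hz hn
    obtain ⟨k', -, -, hres⟩ := (isLeech_iff z).mpr (mem_leech.mp hz)
    have h3 := hres 3
    convert h3 using 1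
    exact Finset.filter_congr fun p _ => by unfold Int.ModEq; omega
  refine ⟨_, supports_symmDiff (code x hx hxn) (code y hy hodd), flip_eq h ?_⟩
  ext p
  have h1 := par x hx hxn p
  have h2 := par y hy hodd p
  simp only [Finset.mem_inter, Finset.mem_symmDiff, suppOf, Finset.mem_filter, Finset.mem_univ,
    true_and, ne_eq]
  rcases eq_or_neg h p with e | e <;> constructor <;> intro hh <;> omega

theorem inter_symmDiff_distrib_right' (A B C : Finset GolayPt) :
    (A ∆ B) ∩ C = (A ∩ C) ∆ (B ∩ C) := by
  ext p
  simp only [Finset.mem_inter, Finset.mem_symmDiff]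
  tauto

/-- Checks that witnesses give every admissible sign set on the support of a vector. -/
def witOK (y : GolayPt → ℤ) (last : ℕ) (wit : List ℕ) : Bool :=
  wit.all isCode && decide (∀ p : GolayPt, y p ≠ 0 → (y p % 4 = 2 → idx p ≠ last) →
    ∃ w ∈ wit, setOf24 w ∩ suppOf y =
      if y p % 4 = 2 then insert (pt last) {p} else ({p} : Finset GolayPt)) &&
    decide (∀ p : GolayPt, y p % 4 = 2 → pt last ∈ twosOf y)

theorem exists_code_inter {y : GolayPt → ℤ} {last : ℕ} {wit : List ℕ}
    (hwit : witOK y last wit = true) : ∀ (n : ℕ) (D : Finset GolayPt), D ⊆ suppOf y →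
      Even (D ∩ twosOf y).card → (D \ ({pt last} ∩ twosOf y)).card = n →
      ∃ c ∈ supports (golayCode : Set (GolayPt → ZMod 2)), c ∩ suppOf y = D := by
  simp only [witOK, Bool.and_eq_true, decide_eq_true_eq, List.all_eq_true] at hwit
  obtain ⟨⟨hcode, hw⟩, hlast⟩ := hwit
  intro n
  induction n using Nat.strong_induction_on with
  | _ n ih =>
    intro D hD heven hn
    rcases (D \ ({pt last} ∩ twosOf y)).eq_empty_or_nonempty with e | ⟨p, hp⟩
    · refine ⟨∅, by rw [mem_supports_iff]; decide +kernel, ?_⟩
      rw [Finset.empty_inter]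
      symm
      rw [Finset.sdiff_eq_empty_iff_subset] at e
      rcases Finset.eq_empty_or_nonempty D with h0 | ⟨q, hq⟩
      · exact h0
      · have hq' := Finset.mem_inter.mp (e hq)
        rw [Finset.mem_singleton] at hq'
        have hDq : D ∩ twosOf y = {q} := by
          ext r
          simp only [Finset.mem_inter, Finset.mem_singleton]
          refine ⟨fun ⟨hr, _⟩ => ?_, fun hr => hr ▸ ⟨hq, hq'.2⟩⟩
          have := Finset.mem_inter.mp (e hr)
          rw [Finset.mem_singleton] at this
          rw [this.1, hq'.1]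
        rw [hDq, Finset.card_singleton] at heven
        exact absurd heven (by decide)
    obtain ⟨hpD, hpL⟩ := Finset.mem_sdiff.mp hp
    have hy : y p ≠ 0 := (Finset.mem_filter.mp (hD hpD)).2
    have hmem2 : p ∈ twosOf y ↔ y p % 4 = 2 := by simp [twosOf]
    obtain ⟨w, hww, hwS⟩ := hw p hy fun h2 e => hpL (Finset.mem_inter.mpr
      ⟨Finset.mem_singleton.mpr (by rw [← e, pt_idx]), hmem2.mpr h2⟩)
    set E := setOf24 w ∩ suppOf y with hE
    have hED : D ∆ E ⊆ suppOf y := fun q hq => by
      rcases Finset.mem_symmDiff.mp hq with ⟨h, -⟩ | ⟨h, -⟩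
      · exact hD h
      · exact (Finset.mem_inter.mp h).2
    have hEeven : Even (E ∩ twosOf y).card := by
      rw [hwS]
      by_cases h2 : y p % 4 = 2
      · rw [if_pos h2]
        have hne : pt last ≠ p := fun e => hpL (Finset.mem_inter.mpr
          ⟨Finset.mem_singleton.mpr e.symm, hmem2.mpr h2⟩)
        rw [Finset.inter_eq_left.mpr]
        · rw [Finset.card_pair hne]; decide
        · intro r hr
          rcases Finset.mem_insert.mp hr with rfl | hr
          · exact hlast p h2
          · rw [Finset.mem_singleton.mp hr]; exact hmem2.mpr h2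
      · rw [if_neg h2]
        rw [Finset.singleton_inter_of_notMem (fun hh => h2 (hmem2.mp hh))]
        simp
    have hev : Even ((D ∆ E) ∩ twosOf y).card := by
      have e : (D ∆ E) ∩ twosOf y = (D ∩ twosOf y) ∆ (E ∩ twosOf y) :=
        inter_symmDiff_distrib_right' D E (twosOf y)
      rw [e]
      have := card_symmDiff_add (D ∩ twosOf y) (E ∩ twosOf y)
      rw [Nat.even_iff] at heven hEeven ⊢
      omega
    have hlt : ((D ∆ E) \ ({pt last} ∩ twosOf y)).card < n := by
      rw [← hn]
      refine Finset.card_lt_card (Finset.ssubset_iff_of_subset ?_ |>.mpr ⟨p, hp, ?_⟩)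
      · intro q hq
        obtain ⟨hq, hqL⟩ := Finset.mem_sdiff.mp hq
        refine Finset.mem_sdiff.mpr ⟨?_, hqL⟩
        rcases Finset.mem_symmDiff.mp hq with ⟨h, -⟩ | ⟨h, hn'⟩
        · exact h
        · rw [hwS] at h
          split at h
          · next h2 =>
            rcases Finset.mem_insert.mp h with rfl | h
            · exact absurd (Finset.mem_inter.mpr ⟨Finset.mem_singleton_self _, hlast p h2⟩) hqL
            · rw [Finset.mem_singleton.mp h]; exact hpD
          · rw [Finset.mem_singleton.mp h]; exact hpD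
      · intro h
        rcases Finset.mem_symmDiff.mp (Finset.mem_sdiff.mp h).1 with ⟨-, h⟩ | ⟨-, h⟩
        · refine h ?_
          rw [hwS]; split <;> simp
        · exact h hpD
    obtain ⟨c, hc, hce⟩ := ih _ hlt _ hED hev rfl
    refine ⟨c ∆ setOf24 w, supports_symmDiff hc (setOf24_mem_supports (hcode w hww)), ?_⟩
    have e : (c ∆ setOf24 w) ∩ suppOf y = (c ∩ suppOf y) ∆ (setOf24 w ∩ suppOf y) :=
      inter_symmDiff_distrib_right' c (setOf24 w) (suppOf y)
    rw [e, hce, ← hE, symmDiff_symmDiff_cancel_right]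

/-- The differing positions of two even vectors with equal absolute values meet the 2 mod 4 positions evenly. -/
theorem diff_even {x y : GolayPt → ℤ} (hx : x ∈ leechLattice) (hy : y ∈ leechLattice)
    (h : ∀ p, (x p).natAbs = (y p).natAbs) (hev : y none % 2 = 0) :
    Even ((Finset.univ.filter fun p => x p ≠ y p) ∩ twosOf y).card := by
  have hsum : ∀ z : GolayPt → ℤ, z ∈ leechLattice → z none % 2 = 0 → (∑ p, z p) % 8 = 0 := by
    intro z hz hn
    obtain ⟨m, a, ha, hs, -⟩ := mem_leech.mp hz
    rw [ha none] at hn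
    unfold Int.ModEq at hs
    omega
  have hxn : x none % 2 = 0 := by rcases eq_or_neg h none with e | e <;> omega
  have par : ∀ p, y p % 2 = 0 := fun p => by
    obtain ⟨m, a, ha, -, -⟩ := mem_leech.mp hy
    rw [ha none] at hev
    rw [ha p]; omega
  set D := Finset.univ.filter fun p => x p ≠ y p with hDdef
  have e1 : ∑ p, x p = ∑ p, y p - 2 * ∑ p ∈ D, y p := by
    rw [Finset.mul_sum, hDdef, Finset.sum_filter, ← Finset.sum_sub_distrib]
    refine Finset.sum_congr rfl fun p _ => ?_
    rcases eq_or_neg h p with e | e <;> split_ifs <;> omega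
  have h8x := hsum x hx hxn
  have h8y := hsum y hy hev
  have h4 : (∑ p ∈ D, y p) % 4 = 0 := by omega
  have e2 : (∑ p ∈ D, y p) % 4 = (2 * ((D ∩ twosOf y).card : ℤ)) % 4 := by
    have key : ∀ p ∈ D, y p % 4 = (if y p % 4 = 2 then 2 else 0) := fun p _ => by
      have := par p
      split <;> omega
    rw [Finset.sum_int_mod, Finset.sum_congr rfl key, Finset.sum_ite, Finset.sum_const,
      Finset.sum_const_zero, add_zero, nsmul_eq_mul, mul_comm]
    congr 2
    simp [twosOf, Finset.filter_inter, Finset.inter_filter]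
  rw [Nat.even_iff]
  omega

/-- Even vectors with the same absolute values, given witnesses. -/
theorem exists_signs_even {x y : GolayPt → ℤ} (hx : x ∈ leechLattice) (hy : y ∈ leechLattice)
    (h : ∀ p, (x p).natAbs = (y p).natAbs) (hev : y none % 2 = 0) {last : ℕ} {wit : List ℕ}
    (hwit : witOK y last wit = true) :
    ∃ c ∈ supports (golayCode : Set (GolayPt → ZMod 2)), monoFun 1 c x = y := by
  obtain ⟨c, hc, he⟩ := exists_code_inter hwit _ (Finset.univ.filter fun p => x p ≠ y p) (fun p hp => by
    simp only [Finset.mem_filter, Finset.mem_univ, true_and, suppOf, ne_eq] at hp ⊢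
    intro h0
    have := h p
    rw [h0, Int.natAbs_zero, Int.natAbs_eq_zero] at this
    omega) (diff_even hx hy h hev) rfl
  exact ⟨c, hc, flip_eq h he⟩

theorem comp_eq_monoFun (σ : Equiv.Perm GolayPt) (x : GolayPt → ℤ) :
    monoFun σ ∅ x = fun p => x (σ p) := by
  funext p; simp [monoFun]

theorem reachL_perm {σ : Equiv.Perm GolayPt} (hσ : σ ∈ M24) {x : GolayPt → ℤ}
    (hx : x ∈ leechLattice) : ReachG monoGroup [] x (fun p => x (σ p)) := by
  rw [← comp_eq_monoFun]
  exact reachL_mono hσ (by rw [mem_supports_iff]; decide +kernel) (by simp) hx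

end CfsgLib.Leech
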