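import Cfsg.Agent.Leech.StabChain
import Cfsg.Agent.Leech.SimpleData
import Cfsg.Agent.Mathieu.General

/-!
Permutations and conjugated monomial members inside stabilisers of short vectors.
-/

set_option autoImplicit false

namespace CfsgLib.Leech

open Cfsg CfsgLib.Mathieu
open scoped Pointwise symmDiff

attribute [local irreducible] dec penc pact

theorem idx_none : idx (none : GolayPt) = 23 := by decide +kernel

theorem pt_zero : idx (pt 0) = 0 := idx_pt (by norm_num)

/-- The element of a monomial move. -/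
theorem monoMove_spec {t c : ℕ} (h : (Mv.mono t c).ok = true) :
    ∃ (τ : Equiv.Perm GolayPt) (hτ : τ ∈ M24)
      (hc : setOf24 c ∈ supports (golayCode : Set (GolayPt → ZMod 2))),
      (∀ p, app t (idx p) = idx (τ p)) ∧ ∀ (l : List ℤ) (hl : vec l ∈ leechLattice),
        ((monoCo0 τ hτ (setOf24 c) hc • (⟨vec l, hl⟩ : leechLattice) : leechLattice) : GolayPt → ℤ) =
          vec (runMoves [Mv.mono t c] l) := by
  simp only [Mv.ok, Bool.and_eq_true] at h
  obtain ⟨⟨ht, hp⟩, hc⟩ := h
  obtain ⟨τ, hr⟩ := exists_rep_of_valid ht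
  refine ⟨τ, mem_M24_of_table hr hp, setOf24_mem_supports hc, hr, fun l hl => ?_⟩
  funext p
  rw [monoCo0_smul, runMoves, List.foldl_cons, List.foldl_nil, Mv.act, vec_map_range]
  simp only [monoFun, vec, mem_setOf24]
  rw [show app t (idx p) = idx (τ p) from hr p]

theorem permHom_eq (τ : Equiv.Perm GolayPt) (hτ : τ ∈ M24) :
    monoCo0 τ hτ ∅ empty_mem_supports = permHom ⟨τ⁻¹, inv_mem hτ⟩ :=
  monoCo0_congr (hτ' := inv_mem (inv_mem hτ)) (hc' := empty_mem_supports) (inv_inv τ).symm rfl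

theorem permHom_smul (τ : M24) (v : leechLattice) (p : GolayPt) :
    ((permHom τ • v : leechLattice) : GolayPt → ℤ) p = (v : GolayPt → ℤ) (τ.1⁻¹ p) := by
  show monoFun τ.1⁻¹ ∅ (v : GolayPt → ℤ) p = _
  simp [monoFun]

/-- A conjugating certificate: the words are inverse to each other. -/
def conjOK (G : List (List ℤ)) (e : List Mv × Mv × List Mv) : Bool :=
  e.1.all Mv.ok && e.2.2.all Mv.ok && e.2.1.ok &&
    ((List.range 24).all (fun j =>
      runMoves (e.1 ++ e.2.2) ((List.range 24).map fun i => if i = j then (8 : ℤ) else 0) ==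
        runMoves [] ((List.range 24).map fun i => if i = j then (8 : ℤ) else 0)) &&
      G.all fun f => runMoves e.2.2 f == f)

theorem act_append {b a : Co0} {m n : List Mv}
    (hb : ∀ (l : List ℤ) (hl : vec l ∈ leechLattice),
      ((b • (⟨vec l, hl⟩ : leechLattice) : leechLattice) : GolayPt → ℤ) = vec (runMoves m l))
    (ha : ∀ (l : List ℤ) (hl : vec l ∈ leechLattice),
      ((a • (⟨vec l, hl⟩ : leechLattice) : leechLattice) : GolayPt → ℤ) = vec (runMoves n l))
    (l : List ℤ) (hl : vec l ∈ leechLattice) :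
    (((a * b) • (⟨vec l, hl⟩ : leechLattice) : leechLattice) : GolayPt → ℤ) = vec (runMoves (m ++ n) l) := by
  have hl' : vec (runMoves m l) ∈ leechLattice := hb l hl ▸ (b • (⟨vec l, hl⟩ : leechLattice)).2
  rw [mul_smul, show b • (⟨vec l, hl⟩ : leechLattice) = ⟨_, hl'⟩ from Subtype.ext (hb l hl), ha _ hl',
    runMoves, runMoves, runMoves, List.foldl_append]

/-- The vectors of a list in the stabiliser. -/
def FixesAll (G : Subgroup Co0) (Fx : List (List ℤ)) : Prop :=
  ∀ g : Co0, (∀ f ∈ Fx, ∀ (hf : vec f ∈ leechLattice),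
    ((g • (⟨vec f, hf⟩ : leechLattice) : leechLattice) : GolayPt → ℤ) = vec f) → g ∈ G

/-- Monomial members and conjugates of them by members of `G` lie in a subgroup normalised by `G`. -/
theorem gensIn_of {G N : Subgroup Co0} {Fx : List (List ℤ)} (hN : NormalisedBy G N)
    (hG : FixesAll G Fx) {monos : List (List Mv)} {conjs : List (List Mv × Mv × List Mv)}
    (hmono : ∀ ms ∈ monos ++ conjs.map (fun e => [e.2.1]),
      ms.all Mv.ok = true ∧ ∃ g ∈ N, ∀ (l : List ℤ) (hl : vec l ∈ leechLattice),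
        ((g • (⟨vec l, hl⟩ : leechLattice) : leechLattice) : GolayPt → ℤ) = vec (runMoves ms l))
    (hconj : conjs.all (conjOK Fx) = true) :
    GensIn N (monos ++ conjs.map fun e => e.1 ++ [e.2.1] ++ e.2.2) := by
  intro ms hms
  rw [List.mem_append] at hms
  rcases hms with hms | hms
  · exact hmono ms (List.mem_append_left _ hms)
  · obtain ⟨e, he, rfl⟩ := List.mem_map.1 hms
    have hok := List.all_eq_true.1 hconj e he
    simp only [conjOK, Bool.and_eq_true] at hok
    obtain ⟨⟨⟨h1, h2⟩, h3⟩, h4, h5⟩ := hok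
    refine ⟨by simp [h1, h2, h3], ?_⟩
    obtain ⟨b, -, hb⟩ := runMoves_spec e.1 h1
    obtain ⟨a, -, ha⟩ := runMoves_spec e.2.2 h2
    obtain ⟨-, m, hmN, hm⟩ := hmono [e.2.1] (List.mem_append_right _ (List.mem_map.2 ⟨e, he, rfl⟩))
    have hab : a * b = 1 :=
      co0_eq_of_moves (a := e.1 ++ e.2.2) (b := []) (act_append hb ha)
        (fun l hl => by rw [one_smul]; rfl) h4
    have haG : a ∈ G := hG a fun f hf hfm => by
      rw [ha f hfm, beq_iff_eq.1 (List.all_eq_true.1 h5 f hf)]
    refine ⟨a * (m * b), ?_, act_append (act_append hb hm) ha⟩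
    have := hN a haG m hmN
    rwa [← eq_inv_of_mul_eq_one_right hab, mul_assoc] at this

/-- All moves of the list are permutations fixing the listed positions. -/
def monoPermB (fix : List ℕ) (ms : List Mv) : Bool :=
  match ms with
  | [.mono t c] => (Mv.mono t c).ok && c == 0 && fix.all fun i => app t i == i
  | _ => false

theorem monoPerm_spec {fix : List GolayPt} {ms : List Mv} (h : monoPermB (fix.map idx) ms = true) :
    ms.all Mv.ok = true ∧ ∃ τ : M24, (∀ p ∈ fix, τ.1 p = p) ∧ ∀ (l : List ℤ) (hl : vec l ∈ leechLattice),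
      ((permHom τ • (⟨vec l, hl⟩ : leechLattice) : leechLattice) : GolayPt → ℤ) = vec (runMoves ms l) := by
  match ms, h with
  | [.mono t c], h =>
    simp only [monoPermB, Bool.and_eq_true, beq_iff_eq, List.all_map, List.all_eq_true] at h
    obtain ⟨⟨hok, rfl⟩, hfix⟩ := h
    obtain ⟨τ, hτ, hc, hr, hact⟩ := monoMove_spec hok
    refine ⟨by simp [hok], ⟨τ⁻¹, inv_mem hτ⟩, fun p hp => ?_, fun l hl => ?_⟩
    · have h1 := hfix p hp
      simp only [Function.comp_apply, beq_iff_eq] at h1
      have : τ p = p := idx_injective ((hr p).symm.trans h1)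
      show τ⁻¹ p = p
      conv_lhs => rw [← this]
      exact perm_inv_apply τ p
    · rw [← hact l hl, ← permHom_eq τ hτ]
      rw [monoCo0_congr (hτ' := hτ) (hc' := hc) rfl (setOf24_zero).symm]

/-- Permutations fixing the extra point. -/
def perm23 : Subgroup M24 := MulAction.stabilizer M24 (none : GolayPt)

/-- Permutations fixing the extra point and the point 0. -/
def perm22 : Subgroup M24 := MulAction.stabilizer M24 (none : GolayPt) ⊓ MulAction.stabilizer M24 (pt 0)

theorem pt0_ne_none : (none : GolayPt) ≠ pt 0 := by decide +kernel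

theorem simple_perm22 : IsSimpleGroup perm22 :=
  (nonempty_pairStabilizer_equiv none (pt 0) pt0_ne_none).some.isSimpleGroup_congr.1 simple_SporM22

theorem card_perm22 : Nat.card perm22 = 443520 := by
  show Nat.card ↥(MulAction.stabilizer M24 (none : GolayPt) ⊓ MulAction.stabilizer M24 (pt 0)) = _
  rw [← Nat.card_congr (nonempty_pairStabilizer_equiv none (pt 0) pt0_ne_none).some.toEquiv]
  exact card_SporM22

theorem mem_perm22 {τ : M24} : τ ∈ perm22 ↔ τ.1 none = none ∧ τ.1 (pt 0) = pt 0 := Iff.rfl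

theorem mem_perm23 {τ : M24} : τ ∈ perm23 ↔ τ.1 none = none := Iff.rfl

theorem inv_fix {τ : Equiv.Perm GolayPt} {p : GolayPt} (h : τ p = p) : τ⁻¹ p = p := by
  conv_lhs => rw [← h]
  exact perm_inv_apply τ p

theorem permHom_fixes {τ : M24} {v : leechLattice}
    (h : ∀ p, (v : GolayPt → ℤ) (τ.1⁻¹ p) = (v : GolayPt → ℤ) p) : permHom τ • v = v :=
  Subtype.ext (funext fun p => (permHom_smul τ v p).trans (h p))

theorem perm22_fix {τ : M24} (h : τ ∈ perm22) {v : leechLattice}
    (hv : ∀ p, p ≠ none → p ≠ pt 0 → (v : GolayPt → ℤ) p = (v : GolayPt → ℤ) (pt 1)) :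
    permHom τ • v = v := by
  obtain ⟨h0, h1⟩ := mem_perm22.1 h
  refine permHom_fixes fun p => ?_
  by_cases hp : p = none
  · rw [hp, inv_fix h0]
  by_cases hp' : p = pt 0
  · rw [hp', inv_fix h1]
  have e0 : τ.1⁻¹ p ≠ none := fun e => hp (by rw [← perm_apply_inv τ.1 p, e, h0])
  have e1 : τ.1⁻¹ p ≠ pt 0 := fun e => hp' (by rw [← perm_apply_inv τ.1 p, e, h1])
  rw [hv _ e0 e1, hv p hp hp']

theorem perm23_fix {τ : M24} (h : τ ∈ perm23) {v : leechLattice}
    (hv : ∀ p, p ≠ none → (v : GolayPt → ℤ) p = (v : GolayPt → ℤ) (pt 1)) :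
    permHom τ • v = v := by
  have h0 := mem_perm23.1 h
  refine permHom_fixes fun p => ?_
  by_cases hp : p = none
  · rw [hp, inv_fix h0]
  have e0 : τ.1⁻¹ p ≠ none := fun e => hp (by rw [← perm_apply_inv τ.1 p, e, h0])
  rw [hv _ e0, hv p hp]

theorem base_const :
    (∀ p, p ≠ none → p ≠ pt 0 → baseA p = baseA (pt 1)) ∧
    (∀ p, p ≠ none → baseD p = baseD (pt 1)) ∧
    (∀ p, p ≠ none → p ≠ pt 0 → baseW p = baseW (pt 1)) := by
  decide +kernel

/-- A simple permutation group meeting a normalised subgroup lies inside it. -/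
theorem perms_mem {G N : Subgroup Co0} (hN : NormalisedBy G N) (S : Subgroup M24) [IsSimpleGroup S]
    (hS : ∀ τ ∈ S, permHom τ ∈ G) {τ₀ : M24} (h₀ : τ₀ ∈ S) (hne : τ₀ ≠ 1) (hN₀ : permHom τ₀ ∈ N) :
    ∀ τ ∈ S, permHom τ ∈ N := by
  have : (N.comap (permHom.comp S.subtype)).Normal :=
    ⟨fun n hn g => by
      rw [Subgroup.mem_comap, map_mul, map_mul, map_inv]
      exact hN _ (hS g.1 g.2) _ hn⟩
  rcases IsSimpleGroup.eq_bot_or_eq_top_of_normal _ this with h | h
  · exfalso
    apply hne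
    have h1 : (⟨τ₀, h₀⟩ : S) ∈ N.comap (permHom.comp S.subtype) := hN₀
    rw [h, Subgroup.mem_bot] at h1
    exact congrArg Subtype.val h1
  · intro τ hτ
    have h1 : (⟨τ, hτ⟩ : S) ∈ N.comap (permHom.comp S.subtype) := by rw [h]; exact Subgroup.mem_top _
    exact h1

theorem gensIn_perm {G N : Subgroup Co0} {Fx : List (List ℤ)} (hN : NormalisedBy G N)
    (hG : FixesAll G Fx) {fix : List GolayPt} (hperm : ∀ τ : M24, (∀ p ∈ fix, τ.1 p = p) → permHom τ ∈ N)
    {monos : List (List Mv)} {conjs : List (List Mv × Mv × List Mv)}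
    (hmono : (monos ++ conjs.map fun e => [e.2.1]).all (monoPermB (fix.map idx)) = true)
    (hconj : conjs.all (conjOK Fx) = true) :
    GensIn N (monos ++ conjs.map fun e => e.1 ++ [e.2.1] ++ e.2.2) := by
  refine gensIn_of hN hG (fun ms hms => ?_) hconj
  obtain ⟨hok, τ, hτ, hact⟩ := monoPerm_spec (List.all_eq_true.1 hmono ms hms)
  exact ⟨hok, permHom τ, hperm τ hτ, hact⟩

end CfsgLib.Leech
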