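import Mathlib
import Cfsg.Prelude.Def_Sporadic_a

/-!
Block intersection numbers in a Steiner system S(5,6,12).
-/

set_option autoImplicit false

namespace CfsgLib.Leech.Steiner12

open Finset

variable {α : Type*} [Fintype α] [DecidableEq α] {B : Set (Finset α)}

/-- A Steiner system S(5,6,12) as a finset of blocks. -/
theorem blocks_lam (hα : Fintype.card α = 12) (hB : Cfsg.IsSteinerSystem 5 6 B)
    (F : Finset (Finset α)) (hF : ∀ c, c ∈ F ↔ c ∈ B) :
    (∀ s : Finset α, s.card = 5 → (F.filter (s ⊆ ·)).card = 1) ∧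
    (∀ s : Finset α, s.card = 4 → (F.filter (s ⊆ ·)).card = 4) ∧
    (∀ s : Finset α, s.card = 3 → (F.filter (s ⊆ ·)).card = 12) ∧
    (∀ s : Finset α, s.card = 2 → (F.filter (s ⊆ ·)).card = 30) ∧
    ∀ s : Finset α, s.card = 1 → (F.filter (s ⊆ ·)).card = 66 := by
  have h5 : ∀ s : Finset α, s.card = 5 → (F.filter (s ⊆ ·)).card = 1 := by
    intro s hs
    obtain ⟨b, ⟨hb, hsb⟩, hu⟩ := hB.2 s hs
    rw [Finset.card_eq_one]
    exact ⟨b, Finset.ext fun c => by
      simp only [mem_filter, hF, mem_singleton]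
      exact ⟨fun h => hu c h, fun h => h ▸ ⟨hb, hsb⟩⟩⟩
  have step : ∀ (i m : ℕ), i < 5 → (∀ t : Finset α, t.card = i + 1 → (F.filter (t ⊆ ·)).card = m) →
      ∀ s : Finset α, s.card = i → (6 - i) * (F.filter (s ⊆ ·)).card = (12 - i) * m := by
    intro i m hi hm s hs
    have h1 : ∑ p ∈ univ \ s, (F.filter (insert p s ⊆ ·)).card = (12 - i) * m := by
      rw [sum_congr rfl (fun p hp => hm _ (by rw [card_insert_of_notMem (mem_sdiff.mp hp).2, hs]))]
      rw [sum_const, card_sdiff_of_subset (subset_univ _), card_univ, hα, hs, smul_eq_mul]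
    have h2 : ∑ p ∈ univ \ s, (F.filter (insert p s ⊆ ·)).card =
        ∑ c ∈ F.filter (s ⊆ ·), (c \ s).card := by
      rw [sum_congr rfl (fun p _ => card_eq_sum_ones (F.filter (insert p s ⊆ ·)))]
      rw [sum_congr rfl (fun c _ => card_eq_sum_ones (c \ s))]
      apply sum_comm'
      intro p c
      simp only [mem_sdiff, mem_univ, true_and, mem_filter, insert_subset_iff]
      tauto
    rw [← h1, h2, sum_congr rfl (fun c hc => ?_), sum_const, smul_eq_mul, mul_comm]
    obtain ⟨hcF, hsc⟩ := mem_filter.mp hc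
    rw [card_sdiff_of_subset hsc, hB.1 c ((hF c).mp hcF), hs]
  have h4 : ∀ s : Finset α, s.card = 4 → (F.filter (s ⊆ ·)).card = 4 := fun s hs => by
    have := step 4 1 (by norm_num) h5 s hs; omega
  have h3 : ∀ s : Finset α, s.card = 3 → (F.filter (s ⊆ ·)).card = 12 := fun s hs => by
    have := step 3 4 (by norm_num) h4 s hs; omega
  have h2 : ∀ s : Finset α, s.card = 2 → (F.filter (s ⊆ ·)).card = 30 := fun s hs => by
    have := step 2 12 (by norm_num) h3 s hs; omega
  exact ⟨h5, h4, h3, h2, fun s hs => by have := step 1 30 (by norm_num) h2 s hs; omega⟩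

/-- How many blocks meet a block in exactly a given subset. -/
theorem block_inter (hα : Fintype.card α = 12) (hB : Cfsg.IsSteinerSystem 5 6 B) {b : Finset α}
    (hb : b ∈ B) (s : Finset α) (hs : s ⊆ b) :
    (s.card = 5 → {c : Finset α | c ∈ B ∧ b ∩ c = s}.ncard = 0) ∧
    (s.card = 4 → {c : Finset α | c ∈ B ∧ b ∩ c = s}.ncard = 3) ∧
    (s.card = 3 → {c : Finset α | c ∈ B ∧ b ∩ c = s}.ncard = 2) ∧
    (s.card = 2 → {c : Finset α | c ∈ B ∧ b ∩ c = s}.ncard = 3) ∧
    (s.card = 1 → {c : Finset α | c ∈ B ∧ b ∩ c = s}.ncard = 0) := by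
  classical
  let F : Finset (Finset α) := univ.filter (· ∈ B)
  have hF : ∀ c, c ∈ F ↔ c ∈ B := by simp [F]
  obtain ⟨l5, l4, l3, l2, l1⟩ := blocks_lam hα hB F hF
  have hb6 : b.card = 6 := hB.1 b hb
  let E : Finset α → ℕ := fun t => (F.filter fun c => b ∩ c = t).card
  have hE : ∀ t, {c : Finset α | c ∈ B ∧ b ∩ c = t}.ncard = E t := by
    intro t
    show _ = (F.filter fun c => b ∩ c = t).card
    rw [← Set.ncard_coe_finset]
    congr 1
    ext c
    simp [F]
  have hsum : ∀ t ⊆ b, (F.filter (t ⊆ ·)).card = ∑ u ∈ (b \ t).powerset, E (t ∪ u) := by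
    intro t ht
    rw [card_eq_sum_card_fiberwise (f := fun c => (b ∩ c) \ t) (t := (b \ t).powerset)]
    · refine sum_congr rfl fun u hu => ?_
      congr 1
      ext c
      simp only [mem_filter, mem_powerset] at hu ⊢
      constructor
      · rintro ⟨⟨hc, htc⟩, rfl⟩
        exact ⟨hc, (union_sdiff_of_subset (subset_inter ht htc)).symm⟩
      · rintro ⟨hc, e⟩
        refine ⟨⟨hc, (subset_union_left.trans e.symm.subset).trans inter_subset_right⟩, ?_⟩
        rw [e, union_sdiff_left, Finset.sdiff_eq_self_iff_disjoint]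
        exact disjoint_left.mpr fun x hx => (mem_sdiff.mp (hu hx)).2
    · intro c _
      simp only [mem_coe, mem_powerset]
      exact sdiff_subset_sdiff inter_subset_left le_rfl
  have top : E b = 1 := by
    simp only [E, card_eq_one]
    refine ⟨b, Finset.ext fun c => ?_⟩
    simp only [mem_filter, hF, mem_singleton]
    refine ⟨fun ⟨hc, e⟩ => (eq_of_subset_of_card_le (e ▸ inter_subset_right) ?_).symm, ?_⟩
    · rw [hB.1 c hc, hb6]
    · rintro rfl; exact ⟨hb, inter_self c⟩
  have grp : ∀ t ⊆ b, ∀ f : ℕ → ℕ,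
      (∀ u ⊆ b, t.card < u.card → E u = f (u.card - t.card)) →
      (F.filter (t ⊆ ·)).card =
        E t + ∑ k ∈ Finset.Ico 1 ((6 - t.card) + 1), (6 - t.card).choose k * f k := by
    intro t ht f hf
    rw [hsum t ht, ← add_sum_erase _ _ (empty_mem_powerset _), union_empty]
    congr 1
    have e : ∀ u ∈ (b \ t).powerset.erase ∅, E (t ∪ u) = f u.card := by
      intro u hu
      obtain ⟨hu0, hu⟩ := mem_erase.mp hu
      rw [mem_powerset] at hu
      have hd : Disjoint t u := disjoint_right.mpr fun x hx => (mem_sdiff.mp (hu hx)).2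
      have := card_union_of_disjoint hd
      rw [hf _ (union_subset ht (hu.trans sdiff_subset))
        (by rw [this]; have := card_pos.mpr (nonempty_iff_ne_empty.mpr hu0); omega), this,
        Nat.add_sub_cancel_left]
    have hn : (b \ t).card = 6 - t.card := by rw [card_sdiff_of_subset ht, hb6]
    rw [sum_congr rfl e]
    have h2 := sum_powerset_apply_card (x := b \ t) (f := fun k => if k = 0 then 0 else f k)
    rw [← add_sum_erase _ _ (empty_mem_powerset _)] at h2
    simp only [card_empty, ↓reduceIte, zero_add, smul_eq_mul, hn] at h2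
    rw [sum_congr rfl (fun u hu => if_neg
      (fun h0 => (mem_erase.mp hu).1 (card_eq_zero.mp h0)))] at h2
    rw [h2]
    rw [Finset.range_eq_Ico, Finset.sum_eq_sum_Ico_succ_bot (Nat.succ_pos _)]
    simp only [↓reduceIte, mul_zero, zero_add, Nat.succ_eq_add_one]
    refine sum_congr rfl fun k hk => ?_
    rw [if_neg (by have := (Finset.mem_Ico.mp hk).1; omega)]
  have E6 : ∀ t ⊆ b, t.card = 6 → E t = 1 := fun t ht h => by
    rwa [eq_of_subset_of_card_le ht (by omega)]
  have E5 : ∀ t ⊆ b, t.card = 5 → E t = 0 := fun t ht h => by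
    have := grp t ht (fun _ => 1) (fun u hu hlt => E6 u hu (by have := card_le_card hu; omega))
    rw [l5 t h, h] at this
    simp [Finset.sum_Ico_eq_sum_range, Finset.sum_range_succ, Nat.choose_eq_factorial_div_factorial,
      Nat.factorial] at this
    omega
  have E4 : ∀ t ⊆ b, t.card = 4 → E t = 3 := fun t ht h => by
    have := grp t ht (fun k => if k = 1 then 0 else 1) (fun u hu hlt => by
      have := card_le_card hu
      rcases (by omega : u.card = 5 ∨ u.card = 6) with e | e
      · simp [E5 u hu e, e, h]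
      · simp [E6 u hu e, e, h])
    rw [l4 t h, h] at this
    simp [Finset.sum_Ico_eq_sum_range, Finset.sum_range_succ, Nat.choose_eq_factorial_div_factorial,
      Nat.factorial] at this
    omega
  have E3 : ∀ t ⊆ b, t.card = 3 → E t = 2 := fun t ht h => by
    have := grp t ht (fun k => if k = 1 then 3 else if k = 2 then 0 else 1) (fun u hu hlt => by
      have := card_le_card hu
      rcases (by omega : u.card = 4 ∨ u.card = 5 ∨ u.card = 6) with e | e | e
      · simp [E4 u hu e, e, h]
      · simp [E5 u hu e, e, h]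
      · simp [E6 u hu e, e, h])
    rw [l3 t h, h] at this
    simp [Finset.sum_Ico_eq_sum_range, Finset.sum_range_succ, Nat.choose_eq_factorial_div_factorial,
      Nat.factorial] at this
    omega
  have E2 : ∀ t ⊆ b, t.card = 2 → E t = 3 := fun t ht h => by
    have := grp t ht (fun k => if k = 1 then 2 else if k = 2 then 3 else if k = 3 then 0 else 1)
      (fun u hu hlt => by
        have := card_le_card hu
        rcases (by omega : u.card = 3 ∨ u.card = 4 ∨ u.card = 5 ∨ u.card = 6) with e | e | e | e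
        · simp [E3 u hu e, e, h]
        · simp [E4 u hu e, e, h]
        · simp [E5 u hu e, e, h]
        · simp [E6 u hu e, e, h])
    rw [l2 t h, h] at this
    simp [Finset.sum_Ico_eq_sum_range, Finset.sum_range_succ, Nat.choose_eq_factorial_div_factorial,
      Nat.factorial] at this
    omega
  have E1 : ∀ t ⊆ b, t.card = 1 → E t = 0 := fun t ht h => by
    have := grp t ht
      (fun k => if k = 1 then 3 else if k = 2 then 2 else if k = 3 then 3 else if k = 4 then 0 else 1)
      (fun u hu hlt => by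
        have := card_le_card hu
        rcases (by omega : u.card = 2 ∨ u.card = 3 ∨ u.card = 4 ∨ u.card = 5 ∨ u.card = 6) with
          e | e | e | e | e
        · simp [E2 u hu e, e, h]
        · simp [E3 u hu e, e, h]
        · simp [E4 u hu e, e, h]
        · simp [E5 u hu e, e, h]
        · simp [E6 u hu e, e, h])
    rw [l1 t h, h] at this
    simp [Finset.sum_Ico_eq_sum_range, Finset.sum_range_succ, Nat.choose_eq_factorial_div_factorial,
      Nat.factorial] at this
    omega
  refine ⟨?_, ?_, ?_, ?_, ?_⟩ <;> intro h <;> rw [hE]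
  exacts [E5 s hs h, E4 s hs h, E3 s hs h, E2 s hs h, E1 s hs h]

end CfsgLib.Leech.Steiner12
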