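import Cfsg.Agent.Leech.TreeCerts

/-!
The inner products of the 11178 points with the base point.
-/

set_option autoImplicit false
set_option maxRecDepth 100000

namespace CfsgLib.Leech

open TreeData

theorem co3m_counts_root :
    ((treeList co3mGens [penc co3mRoot] co3mLvls).countP fun c => dotP co3mRoot c == 16) = 1100 ∧
    ((treeList co3mGens [penc co3mRoot] co3mLvls).countP fun c => dotP co3mRoot c == 8) = 5600 ∧
    ((treeList co3mGens [penc co3mRoot] co3mLvls).countP fun c => dotP co3mRoot c == 0) = 4125 ∧
    ((treeList co3mGens [penc co3mRoot] co3mLvls).countP fun c => dotP co3mRoot c == -8) = 352 ∧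
    ((treeList co3mGens [penc co3mRoot] co3mLvls).countP fun c =>
      !([32, 16, 8, 0, -8] : List ℤ).contains (dotP co3mRoot c)) = 0 := by
  decide +kernel

end CfsgLib.Leech
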