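import Cfsg.Agent.Leech.TreeCerts
import Cfsg.Agent.Leech.SuborbitData
import Cfsg.Agent.Leech.SuborbitCountsA
import Cfsg.Agent.Leech.SuborbitCountsM

/-!
Kernel checks of the suborbit certificates on 11178 and 2025 points.
-/

set_option autoImplicit false
set_option maxRecDepth 100000

namespace CfsgLib.Leech

open TreeData

theorem co3e_tree : treeOK hsFix hsGens co3eRoot co3eLvls 1100 = true := by decide +kernel
theorem co3f_tree : treeOK hsFix hsGens co3fRoot co3fLvls 5600 = true := by decide +kernel
theorem co3g_tree : treeOK hsFix hsGens co3gRoot co3gLvls 4125 = true := by decide +kernel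
theorem co3h_tree : treeOK hsFix hsGens co3hRoot co3hLvls 352 = true := by decide +kernel
theorem mclT_tree : treeOK mclFix mclGens mclTRoot mclTLvls 2025 = true := by decide +kernel
theorem mclA_tree : treeOK (mclFix ++ [co3mRoot]) m22Mono mclARoot mclALvls 330 = true := by
  decide +kernel
theorem mclB_tree : treeOK (mclFix ++ [co3mRoot]) m22Mono mclBRoot mclBLvls 462 = true := by
  decide +kernel
theorem mclC_tree : treeOK (mclFix ++ [co3mRoot]) m22Mono mclCRoot mclCLvls 1232 = true := by
  decide +kernel

theorem co3m_counts :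
    ((treeList co3mGens [penc co3mRoot] co3mLvls).countP fun c => dotP co3mRoot c == 16) = 1100 ∧
    ((treeList co3mGens [penc co3mRoot] co3mLvls).countP fun c => dotP co3mRoot c == 8) = 5600 ∧
    ((treeList co3mGens [penc co3mRoot] co3mLvls).countP fun c => dotP co3mRoot c == 0) = 4125 ∧
    ((treeList co3mGens [penc co3mRoot] co3mLvls).countP fun c => dotP co3mRoot c == -8) = 352 ∧
    ((treeList co3mGens [penc co3mRoot] co3mLvls).countP fun c =>
      !([32, 16, 8, 0, -8] : List ℤ).contains (dotP co3mRoot c)) = 0 ∧
    ((treeList co3mGens [penc co3mRoot] co3mLvls).countP fun c => dotP mclFix[1] c == 0) = 2025 :=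
  ⟨co3m_counts_root.1, co3m_counts_root.2.1, co3m_counts_root.2.2.1, co3m_counts_root.2.2.2.1,
    co3m_counts_root.2.2.2.2, co3m_counts_mcl⟩

theorem mclT_counts :
    ((treeList mclGens [penc mclTRoot] mclTLvls).countP fun c => dotP co3mRoot c == 0) = 330 ∧
    ((treeList mclGens [penc mclTRoot] mclTLvls).countP fun c => dotP co3mRoot c == 16) = 462 ∧
    ((treeList mclGens [penc mclTRoot] mclTLvls).countP fun c => dotP co3mRoot c == 8) = 1232 := by
  decide +kernel

end CfsgLib.Leech
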