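import Cfsg.Agent.Leech.ConTransitive
import Cfsg.Agent.Leech.SuborbitCerts

/-!
The suborbits on the 11178 and on the 2025 minimal vectors.
-/

set_option autoImplicit false

namespace CfsgLib.Leech

open Cfsg CfsgLib.Mathieu TreeData

/-- An orbit of the joint fixer is the set described by the invariants, once it is transitive there. -/
theorem orbit_eq_of_trans {H : Subgroup Co0} {T : Set leechLattice} {y : leechLattice}
    (hy : y ∈ T) (hinv : ∀ h ∈ H, ∀ z ∈ T, h • z ∈ T)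
    (htr : ∀ z ∈ T, ∃ h ∈ H, h • y = z) : MulAction.orbit H y = T := by
  ext z
  constructor
  · rintro ⟨h, rfl⟩
    exact hinv h h.2 y hy
  · intro hz
    obtain ⟨h, hh, e⟩ := htr z hz
    exact ⟨⟨h, hh⟩, e⟩

/-- The classes among the 11178 points. -/
def co3Part (d : ℤ) : Set (GolayPt → ℤ) := {x | x ∈ dotSet baseD 16 ∧ dotInt baseM x = d}

theorem co3Part_finite (d : ℤ) : (co3Part d).Finite := (dotSet_finite _ _).subset fun _ h => h.1

theorem ncard_co3Part (d : ℤ) {N : ℕ}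
    (h : ((treeList co3mGens [penc co3mRoot] co3mLvls).countP fun c => dotP co3mRoot c == d) = N) :
    (co3Part d).ncard = N :=
  (ncard_sep_tree co3m_tree (dotSet_finite _ _) ncard_dotSet_D16.le sub11178 _
    (fun x => dotInt baseM x = d) fun c => by rw [beq_iff_eq, dotP_eq _ (by rfl)]; rfl).trans h

theorem co3_dot_cases {x : GolayPt → ℤ} (hx : x ∈ dotSet baseD 16) :
    dotInt baseM x ∈ ([32, 16, 8, 0, -8] : List ℤ) := by
  by_contra hcon
  have h0 := (ncard_sep_tree co3m_tree (dotSet_finite _ _) ncard_dotSet_D16.le sub11178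
    (fun c => !([32, 16, 8, 0, -8] : List ℤ).contains (dotP co3mRoot c))
    (fun x => dotInt baseM x ∉ ([32, 16, 8, 0, -8] : List ℤ)) fun c => by
      rw [Bool.not_eq_true', ← Bool.not_eq_true, List.contains_iff_mem,
        dotP_eq _ (by rfl : co3mRoot.length = 24)]
      exact Iff.rfl).trans co3m_counts.2.2.2.2.1
  rw [Set.ncard_eq_zero ((dotSet_finite _ _).subset fun _ h => h.1)] at h0
  exact Set.eq_empty_iff_forall_notMem.1 h0 x ⟨hx, hcon⟩

theorem baseM_eq : ((bD + bW : leechLattice) : GolayPt → ℤ) = baseM := by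
  rw [AddSubgroup.coe_add]
  exact base_facts.2.2.2.2.2.2.2.2.2.2.2

theorem baseDM_mem {f : GolayPt → ℤ} (hf : f ∈ hsFix.map vec) : f ∈ leechLattice :=
  leechB_iff.mp ((by decide +kernel : ∀ f ∈ hsFix.map vec, leechB f = true) f hf)

/-- Transitivity of the fixer of `D` and `W` on one class. -/
theorem within_co3 {root : List ℤ} {ms : List ℕ} {d : ℤ} {N : ℕ}
    (ht : treeOK hsFix hsGens root ms N = true)
    (hN : ((treeList co3mGens [penc co3mRoot] co3mLvls).countP fun c => dotP co3mRoot c == d) = N)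
    (hr : leechB (vec root) = true ∧ sqNorm (vec root) = 32 ∧ dotInt baseD (vec root) = 16 ∧
      dotInt baseM (vec root) = d)
    {x y : leechLattice} (hx : (x : GolayPt → ℤ) ∈ co3Part d) (hy : (y : GolayPt → ℤ) ∈ co3Part d) :
    ∃ g : Co0, g • bD = bD ∧ g • bW = bW ∧ g • x = y := by
  have hsub : ∀ z, ReachL (hsFix.map vec) (vec root) z → z ∈ co3Part d := by
    intro z hz
    obtain ⟨⟨hm, hn⟩, hd⟩ := reach_props (fun f hf => baseDM_mem hf) hz
    have h1 : dotInt baseD z = 16 := (hd baseD (by simp [baseD, hsFix, co3vFix])).trans hr.2.2.1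
    have h2 : dotInt baseW z = dotInt baseW (vec root) := hd baseW (by simp [baseW, hsFix])
    have e : ∀ t : GolayPt → ℤ, dotInt baseM t = dotInt baseD t + dotInt baseW t := fun t => by
      rw [← base_facts.2.2.2.2.2.2.2.2.2.2.2]
      simp only [dotInt, Pi.add_apply, add_mul, Finset.sum_add_distrib]
    exact ⟨⟨hm, hn.trans hr.2.1, h1⟩, by rw [e, h1, h2, ← hr.2.2.1, ← e, hr.2.2.2]⟩
  obtain ⟨g, e, hF⟩ := exists_smul_of_reach
    (reach_of_tree ht (co3Part_finite d) (ncard_co3Part d hN).le hsub hx)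
    (reach_of_tree ht (co3Part_finite d) (ncard_co3Part d hN).le hsub hy)
  exact ⟨g, hF bD (by simp [bD, baseD, hsFix, co3vFix]), hF bW (by simp [bW, baseW, hsFix]), e⟩

/-- The points of a class seen from `u` and `x`. -/
def co3Class (u x : leechLattice) (d : ℤ) : Set leechLattice :=
  {z | sqNorm (z : GolayPt → ℤ) = 32 ∧ dotInt (u : GolayPt → ℤ) (z : GolayPt → ℤ) = -16 ∧
    dotInt (x : GolayPt → ℤ) (z : GolayPt → ℤ) = d}

theorem co3_canon (u x : leechLattice) (hu : sqNorm (u : GolayPt → ℤ) = 48)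
    (hx : sqNorm (x : GolayPt → ℤ) = 32 ∧ dotInt (u : GolayPt → ℤ) (x : GolayPt → ℤ) = -16) :
    ∃ g : Co0, g • u = bD ∧ g • x = -(bD + bW) := by
  obtain ⟨g, gu⟩ := transitive_norm48 u bD hu base_facts.1.2
  obtain ⟨a, aD, ax⟩ := to11178 ((co3_transport gu x).1 hx)
  refine ⟨a * g, by rw [mul_smul, gu, aD], ?_⟩
  rw [mul_smul, ← ax, co0_neg, neg_neg]

theorem co3_class_iff {g : Co0} {u x : leechLattice} (gu : g • u = bD)
    (gx : g • x = -(bD + bW)) (d : ℤ) (z : leechLattice) :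
    z ∈ co3Class u x d ↔ ((-(g • z) : leechLattice) : GolayPt → ℤ) ∈ co3Part d := by
  have e : dotInt baseM ((-(g • z) : leechLattice) : GolayPt → ℤ) =
      dotInt (x : GolayPt → ℤ) (z : GolayPt → ℤ) := by
    have h := smul_dot_eq gx z
    rw [AddSubgroup.coe_neg, baseM_eq] at h
    rw [← h, AddSubgroup.coe_neg, dotInt_neg_right]
    simp only [dotInt, Pi.neg_apply, neg_mul, Finset.sum_neg_distrib]
  constructor
  · rintro ⟨h1, h2, h3⟩
    exact ⟨(co3_transport gu z).1 ⟨h1, h2⟩, e.trans h3⟩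
  · rintro ⟨h1, h2⟩
    obtain ⟨a, b⟩ := (co3_transport gu z).2 h1
    exact ⟨a, b, e.symm.trans h2⟩

/-- One suborbit on the 11178 points. -/
theorem co3_suborbit {root : List ℤ} {ms : List ℕ} {d : ℤ} {N : ℕ} (hN0 : N ≠ 0)
    (ht : treeOK hsFix hsGens root ms N = true)
    (hN : ((treeList co3mGens [penc co3mRoot] co3mLvls).countP fun c => dotP co3mRoot c == d) = N)
    (hr : leechB (vec root) = true ∧ sqNorm (vec root) = 32 ∧ dotInt baseD (vec root) = 16 ∧
      dotInt baseM (vec root) = d)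
    (u x : leechLattice) (hu : sqNorm (u : GolayPt → ℤ) = 48)
    (hx : sqNorm (x : GolayPt → ℤ) = 32 ∧ dotInt (u : GolayPt → ℤ) (x : GolayPt → ℤ) = -16) :
    ∃ y ∈ co3Class u x d,
      MulAction.orbit ↥(MulAction.stabilizer Co0 u ⊓ MulAction.stabilizer Co0 x) y =
        co3Class u x d ∧ (co3Class u x d).ncard = N := by
  obtain ⟨g, gu, gx⟩ := co3_canon u x hu hx
  have hiff := co3_class_iff gu gx d
  have hcard : (co3Class u x d).ncard = N := by
    have h1 := ncard_transport g (fun z => z ∈ co3Class u x d)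
      (fun z : leechLattice => ((-z : leechLattice) : GolayPt → ℤ) ∈ co3Part d) hiff
    have e : {z : leechLattice | ((-z : leechLattice) : GolayPt → ℤ) ∈ co3Part d}.ncard =
        {z : leechLattice | (z : GolayPt → ℤ) ∈ co3Part d}.ncard :=
      Set.ncard_congr (fun z _ => -z) (fun z hz => hz) (fun a b _ _ e => neg_inj.1 e)
        fun y hy => ⟨-y, show ((-(-y) : leechLattice) : GolayPt → ℤ) ∈ co3Part d by
          rw [neg_neg]; exact hy, neg_neg y⟩
    rw [e, ncard_val (fun z => z ∈ co3Part d) fun z hz => hz.1.1] at h1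
    exact h1.trans (ncard_co3Part d hN)
  obtain ⟨y, hy⟩ := Set.nonempty_of_ncard_ne_zero (hcard.trans_ne hN0)
  refine ⟨y, hy, orbit_eq_of_trans hy ?_ fun z hz => ?_, hcard⟩
  · rintro h ⟨hu', hx'⟩ z ⟨h1, h2, h3⟩
    exact ⟨by rw [co0_norm]; exact h1,
      (smul_dot_eq (MulAction.mem_stabilizer_iff.1 hu') z).trans h2,
      (smul_dot_eq (MulAction.mem_stabilizer_iff.1 hx') z).trans h3⟩
  · obtain ⟨a, aD, aW, e⟩ := within_co3 ht hN hr ((hiff y).1 hy) ((hiff z).1 hz)
    rw [co0_neg, neg_inj] at e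
    refine ⟨g⁻¹ * a * g, ⟨?_, ?_⟩, ?_⟩
    · show (g⁻¹ * a * g) • u = u
      rw [mul_smul, mul_smul, gu, aD, ← gu, inv_smul_smul]
    · show (g⁻¹ * a * g) • x = x
      rw [mul_smul, mul_smul, gx, co0_neg, co0_add, aD, aW, ← gx, inv_smul_smul]
    · rw [mul_smul, mul_smul, e, inv_smul_smul]

theorem co3_rank5 (u x : leechLattice) (hu : sqNorm (u : GolayPt → ℤ) = 48)
    (hx : sqNorm (x : GolayPt → ℤ) = 32 ∧ dotInt (u : GolayPt → ℤ) (x : GolayPt → ℤ) = -16) :
    {z : leechLattice | sqNorm (z : GolayPt → ℤ) = 32 ∧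
        dotInt (u : GolayPt → ℤ) (z : GolayPt → ℤ) = -16} =
      {x} ∪ co3Class u x (-8) ∪ co3Class u x 16 ∪ co3Class u x 0 ∪ co3Class u x 8 := by
  obtain ⟨g, gu, gx⟩ := co3_canon u x hu hx
  ext z
  constructor
  · rintro ⟨h1, h2⟩
    have hm := (co3_transport gu z).1 ⟨h1, h2⟩
    have hcase := co3_dot_cases hm
    have hcls : ∀ d, dotInt baseM ((-(g • z) : leechLattice) : GolayPt → ℤ) = d →
        z ∈ co3Class u x d := fun d hd => (co3_class_iff gu gx d z).2 ⟨hm, hd⟩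
    simp only [List.mem_cons, List.not_mem_nil, or_false] at hcase
    rcases hcase with h | h | h | h | h
    · obtain ⟨-, -, h3⟩ := hcls 32 h
      exact Or.inl (Or.inl (Or.inl (Or.inl (Subtype.ext (eq_of_dot32 hx.1 h1 h3).symm))))
    · exact Or.inl (Or.inl (Or.inr (hcls 16 h)))
    · exact Or.inr (hcls 8 h)
    · exact Or.inl (Or.inr (hcls 0 h))
    · exact Or.inl (Or.inl (Or.inl (Or.inr (hcls (-8) h))))
  · rintro ((((rfl | h) | h) | h) | h)
    · exact hx
    all_goals exact ⟨h.1, h.2.1⟩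

/-- The 2025 points. -/
def set2025 : Set (GolayPt → ℤ) := {x | x ∈ dotSet baseD 16 ∧ dotInt baseA x = 0}

theorem set2025_finite : set2025.Finite := (dotSet_finite _ _).subset fun _ h => h.1

theorem ncard_set2025 : set2025.ncard = 2025 :=
  (ncard_sep_tree co3m_tree (dotSet_finite _ _) ncard_dotSet_D16.le sub11178 _
    (fun x => dotInt baseA x = 0) fun c => by rw [beq_iff_eq, dotP_eq _ (by rfl)]; rfl).trans
    co3m_counts.2.2.2.2.2

theorem mclFix_mem {f : GolayPt → ℤ} (hf : f ∈ mclFix.map vec) : f ∈ leechLattice :=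
  leechB_iff.mp ((by decide +kernel : ∀ f ∈ mclFix.map vec, leechB f = true) f hf)

theorem sub2025 (x : GolayPt → ℤ) (h : ReachL (mclFix.map vec) (vec mclTRoot) x) : x ∈ set2025 := by
  obtain ⟨⟨hm, hn⟩, hd⟩ := reach_props (fun f hf => mclFix_mem hf) h
  exact ⟨⟨hm, hn.trans (by decide +kernel),
    (hd baseD (by simp [baseD, mclFix, co3vFix])).trans (by decide +kernel)⟩,
    (hd baseA (by simp [baseA, mclFix, co2Fix])).trans (by decide +kernel)⟩

theorem to2025 {x : leechLattice} (hx : (x : GolayPt → ℤ) ∈ set2025) :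
    ∃ g : Co0, g • bD = bD ∧ g • bA = bA ∧ g • x = bD + bW := by
  obtain ⟨g, e, hF⟩ := exists_smul_of_reach (x := x) (y := bD + bW)
    (reach_of_tree mclT_tree set2025_finite ncard_set2025.le sub2025 hx)
    (show ReachL (mclFix.map vec) (vec mclTRoot) ((bD + bW : leechLattice) : GolayPt → ℤ) from by
      rw [baseM_eq]
      exact ReachG.refl _ (leechB_iff.mp base_facts.2.2.2.2.1.1))
  exact ⟨g, hF bD (by simp [bD, baseD, mclFix, co3vFix]), hF bA (by simp [bA, baseA, mclFix, co2Fix]),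
    e⟩

/-- The classes among the 2025 points. -/
def mclPart (d : ℤ) : Set (GolayPt → ℤ) := {x | x ∈ set2025 ∧ dotInt baseM x = d}

theorem ncard_mclPart (d : ℤ) {N : ℕ}
    (h : ((treeList mclGens [penc mclTRoot] mclTLvls).countP fun c => dotP co3mRoot c == d) = N) :
    (mclPart d).ncard = N :=
  (ncard_sep_tree mclT_tree set2025_finite ncard_set2025.le sub2025 _
    (fun x => dotInt baseM x = d) fun c => by rw [beq_iff_eq, dotP_eq _ (by rfl)]; rfl).trans h

theorem within_2025 {root : List ℤ} {ms : List ℕ} {d : ℤ} {N : ℕ}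
    (ht : treeOK (mclFix ++ [co3mRoot]) m22Mono root ms N = true)
    (hN : ((treeList mclGens [penc mclTRoot] mclTLvls).countP fun c => dotP co3mRoot c == d) = N)
    (hr : leechB (vec root) = true ∧ sqNorm (vec root) = 32 ∧ dotInt baseD (vec root) = 16 ∧
      dotInt baseA (vec root) = 0 ∧ dotInt baseM (vec root) = d)
    {x y : leechLattice} (hx : (x : GolayPt → ℤ) ∈ mclPart d) (hy : (y : GolayPt → ℤ) ∈ mclPart d) :
    ∃ g : Co0, g • bD = bD ∧ g • bA = bA ∧ g • (bD + bW) = bD + bW ∧ g • x = y := by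
  have hD : baseD ∈ (mclFix ++ [co3mRoot]).map vec := by simp [baseD, mclFix, co3vFix]
  have hA : baseA ∈ (mclFix ++ [co3mRoot]).map vec := by simp [baseA, mclFix, co2Fix]
  have hM : baseM ∈ (mclFix ++ [co3mRoot]).map vec := by simp [baseM]
  have hsub : ∀ z, ReachL ((mclFix ++ [co3mRoot]).map vec) (vec root) z → z ∈ mclPart d := by
    intro z hz
    obtain ⟨⟨hm, hn⟩, hd⟩ := reach_props (fun f hf => leechB_iff.mp
      ((by decide +kernel : ∀ f ∈ (mclFix ++ [co3mRoot]).map vec, leechB f = true) f hf)) hz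
    exact ⟨⟨⟨hm, hn.trans hr.2.1, (hd _ hD).trans hr.2.2.1⟩, (hd _ hA).trans hr.2.2.2.1⟩,
      (hd _ hM).trans hr.2.2.2.2⟩
  have hfin : (mclPart d).Finite := set2025_finite.subset fun _ h => h.1
  obtain ⟨g, e, hF⟩ := exists_smul_of_reach
    (reach_of_tree ht hfin (ncard_mclPart d hN).le hsub hx)
    (reach_of_tree ht hfin (ncard_mclPart d hN).le hsub hy)
  exact ⟨g, hF bD hD, hF bA hA, hF (bD + bW) (baseM_eq ▸ hM), e⟩

/-- The 2025 points seen from `v` and `w`. -/
def mclClass (v w : leechLattice) : Set leechLattice :=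
  {z | sqNorm (z : GolayPt → ℤ) = 32 ∧ dotInt (v : GolayPt → ℤ) (z : GolayPt → ℤ) = 0 ∧
    dotInt (w : GolayPt → ℤ) (z : GolayPt → ℤ) = 16}

theorem mcl_canon (v w : leechLattice) (hv : sqNorm (v : GolayPt → ℤ) = 32)
    (hw : sqNorm (w : GolayPt → ℤ) = 32)
    (hd : dotInt (v : GolayPt → ℤ) (w : GolayPt → ℤ) = -8) :
    ∃ g : Co0, g • v = bA ∧ g • w = bD - bA := by
  obtain ⟨g, gs, gv⟩ := canon552 (v + w) v (by
      have e : sqNorm ((v : GolayPt → ℤ) + (w : GolayPt → ℤ)) = sqNorm (v : GolayPt → ℤ) +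
          2 * dotInt (v : GolayPt → ℤ) (w : GolayPt → ℤ) + sqNorm (w : GolayPt → ℤ) := by
        simp only [sqNorm, dotInt, Pi.add_apply, Finset.mul_sum, ← Finset.sum_add_distrib]
        exact Finset.sum_congr rfl fun i _ => by ring
      rw [AddSubgroup.coe_add, e, hv, hw, hd]; norm_num)
    ⟨hv, by rw [AddSubgroup.coe_add, add_sub_cancel_left]; exact hw⟩
  exact ⟨g, gv, by rw [← gs, ← gv, co0_add, add_sub_cancel_left]⟩

theorem mcl_class_iff {g : Co0} {v w : leechLattice} (gv : g • v = bA) (gw : g • w = bD - bA)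
    (z : leechLattice) :
    z ∈ mclClass v w ↔ ((g • z : leechLattice) : GolayPt → ℤ) ∈ set2025 := by
  have e1 : dotInt baseA ((g • z : leechLattice) : GolayPt → ℤ) =
      dotInt (v : GolayPt → ℤ) (z : GolayPt → ℤ) := smul_dot_eq gv z
  have e2 : dotInt baseD ((g • z : leechLattice) : GolayPt → ℤ) -
      dotInt baseA ((g • z : leechLattice) : GolayPt → ℤ) =
      dotInt (w : GolayPt → ℤ) (z : GolayPt → ℤ) := by
    rw [← smul_dot_eq gw z, AddSubgroup.coe_sub]
    simp only [dotInt, Pi.sub_apply, sub_mul, Finset.sum_sub_distrib]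
    rfl
  constructor
  · rintro ⟨h1, h2, h3⟩
    exact ⟨⟨(g • z).2, by rw [co0_norm]; exact h1, by omega⟩, e1.trans h2⟩
  · rintro ⟨⟨-, h1, h2⟩, h3⟩
    rw [co0_norm] at h1
    exact ⟨h1, by omega, by omega⟩

theorem mcl_2025 (v w : leechLattice) (hv : sqNorm (v : GolayPt → ℤ) = 32)
    (hw : sqNorm (w : GolayPt → ℤ) = 32)
    (hd : dotInt (v : GolayPt → ℤ) (w : GolayPt → ℤ) = -8) :
    (mclClass v w).ncard = 2025 ∧ ∀ x ∈ mclClass v w,
      ∃ g : Co0, g • v = bA ∧ g • w = bD - bA ∧ g • x = bD + bW := by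
  obtain ⟨g, gv, gw⟩ := mcl_canon v w hv hw hd
  refine ⟨?_, fun x hx => ?_⟩
  · exact (ncard_transport g _ (fun z : leechLattice => (z : GolayPt → ℤ) ∈ set2025)
      (mcl_class_iff gv gw)).trans
      ((ncard_val (fun z => z ∈ set2025) fun z hz => hz.1.1).trans ncard_set2025)
  · obtain ⟨a, aD, aA, ax⟩ := to2025 ((mcl_class_iff gv gw x).1 hx)
    exact ⟨a * g, by rw [mul_smul, gv, aA], by rw [mul_smul, gw, co0_sub, aD, aA],
      by rw [mul_smul, ax]⟩

/-- One suborbit on the 2025 points. -/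
theorem mcl_suborbit {root : List ℤ} {ms : List ℕ} {d : ℤ} {N : ℕ} (hN0 : N ≠ 0)
    (ht : treeOK (mclFix ++ [co3mRoot]) m22Mono root ms N = true)
    (hN : ((treeList mclGens [penc mclTRoot] mclTLvls).countP fun c => dotP co3mRoot c == d) = N)
    (hr : leechB (vec root) = true ∧ sqNorm (vec root) = 32 ∧ dotInt baseD (vec root) = 16 ∧
      dotInt baseA (vec root) = 0 ∧ dotInt baseM (vec root) = d)
    (v w x : leechLattice) (hv : sqNorm (v : GolayPt → ℤ) = 32)
    (hw : sqNorm (w : GolayPt → ℤ) = 32)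
    (hd : dotInt (v : GolayPt → ℤ) (w : GolayPt → ℤ) = -8) (hx : x ∈ mclClass v w) :
    ∃ y ∈ mclClass v w, (MulAction.orbit ↥(MulAction.stabilizer Co0 v ⊓
      MulAction.stabilizer Co0 w ⊓ MulAction.stabilizer Co0 x) y).ncard = N := by
  obtain ⟨g, gv, gw, gx⟩ := (mcl_2025 v w hv hw hd).2 x hx
  let T : Set leechLattice :=
    {z | z ∈ mclClass v w ∧ dotInt (x : GolayPt → ℤ) (z : GolayPt → ℤ) = d}
  have hiff : ∀ z, z ∈ T ↔ ((g • z : leechLattice) : GolayPt → ℤ) ∈ mclPart d := fun z => by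
    have e := smul_dot_eq gx z
    rw [baseM_eq] at e
    exact and_congr (mcl_class_iff gv gw z) ⟨fun h => e.trans h, fun h => e.symm.trans h⟩
  have hcard : T.ncard = N :=
    (ncard_transport g (fun z => z ∈ T) (fun z : leechLattice => (z : GolayPt → ℤ) ∈ mclPart d)
      hiff).trans ((ncard_val (fun z => z ∈ mclPart d) fun z hz => hz.1.1.1).trans
        (ncard_mclPart d hN))
  obtain ⟨y, hy⟩ := Set.nonempty_of_ncard_ne_zero (hcard.trans_ne hN0)
  refine ⟨y, hy.1, ?_⟩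
  rw [orbit_eq_of_trans hy ?_ fun z hz => ?_, hcard]
  · rintro h ⟨⟨hv', hw'⟩, hx'⟩ z ⟨⟨h1, h2, h3⟩, h4⟩
    exact ⟨⟨by rw [co0_norm]; exact h1,
      (smul_dot_eq (MulAction.mem_stabilizer_iff.1 hv') z).trans h2,
      (smul_dot_eq (MulAction.mem_stabilizer_iff.1 hw') z).trans h3⟩,
      (smul_dot_eq (MulAction.mem_stabilizer_iff.1 hx') z).trans h4⟩
  · obtain ⟨a, aD, aA, aM, e⟩ := within_2025 ht hN hr ((hiff y).1 hy) ((hiff z).1 hz)
    refine ⟨g⁻¹ * a * g, ⟨⟨?_, ?_⟩, ?_⟩, ?_⟩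
    · show (g⁻¹ * a * g) • v = v
      rw [mul_smul, mul_smul, gv, aA, ← gv, inv_smul_smul]
    · show (g⁻¹ * a * g) • w = w
      rw [mul_smul, mul_smul, gw, co0_sub, aD, aA, ← gw, inv_smul_smul]
    · show (g⁻¹ * a * g) • x = x
      rw [mul_smul, mul_smul, gx, aM, ← gx, inv_smul_smul]
    · rw [mul_smul, mul_smul, e, inv_smul_smul]

end CfsgLib.Leech
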