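import Mathlib
import Cfsg.Prelude.Def_SporadicCombinatorics

/-!
The length-12 ternary code of `Cfsg.ternaryGolayCode`: a systematic generator map, membership test,
weights and supports.
-/

set_option autoImplicit false

namespace CfsgLib.Leech.Ternary

open Cfsg

/-- Systematic encoder: the free positions are (0,·), (1,0), (1,1), (2,0). -/
def gen (a : Fin 6 → ZMod 3) : ArrayPt → ZMod 3 := fun p =>
  ![![a 0, a 1, a 2],
    ![a 3, a 4, a 0 + a 1 + a 2 + 2 * a 3 + 2 * a 4],
    ![a 5, 2 * a 1 + a 2 + 2 * a 3 + a 4 + a 5, a 0 + 2 * a 1 + a 3 + 2 * a 4 + a 5],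
    ![a 0 + 2 * a 1 + 2 * a 2 + 2 * a 3 + 2 * a 5, a 0 + a 2 + a 3 + a 4 + 2 * a 5,
      2 * a 0 + 2 * a 1 + a 2 + 2 * a 4 + 2 * a 5]] p.1 ⟨p.2.val, p.2.val_lt⟩

/-- The free positions of a word. -/
def proj (x : ArrayPt → ZMod 3) : Fin 6 → ZMod 3 :=
  ![x (0, 0), x (0, 1), x (0, 2), x (1, 0), x (1, 1), x (2, 0)]

theorem proj_gen (a : Fin 6 → ZMod 3) : proj (gen a) = a := by
  funext i
  fin_cases i <;> rfl

theorem gen_injective : Function.Injective gen :=
  Function.LeftInverse.injective (f := gen) proj_gen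

theorem mem_iff_eqs (x : ArrayPt → ZMod 3) :
    x ∈ ternaryGolayCode ↔ (∀ i : Fin 4, x (i, 0) + x (i, 1) + x (i, 2) = x (0, 0) + x (0, 1) + x (0, 2)) ∧
      ∀ a b : ZMod 3, x (0, b) + x (1, a) + x (2, a + b) + x (3, a + 2 * b) +
        (x (0, 0) + x (0, 1) + x (0, 2)) = 0 := by
  have hz : ∀ (f : ZMod 3 → ZMod 3), ∑ r, f r = f 0 + f 1 + f 2 := fun f => Fin.sum_univ_three f
  have hcol : ∀ i : Fin 4, ∑ r, x (i, r) = x (i, 0) + x (i, 1) + x (i, 2) := fun i => hz _
  constructor
  · rintro ⟨s, hs, hs'⟩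
    refine ⟨fun i => by rw [← hcol, ← hcol, hs, hs], fun a b => ?_⟩
    have := hs' (a • ![0, 1, 1, 1] + b • ![1, 0, 1, 2]) (Submodule.mem_span_pair.mpr ⟨a, b, rfl⟩)
    simp [Fin.sum_univ_four] at this
    rw [← hcol 0, hs 0, ← this]
    ring_nf
  · rintro ⟨h1, h2⟩
    refine ⟨-(x (0, 0) + x (0, 1) + x (0, 2)), fun i => by rw [hcol, h1 i, neg_neg], fun t ht => ?_⟩
    obtain ⟨a, b, rfl⟩ := Submodule.mem_span_pair.mp ht
    simp [Fin.sum_univ_four]
    have := h2 a b
    ring_nf at this ⊢
    linear_combination this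

/-- The twelve values of the encoder. -/
theorem gen_apply (a : Fin 6 → ZMod 3) :
    gen a (0, 0) = a 0 ∧
    gen a (0, 1) = a 1 ∧
    gen a (0, 2) = a 2 ∧
    gen a (1, 0) = a 3 ∧
    gen a (1, 1) = a 4 ∧
    gen a (1, 2) = a 0 + a 1 + a 2 + 2 * a 3 + 2 * a 4 ∧
    gen a (2, 0) = a 5 ∧
    gen a (2, 1) = 2 * a 1 + a 2 + 2 * a 3 + a 4 + a 5 ∧
    gen a (2, 2) = a 0 + 2 * a 1 + a 3 + 2 * a 4 + a 5 ∧
    gen a (3, 0) = a 0 + 2 * a 1 + 2 * a 2 + 2 * a 3 + 2 * a 5 ∧
    gen a (3, 1) = a 0 + a 2 + a 3 + a 4 + 2 * a 5 ∧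
    gen a (3, 2) = 2 * a 0 + 2 * a 1 + a 2 + 2 * a 4 + 2 * a 5 := by
  refine ⟨?_, ?_, ?_, ?_, ?_, ?_, ?_, ?_, ?_, ?_, ?_, ?_⟩ <;> rfl

theorem gen_mem_all (a : Fin 6 → ZMod 3) :
    (∀ i : Fin 4, gen a (i, 0) + gen a (i, 1) + gen a (i, 2) = gen a (0, 0) + gen a (0, 1) + gen a (0, 2)) ∧
      ∀ u v : ZMod 3, gen a (0, v) + gen a (1, u) + gen a (2, u + v) + gen a (3, u + 2 * v) +
        (gen a (0, 0) + gen a (0, 1) + gen a (0, 2)) = 0 := by
  obtain ⟨h00, h01, h02, h10, h11, h12, h20, h21, h22, h30, h31, h32⟩ := gen_apply a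
  have three : (3 : ZMod 3) = 0 := rfl
  refine ⟨fun i => ?_, fun u v => ?_⟩
  · have hi : i = 0 ∨ i = 1 ∨ i = 2 ∨ i = 3 := by fin_cases i <;> decide
    rcases hi with rfl | rfl | rfl | rfl <;>
      simp only [h00, h01, h02, h10, h11, h12, h20, h21, h22, h30, h31, h32] <;>
      ring_nf <;> reduce_mod_char
  · have h3 : ∀ w : ZMod 3, w = 0 ∨ w = 1 ∨ w = 2 := by decide
    rcases h3 u with rfl | rfl | rfl <;> rcases h3 v with rfl | rfl | rfl <;> reduce_mod_char <;>
      simp only [h00, h01, h02, h10, h11, h12, h20, h21, h22, h30, h31, h32] <;>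
      ring_nf <;> reduce_mod_char

theorem gen_mem (a : Fin 6 → ZMod 3) : gen a ∈ ternaryGolayCode :=
  (mem_iff_eqs _).mpr (gen_mem_all a)

theorem gen_proj {x : ArrayPt → ZMod 3} (hx : x ∈ ternaryGolayCode) : gen (proj x) = x := by
  obtain ⟨hc, ht⟩ := (mem_iff_eqs x).mp hx
  have t00 := ht 0 0
  have t10 := ht 1 0
  have t01 := ht 0 1
  simp only [show (0 : ZMod 3) + 0 = 0 from rfl, show (1 : ZMod 3) + 0 = 1 from rfl,
    show (0 : ZMod 3) + 1 = 1 from rfl, show (0 : ZMod 3) + 2 * 0 = 0 from rfl,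
    show (1 : ZMod 3) + 2 * 0 = 1 from rfl, show (0 : ZMod 3) + 2 * 1 = 2 from rfl] at t00 t10 t01
  have c1 := hc 1
  have c2 := hc 2
  have c3 := hc 3
  have three : (3 : ZMod 3) = 0 := rfl
  obtain ⟨h00, h01, h02, h10, h11, h12, h20, h21, h22, h30, h31, h32⟩ := gen_apply (proj x)
  have hi : ∀ i : Fin 4, i = 0 ∨ i = 1 ∨ i = 2 ∨ i = 3 := by decide
  have h3 : ∀ w : ZMod 3, w = 0 ∨ w = 1 ∨ w = 2 := by decide
  funext ⟨i, r⟩
  rcases hi i with rfl | rfl | rfl | rfl <;> rcases h3 r with rfl | rfl | rfl <;>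
    simp only [h00, h01, h02, h10, h11, h12, h20, h21, h22, h30, h31, h32] <;>
    simp [proj]
  · linear_combination (norm := (ring_nf; reduce_mod_char)) -c1
  · linear_combination (norm := (ring_nf; reduce_mod_char)) -c3 - 2 * t00 - 2 * t10 - 2 * t01
  · linear_combination (norm := (ring_nf; reduce_mod_char)) -c2 - 2 * c3 - t00 - t10 - t01
  · linear_combination (norm := (ring_nf; reduce_mod_char)) -t00
  · linear_combination (norm := (ring_nf; reduce_mod_char)) -2 * c3 - t00 - 2 * t10 - t01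
  · linear_combination (norm := (ring_nf; reduce_mod_char)) -2 * c3 - t00 - t10 - 2 * t01

theorem mem_iff (x : ArrayPt → ZMod 3) : x ∈ ternaryGolayCode ↔ ∃ a, gen a = x :=
  ⟨fun h => ⟨proj x, gen_proj h⟩, fun ⟨a, e⟩ => e ▸ gen_mem a⟩

theorem range_gen : Set.range gen = (ternaryGolayCode : Set (ArrayPt → ZMod 3)) :=
  Set.ext fun x => (mem_iff x).symm

theorem ncard_sep (P : (ArrayPt → ZMod 3) → Prop) [DecidablePred P] :
    {x : ArrayPt → ZMod 3 | x ∈ ternaryGolayCode ∧ P x}.ncard =
      (Finset.univ.filter fun a => P (gen a)).card := by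
  rw [← Set.ncard_coe_finset, ← Set.ncard_image_of_injective _ gen_injective]
  congr 1
  ext x
  simp only [Set.mem_setOf_eq, mem_iff, Set.mem_image, Finset.coe_filter, Finset.mem_univ, true_and]
  constructor
  · rintro ⟨⟨a, rfl⟩, h⟩; exact ⟨a, h, rfl⟩
  · rintro ⟨a, h, rfl⟩; exact ⟨⟨a, rfl⟩, h⟩

theorem card_eq : Nat.card ↥ternaryGolayCode = 729 := by
  rw [← Nat.card_congr (Equiv.ofBijective (fun a => (⟨gen a, gen_mem a⟩ : ↥ternaryGolayCode))
    ⟨fun a b h => gen_injective (congrArg Subtype.val h),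
      fun x => ⟨proj x.1, Subtype.ext (gen_proj x.2)⟩⟩)]
  simp

theorem weights : ∀ a : Fin 6 → ZMod 3, a = 0 ∨ (ternarySupport (gen a)).card = 6 ∨
    (ternarySupport (gen a)).card = 9 ∨ (ternarySupport (gen a)).card = 12 := by
  decide +kernel

theorem weight_cases {x : ArrayPt → ZMod 3} (hx : x ∈ ternaryGolayCode) (h0 : x ≠ 0) :
    (ternarySupport x).card = 6 ∨ (ternarySupport x).card = 9 ∨ (ternarySupport x).card = 12 := by
  have h := gen_proj hx
  rcases weights (proj x) with e | e
  · refine absurd ?_ h0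
    rw [← h, e]
    funext p; revert p; decide +kernel
  · rwa [h] at e

/-- The supports of the weight 6 words. -/
def hexads : Finset (Finset ArrayPt) :=
  (Finset.univ.filter fun a => (ternarySupport (gen a)).card = 6).image fun a => ternarySupport (gen a)

theorem hexads_eq :
    {h : Finset ArrayPt | ∃ x ∈ ternaryGolayCode, ternarySupport x = h ∧ h.card = 6} = ↑hexads := by
  ext h
  simp only [Set.mem_setOf_eq, hexads, Finset.coe_image, Set.mem_image, Finset.coe_filter,
    Finset.mem_univ, true_and]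
  constructor
  · rintro ⟨x, hx, rfl, hc⟩
    exact ⟨proj x, by rw [gen_proj hx]; exact hc, by rw [gen_proj hx]⟩
  · rintro ⟨a, ha, rfl⟩
    exact ⟨gen a, gen_mem a, rfl, ha⟩

theorem count6 : (Finset.univ.filter fun a => (ternarySupport (gen a)).card = 6).card = 264 := by
  decide +kernel

theorem count9 : (Finset.univ.filter fun a => (ternarySupport (gen a)).card = 9).card = 440 := by
  decide +kernel

theorem count12 : (Finset.univ.filter fun a => (ternarySupport (gen a)).card = 12).card = 24 := by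
  decide +kernel

theorem mem_support {x : ArrayPt → ZMod 3} {p : ArrayPt} : p ∈ ternarySupport x ↔ x p ≠ 0 := by
  simp [ternarySupport]

/-- Two words of weight 6 whose supports share five points are equal or opposite. -/
theorem eq_or_neg_of_five {x y : ArrayPt → ZMod 3} (hx : x ∈ ternaryGolayCode)
    (hy : y ∈ ternaryGolayCode) (hx6 : (ternarySupport x).card = 6)
    (hy6 : (ternarySupport y).card = 6) (h5 : 5 ≤ (ternarySupport x ∩ ternarySupport y).card) :
    x = y ∨ x = -y := by
  by_contra hne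
  push Not at hne
  have hsub : ∀ z ∈ [x - y, x + y], 6 ≤ (ternarySupport z).card := by
    intro z hz
    simp only [List.mem_cons, List.not_mem_nil, or_false] at hz
    rcases hz with rfl | rfl
    · rcases weight_cases (sub_mem hx hy) (sub_ne_zero.mpr hne.1) with e | e | e <;> omega
    · rcases weight_cases (add_mem hx hy)
        (fun e => hne.2 (eq_neg_of_add_eq_zero_left e)) with e | e | e <;> omega
  have key : ∀ u v : ZMod 3, u ≠ 0 → v ≠ 0 → u - v = 0 ∨ u + v = 0 := by decide
  set I := ternarySupport x ∩ ternarySupport y with hI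
  set A := I.filter fun p => x p - y p = 0 with hA
  set B := I.filter fun p => x p + y p = 0 with hB
  have hAB : I ⊆ A ∪ B := by
    intro p hp
    have hp' := Finset.mem_inter.mp hp
    simp only [hA, hB, Finset.mem_union, Finset.mem_filter]
    exact (key _ _ (mem_support.mp hp'.1) (mem_support.mp hp'.2)).imp (⟨hp, ·⟩) (⟨hp, ·⟩)
  have h1 : ternarySupport (x - y) ⊆ (ternarySupport x ∪ ternarySupport y) \ A := by
    intro p hp
    rw [mem_support, Pi.sub_apply] at hp
    simp only [Finset.mem_sdiff, Finset.mem_union, mem_support, hA, Finset.mem_filter]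
    refine ⟨?_, fun h => hp h.2⟩
    by_contra h; push Not at h; simp [h.1, h.2] at hp
  have h2 : ternarySupport (x + y) ⊆ (ternarySupport x ∪ ternarySupport y) \ B := by
    intro p hp
    rw [mem_support, Pi.add_apply] at hp
    simp only [Finset.mem_sdiff, Finset.mem_union, mem_support, hB, Finset.mem_filter]
    refine ⟨?_, fun h => hp h.2⟩
    by_contra h; push Not at h; simp [h.1, h.2] at hp
  have hU := Finset.card_union_add_card_inter (ternarySupport x) (ternarySupport y)
  have a1 := Finset.card_le_card h1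
  have a2 := Finset.card_le_card h2
  have e1 : ((ternarySupport x ∪ ternarySupport y) \ A).card =
      (ternarySupport x ∪ ternarySupport y).card - A.card :=
    Finset.card_sdiff_of_subset ((Finset.filter_subset _ _).trans Finset.inter_subset_union)
  have e2 : ((ternarySupport x ∪ ternarySupport y) \ B).card =
      (ternarySupport x ∪ ternarySupport y).card - B.card :=
    Finset.card_sdiff_of_subset ((Finset.filter_subset _ _).trans Finset.inter_subset_union)
  rw [e1] at a1
  rw [e2] at a2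
  have b1 := hsub _ (List.mem_cons_self ..)
  have b2 := hsub (x + y) (by simp)
  have := (Finset.card_le_card hAB).trans (Finset.card_union_le _ _)
  rw [← hI] at hU
  omega

theorem support_neg (x : ArrayPt → ZMod 3) : ternarySupport (-x) = ternarySupport x := by
  ext p; simp [mem_support]

theorem hexads_card : hexads.card = 132 := by
  have h := Finset.card_eq_sum_card_image (fun a => ternarySupport (gen a))
    (Finset.univ.filter fun a => (ternarySupport (gen a)).card = 6)
  have h2 : ∀ b ∈ hexads, ((Finset.univ.filter fun a => (ternarySupport (gen a)).card = 6).filter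
      fun a => ternarySupport (gen a) = b).card = 2 := by
    intro b hb
    obtain ⟨a, ha, rfl⟩ := Finset.mem_image.mp hb
    have ha6 := (Finset.mem_filter.mp ha).2
    have hneg : gen (proj (-gen a)) = -gen a := gen_proj (neg_mem (gen_mem a))
    have hne : a ≠ proj (-gen a) := by
      intro e
      rw [← e] at hneg
      obtain ⟨p, hp⟩ := Finset.card_pos.mp (by omega : 0 < (ternarySupport (gen a)).card)
      refine mem_support.mp hp ?_
      have h3 : ∀ u : ZMod 3, u = -u → u = 0 := by decide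
      exact h3 _ (congrFun hneg p)
    rw [Finset.card_eq_two]
    refine ⟨a, proj (-gen a), hne, ?_⟩
    ext c
    simp only [Finset.mem_filter, Finset.mem_univ, true_and, Finset.mem_insert, Finset.mem_singleton]
    constructor
    · rintro ⟨hc6, hc⟩
      rcases eq_or_neg_of_five (gen_mem c) (gen_mem a) hc6 ha6
        (by rw [hc, Finset.inter_self]; omega) with e | e
      · exact Or.inl (gen_injective e)
      · exact Or.inr (gen_injective (e.trans hneg.symm))
    · rintro (rfl | rfl)
      · exact ⟨ha6, rfl⟩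
      · rw [hneg, support_neg]; exact ⟨ha6, rfl⟩
  rw [count6, show Finset.image _ _ = hexads from rfl, Finset.sum_congr rfl h2, Finset.sum_const,
    smul_eq_mul] at h
  omega

attribute [local irreducible] hexads

theorem hexad_mem_iff {b : Finset ArrayPt} : b ∈ hexads ↔
    ∃ x ∈ ternaryGolayCode, ternarySupport x = b ∧ b.card = 6 := by
  have := Set.ext_iff.mp hexads_eq b
  simpa using this.symm

theorem hexads_isSteiner : IsSteinerSystem 5 6 (hexads : Set (Finset ArrayPt)) := by
  have h6 : ∀ b ∈ hexads, b.card = 6 := fun b hb => (hexad_mem_iff.mp hb).choose_spec.2.2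
  refine ⟨fun b hb => h6 b (Finset.mem_coe.mp hb), ?_⟩
  have hdisj : ∀ b ∈ hexads, ∀ c ∈ hexads, b ≠ c →
      Disjoint (b.powersetCard 5) (c.powersetCard 5) := by
    intro b hb c hc hne
    rw [Finset.disjoint_left]
    intro s hsb hsc
    obtain ⟨x, hx, rfl, hx6⟩ := hexad_mem_iff.mp hb
    obtain ⟨y, hy, rfl, hy6⟩ := hexad_mem_iff.mp hc
    rw [Finset.mem_powersetCard] at hsb hsc
    refine hne ?_
    rcases eq_or_neg_of_five hx hy hx6 hy6
      (le_of_eq_of_le hsb.2.symm (Finset.card_le_card (Finset.subset_inter hsb.1 hsc.1))) with e | e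
    · rw [e]
    · rw [e, support_neg]
  have hU : hexads.biUnion (fun b => b.powersetCard 5) =
      (Finset.univ : Finset ArrayPt).powersetCard 5 := by
    refine Finset.eq_of_subset_of_card_le ?_ ?_
    · intro s hs
      obtain ⟨b, -, hs⟩ := Finset.mem_biUnion.mp hs
      exact Finset.mem_powersetCard.mpr ⟨Finset.subset_univ _, (Finset.mem_powersetCard.mp hs).2⟩
    · have e6 : ∀ b ∈ hexads, (b.powersetCard 5).card = 6 := fun b hb =>
        ((Finset.card_powersetCard 5 b).trans
          (congrArg (fun k => Nat.choose k 5) (h6 b hb))).trans (Nat.choose_succ_self_right 5)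
      rw [Finset.card_biUnion hdisj, Finset.sum_const_nat e6, hexads_card,
        Finset.card_powersetCard, Finset.card_univ]
      simp [Nat.choose_eq_factorial_div_factorial, Nat.factorial]
  intro s hs
  have hs' : s ∈ hexads.biUnion (fun b => b.powersetCard 5) := by
    rw [hU]; exact Finset.mem_powersetCard.mpr ⟨Finset.subset_univ _, hs⟩
  obtain ⟨b, hb, hsb⟩ := Finset.mem_biUnion.mp hs'
  refine ⟨b, ⟨Finset.mem_coe.mpr hb, (Finset.mem_powersetCard.mp hsb).1⟩, ?_⟩
  rintro c ⟨hc, hsc⟩
  by_contra hne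
  exact Finset.disjoint_left.mp (hdisj c (Finset.mem_coe.mp hc) b hb hne)
    (Finset.mem_powersetCard.mpr ⟨hsc, hs⟩) hsb

theorem gen_dot (a b : Fin 6 → ZMod 3) : ∑ p, gen a p * gen b p = 0 := by
  obtain ⟨h00, h01, h02, h10, h11, h12, h20, h21, h22, h30, h31, h32⟩ := gen_apply a
  obtain ⟨k00, k01, k02, k10, k11, k12, k20, k21, k22, k30, k31, k32⟩ := gen_apply b
  have hz : ∀ (f : ZMod 3 → ZMod 3), ∑ r, f r = f 0 + f 1 + f 2 := fun f => Fin.sum_univ_three f
  rw [Fintype.sum_prod_type]
  simp only [Fin.sum_univ_four, hz, h00, h01, h02, h10, h11, h12, h20, h21, h22, h30, h31, h32,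
    k00, k01, k02, k10, k11, k12, k20, k21, k22, k30, k31, k32]
  ring_nf
  reduce_mod_char

/-- A diagonal map preserving the code is a scalar. -/
theorem diagonal_scalar (c : ArrayPt → (ZMod 3)ˣ)
    (h : ∀ x ∈ ternaryGolayCode, monomialMap 1 c x ∈ ternaryGolayCode) :
    (∀ p, c p = 1) ∨ (∀ p, c p = -1) := by
  have hc : ∀ u : (ZMod 3)ˣ, u = 1 ∨ u = -1 := by decide
  suffices hpq : ∀ p q, c p = c q by
    rcases hc (c (0, 0)) with e | e
    · exact Or.inl fun p => (hpq p _).trans e
    · exact Or.inr fun p => (hpq p _).trans e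
  intro p q
  obtain ⟨s, hps, -, hs⟩ := Finset.exists_subsuperset_card_eq
    (Finset.subset_univ ({p, q} : Finset ArrayPt)) (Finset.card_le_two.trans (by norm_num : 2 ≤ 5))
    (by simp : 5 ≤ (Finset.univ : Finset ArrayPt).card)
  obtain ⟨b, ⟨hb, hsb⟩, -⟩ := hexads_isSteiner.2 s hs
  obtain ⟨x, hx, rfl, hx6⟩ := hexad_mem_iff.mp (Finset.mem_coe.mp hb)
  have hp : x p ≠ 0 := mem_support.mp (hsb (hps (by simp)))
  have hq : x q ≠ 0 := mem_support.mp (hsb (hps (by simp)))
  have hy := h x hx
  have happ : ∀ r, monomialMap 1 c x r = (c r : ZMod 3) * x r := fun r => rfl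
  have hys : ternarySupport (monomialMap 1 c x) = ternarySupport x := by
    ext r; simp [mem_support, happ]
  rcases eq_or_neg_of_five hy hx (by rw [hys]; exact hx6) hx6
    (by rw [hys, Finset.inter_self]; omega) with e | e
  · have e' : ∀ r, x r ≠ 0 → c r = 1 := fun r hr => Units.ext
      (mul_right_cancel₀ hr (by have h1 := congrFun e r; rw [happ] at h1; simpa using h1))
    rw [e' p hp, e' q hq]
  · have e' : ∀ r, x r ≠ 0 → c r = -1 := fun r hr => Units.ext
      (mul_right_cancel₀ hr (by have h1 := congrFun e r; rw [happ] at h1; simpa using h1))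
    rw [e' p hp, e' q hq]

end CfsgLib.Leech.Ternary
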