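import Mathlib

/-!
Monomial automorphisms of the length-12 ternary code: permutation, inverse permutation and signs, one
for each level and target of a five-fold transitivity chain.
-/

set_option autoImplicit false

namespace CfsgLib.Leech.Ternary

def monomialData : List (List ℕ × List ℕ × ℕ) := [
  ([0, 8, 5, 9, 6, 1, 2, 7, 10, 3, 11, 4], [0, 5, 6, 9, 11, 2, 4, 7, 1, 3, 8, 10], 1793),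
  ([1, 3, 7, 0, 6, 10, 9, 8, 2, 4, 11, 5], [3, 0, 8, 1, 9, 11, 4, 2, 7, 6, 5, 10], 1666),
  ([2, 8, 5, 11, 4, 9, 10, 7, 0, 6, 1, 3], [8, 10, 0, 11, 4, 2, 9, 7, 1, 5, 6, 3], 169),
  ([3, 9, 0, 2, 8, 5, 1, 4, 7, 6, 10, 11], [2, 6, 3, 0, 7, 5, 9, 8, 4, 1, 10, 11], 393),
  ([4, 6, 2, 11, 3, 5, 10, 1, 8, 9, 7, 0], [11, 7, 2, 4, 0, 5, 1, 10, 8, 9, 6, 3], 1604),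
  ([5, 0, 10, 3, 1, 9, 11, 4, 6, 2, 8, 7], [1, 4, 9, 3, 7, 0, 8, 11, 10, 5, 2, 6], 2028),
  ([6, 9, 5, 7, 1, 3, 0, 2, 11, 10, 4, 8], [6, 4, 7, 5, 10, 2, 0, 3, 11, 1, 9, 8], 1672),
  ([7, 0, 11, 9, 3, 5, 1, 8, 4, 6, 10, 2], [1, 6, 11, 4, 8, 5, 9, 0, 7, 3, 10, 2], 765),
  ([8, 1, 6, 7, 11, 3, 9, 0, 5, 4, 10, 2], [7, 1, 11, 5, 9, 8, 2, 3, 0, 6, 10, 4], 2034),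
  ([9, 11, 6, 2, 5, 0, 10, 8, 7, 4, 3, 1], [5, 11, 3, 10, 9, 4, 2, 8, 7, 0, 6, 1], 1117),
  ([10, 9, 8, 2, 0, 6, 1, 4, 11, 5, 3, 7], [4, 6, 3, 10, 7, 9, 5, 11, 2, 1, 0, 8], 1505),
  ([11, 8, 2, 10, 1, 7, 9, 5, 4, 3, 0, 6], [10, 4, 2, 9, 8, 7, 11, 5, 1, 6, 3, 0], 958),
  ([0, 1, 8, 11, 9, 3, 6, 2, 7, 10, 4, 5], [0, 1, 7, 5, 10, 11, 6, 8, 2, 4, 9, 3], 1227),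
  ([0, 2, 9, 8, 1, 4, 11, 6, 5, 7, 3, 10], [0, 4, 1, 10, 5, 8, 7, 9, 3, 2, 11, 6], 751),
  ([0, 3, 2, 5, 6, 7, 4, 11, 9, 1, 8, 10], [0, 9, 2, 1, 6, 3, 4, 5, 10, 8, 11, 7], 1862),
  ([0, 4, 7, 11, 8, 1, 5, 10, 3, 2, 6, 9], [0, 5, 9, 8, 1, 6, 10, 2, 4, 11, 7, 3], 1406),
  ([0, 5, 6, 2, 11, 9, 10, 8, 3, 1, 7, 4], [0, 9, 3, 8, 11, 1, 2, 10, 7, 5, 6, 4], 267),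
  ([0, 6, 4, 7, 10, 8, 11, 1, 2, 3, 9, 5], [0, 7, 8, 9, 2, 11, 1, 3, 5, 10, 4, 6], 221),
  ([0, 7, 6, 10, 3, 1, 9, 4, 2, 5, 11, 8], [0, 5, 8, 4, 7, 9, 2, 1, 11, 6, 3, 10], 2009),
  ([0, 8, 1, 7, 10, 9, 4, 3, 6, 11, 2, 5], [0, 2, 10, 7, 6, 11, 8, 3, 1, 5, 4, 9], 1482),
  ([0, 9, 1, 10, 11, 2, 5, 6, 8, 3, 7, 4], [0, 2, 5, 9, 11, 6, 7, 10, 8, 1, 3, 4], 860),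
  ([0, 10, 4, 7, 1, 2, 8, 3, 9, 6, 11, 5], [0, 4, 5, 7, 2, 11, 9, 3, 6, 8, 1, 10], 1360),
  ([0, 11, 7, 4, 2, 5, 10, 3, 8, 9, 1, 6], [0, 10, 4, 7, 3, 5, 11, 2, 8, 9, 6, 1], 1283),
  ([0, 1, 2, 11, 6, 4, 7, 5, 9, 3, 10, 8], [0, 1, 2, 9, 5, 7, 4, 6, 11, 8, 10, 3], 3),
  ([0, 1, 3, 5, 4, 2, 9, 8, 11, 10, 6, 7], [0, 1, 5, 2, 4, 3, 10, 11, 7, 6, 9, 8], 1331),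
  ([0, 1, 4, 7, 2, 10, 9, 11, 5, 3, 6, 8], [0, 1, 4, 9, 2, 8, 10, 3, 11, 6, 5, 7], 1925),
  ([0, 1, 5, 9, 7, 2, 10, 4, 8, 3, 6, 11], [0, 1, 5, 9, 7, 2, 10, 4, 8, 3, 6, 11], 664),
  ([0, 1, 6, 10, 8, 11, 3, 9, 2, 7, 5, 4], [0, 1, 8, 6, 11, 10, 2, 9, 4, 7, 3, 5], 1581),
  ([0, 1, 7, 2, 10, 4, 9, 6, 11, 5, 3, 8], [0, 1, 3, 10, 5, 9, 7, 2, 11, 6, 4, 8], 994),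
  ([0, 1, 8, 7, 5, 3, 2, 4, 9, 6, 10, 11], [0, 1, 6, 5, 7, 4, 9, 3, 2, 8, 10, 11], 1481),
  ([0, 1, 9, 7, 6, 11, 3, 5, 10, 4, 8, 2], [0, 1, 11, 6, 9, 7, 4, 3, 10, 2, 8, 5], 350),
  ([0, 1, 10, 9, 11, 2, 7, 3, 6, 8, 4, 5], [0, 1, 5, 7, 10, 11, 8, 6, 9, 3, 2, 4], 1268),
  ([0, 1, 11, 9, 5, 4, 2, 3, 7, 10, 6, 8], [0, 1, 6, 7, 5, 4, 10, 8, 11, 3, 9, 2], 430),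
  ([0, 1, 2, 3, 6, 9, 5, 8, 11, 4, 7, 10], [0, 1, 2, 3, 9, 6, 4, 10, 7, 5, 11, 8], 6),
  ([0, 1, 2, 4, 11, 6, 9, 7, 5, 8, 3, 10], [0, 1, 2, 10, 3, 8, 5, 7, 9, 6, 11, 4], 3),
  ([0, 1, 2, 5, 9, 7, 10, 8, 3, 6, 4, 11], [0, 1, 2, 8, 10, 3, 9, 5, 7, 4, 6, 11], 3),
  ([0, 1, 2, 6, 5, 10, 11, 7, 3, 4, 9, 8], [0, 1, 2, 8, 9, 4, 3, 7, 11, 10, 5, 6], 5),
  ([0, 1, 2, 7, 6, 8, 4, 3, 5, 10, 9, 11], [0, 1, 2, 7, 6, 8, 4, 3, 5, 10, 9, 11], 0),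
  ([0, 1, 2, 8, 6, 7, 11, 9, 10, 5, 3, 4], [0, 1, 2, 10, 11, 9, 4, 5, 3, 7, 8, 6], 0),
  ([0, 1, 2, 9, 3, 6, 11, 5, 8, 10, 4, 7], [0, 1, 2, 4, 10, 7, 5, 11, 8, 3, 9, 6], 6),
  ([0, 1, 2, 10, 7, 4, 11, 8, 5, 9, 6, 3], [0, 1, 2, 11, 5, 8, 10, 4, 7, 9, 3, 6], 6),
  ([0, 1, 2, 11, 8, 5, 9, 6, 3, 10, 7, 4], [0, 1, 2, 8, 11, 5, 7, 10, 4, 6, 9, 3], 6),
  ([0, 1, 2, 3, 4, 5, 6, 7, 8, 9, 10, 11], [0, 1, 2, 3, 4, 5, 6, 7, 8, 9, 10, 11], 0),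
  ([0, 1, 2, 3, 5, 4, 9, 11, 10, 6, 8, 7], [0, 1, 2, 3, 5, 4, 9, 11, 10, 6, 8, 7], 0),
  ([0, 1, 2, 3, 6, 9, 5, 8, 11, 4, 7, 10], [0, 1, 2, 3, 9, 6, 4, 10, 7, 5, 11, 8], 6),
  ([0, 1, 2, 3, 7, 11, 10, 5, 6, 8, 9, 4], [0, 1, 2, 3, 11, 7, 8, 4, 9, 10, 6, 5], 5),
  ([0, 1, 2, 3, 8, 10, 7, 9, 5, 11, 4, 6], [0, 1, 2, 3, 10, 8, 11, 6, 4, 7, 5, 9], 3),
  ([0, 1, 2, 3, 9, 6, 4, 10, 7, 5, 11, 8], [0, 1, 2, 3, 6, 9, 5, 8, 11, 4, 7, 10], 6),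
  ([0, 1, 2, 3, 10, 8, 11, 6, 4, 7, 5, 9], [0, 1, 2, 3, 8, 10, 7, 9, 5, 11, 4, 6], 3),
  ([0, 1, 2, 3, 11, 7, 8, 4, 9, 10, 6, 5], [0, 1, 2, 3, 7, 11, 10, 5, 6, 8, 9, 4], 5)]

end CfsgLib.Leech.Ternary
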