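import Cfsg.Agent.Leech.Ternary
import Cfsg.Agent.Leech.TernaryMonomialData
import Cfsg.Agent.Mathieu.Steiner12Aut

/-!
The monomial automorphisms of the length-12 ternary code: every automorphism of the hexad system lifts,
in exactly two ways.
-/

set_option autoImplicit false

namespace CfsgLib.Leech.Ternary

open Cfsg

/-- The monomial map preserves the code. -/
def Preserves (σ : Equiv.Perm ArrayPt) (c : ArrayPt → (ZMod 3)ˣ) : Prop :=
  ∀ x ∈ ternaryGolayCode, monomialMap σ c x ∈ ternaryGolayCode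

/-- The permutation is that of a monomial automorphism. -/
def Lifts (σ : Equiv.Perm ArrayPt) : Prop := ∃ c, Preserves σ c

theorem monomialMap_mul (σ τ : Equiv.Perm ArrayPt) (c d : ArrayPt → (ZMod 3)ˣ)
    (x : ArrayPt → ZMod 3) :
    monomialMap σ c (monomialMap τ d x) = monomialMap (σ * τ) (fun i => c i * d (σ.symm i)) x := by
  funext i
  simp only [monomialMap, Units.val_mul, mul_assoc]
  rfl

theorem lifts_one : Lifts 1 := ⟨fun _ => 1, fun x hx => by
  have : monomialMap (1 : Equiv.Perm ArrayPt) (fun _ => (1 : (ZMod 3)ˣ)) x = x :=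
    funext fun i => by simp [monomialMap]; rfl
  rwa [this]⟩

theorem lifts_mul {σ τ : Equiv.Perm ArrayPt} (hσ : Lifts σ) (hτ : Lifts τ) : Lifts (σ * τ) := by
  obtain ⟨c, hc⟩ := hσ
  obtain ⟨d, hd⟩ := hτ
  exact ⟨_, fun x hx => monomialMap_mul σ τ c d x ▸ hc _ (hd x hx)⟩

theorem support_monomial (σ : Equiv.Perm ArrayPt) (c : ArrayPt → (ZMod 3)ˣ)
    (x : ArrayPt → ZMod 3) :
    ternarySupport (monomialMap σ c x) = (ternarySupport x).image σ := by
  ext i
  simp [mem_support, monomialMap, Finset.mem_image]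
  exact ⟨fun h => ⟨(σ.symm i).1, (σ.symm i).2, h, by simp⟩,
    fun ⟨a, b, h, e⟩ => by subst e; simpa using h⟩

theorem lifts_mem_aut {σ : Equiv.Perm ArrayPt} (h : Lifts σ) :
    σ ∈ setSystemAut (hexads : Set (Finset ArrayPt)) := by
  obtain ⟨c, hc⟩ := h
  have hsub : (fun b : Finset ArrayPt => b.image σ) '' (hexads : Set (Finset ArrayPt)) ⊆ hexads := by
    rintro _ ⟨b, hb, rfl⟩
    obtain ⟨x, hx, rfl, h6⟩ := hexad_mem_iff.1 (Finset.mem_coe.1 hb)
    exact Finset.mem_coe.2 (hexad_mem_iff.2 ⟨_, hc x hx, support_monomial σ c x,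
      by rw [Finset.card_image_of_injective _ σ.injective, h6]⟩)
  exact Set.eq_of_subset_of_ncard_le hsub
    (le_of_eq (Set.ncard_image_of_injective _ (Finset.image_injective σ.injective)).symm)
    (Finset.finite_toSet _)

/-- The number of a position. -/
def idxA (p : ArrayPt) : ℕ := 3 * p.1.val + p.2.val

/-- The position of a number. -/
def ptA (n : ℕ) : ArrayPt := (⟨n / 3 % 4, Nat.mod_lt _ (by norm_num)⟩, ((n % 3 : ℕ) : ZMod 3))

/-- The sign at a position. -/
def signA (m : ℕ) (p : ArrayPt) : (ZMod 3)ˣ := if m.testBit (idxA p) then -1 else 1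

/-- The two lists are mutually inverse, and the monomial map sends the basis into the code. -/
def monOK (e : List ℕ × List ℕ × ℕ) : Bool :=
  ((List.range 12).all fun i =>
    idxA (ptA (e.1.getD i 12)) == e.1.getD i 12 && idxA (ptA (e.2.1.getD i 12)) == e.2.1.getD i 12 &&
      e.2.1.getD (e.1.getD i 12) 12 == i && e.1.getD (e.2.1.getD i 12) 12 == i) &&
  (List.finRange 6).all fun k =>
    let y : ArrayPt → ZMod 3 := fun q =>
      (signA e.2.2 q : ZMod 3) * gen (Pi.single k 1) (ptA (e.2.1.getD (idxA q) 12))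
    decide (gen (proj y) = y)

theorem idxA_facts : (∀ p, ptA (idxA p) = p) ∧ ∀ p, idxA p < 12 := by decide +kernel

theorem gen_add (a b : Fin 6 → ZMod 3) : gen (a + b) = gen a + gen b := by
  have hi : ∀ i : Fin 4, i = 0 ∨ i = 1 ∨ i = 2 ∨ i = 3 := by decide
  have h3 : ∀ w : ZMod 3, w = 0 ∨ w = 1 ∨ w = 2 := by decide
  obtain ⟨g0, g1, g2, g3, g4, g5, g6, g7, g8, g9, g10, g11⟩ := gen_apply (a + b)
  obtain ⟨a0, a1, a2, a3, a4, a5, a6, a7, a8, a9, a10, a11⟩ := gen_apply a
  obtain ⟨b0, b1, b2, b3, b4, b5, b6, b7, b8, b9, b10, b11⟩ := gen_apply b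
  funext ⟨i, r⟩
  rcases hi i with rfl | rfl | rfl | rfl <;> rcases h3 r with rfl | rfl | rfl <;>
    simp only [Pi.add_apply, g0, g1, g2, g3, g4, g5, g6, g7, g8, g9, g10, g11, a0, a1, a2, a3, a4, a5,
      a6, a7, a8, a9, a10, a11, b0, b1, b2, b3, b4, b5, b6, b7, b8, b9, b10, b11] <;> ring

/-- The encoder as an additive map. -/
def genHom : (Fin 6 → ZMod 3) →+ (ArrayPt → ZMod 3) := AddMonoidHom.mk' gen gen_add

theorem exists_of_monOK {e : List ℕ × List ℕ × ℕ} (h : monOK e = true) :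
    ∃ σ : Equiv.Perm ArrayPt, Lifts σ ∧ ∀ p, σ p = ptA (e.1.getD (idxA p) 12) := by
  simp only [monOK, Bool.and_eq_true, List.all_eq_true, List.mem_range, beq_iff_eq,
    decide_eq_true_eq] at h
  obtain ⟨hperm, hb⟩ := h
  obtain ⟨hpt, hlt⟩ := idxA_facts
  let σ : Equiv.Perm ArrayPt :=
    { toFun := fun p => ptA (e.1.getD (idxA p) 12)
      invFun := fun p => ptA (e.2.1.getD (idxA p) 12)
      left_inv := fun p => by
        obtain ⟨⟨⟨e1, -⟩, e3⟩, -⟩ := hperm _ (hlt p)
        simp only [e1, e3, hpt]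
      right_inv := fun p => by
        obtain ⟨⟨⟨-, e2⟩, -⟩, e4⟩ := hperm _ (hlt p)
        simp only [e2, e4, hpt] }
  refine ⟨σ, ⟨signA e.2.2, fun x hx => ?_⟩, fun p => rfl⟩
  let M : (ArrayPt → ZMod 3) →ₗ[ZMod 3] (ArrayPt → ZMod 3) :=
    { toFun := monomialMap σ (signA e.2.2)
      map_add' := fun u v => funext fun i => by simp [monomialMap, mul_add]
      map_smul' := fun a u => funext fun i => by simp [monomialMap]; ring }
  have hbasis : ∀ k, M (gen (Pi.single k 1)) ∈ ternaryGolayCode := fun k =>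
    (mem_iff _).2 ⟨_, hb k (List.mem_finRange k)⟩
  obtain ⟨a, rfl⟩ := (mem_iff x).1 hx
  let G : (Fin 6 → ZMod 3) →ₗ[ZMod 3] (ArrayPt → ZMod 3) := genHom.toZModLinearMap 3
  show M (G a) ∈ ternaryGolayCode
  rw [pi_eq_sum_univ a, map_sum, map_sum]
  refine Submodule.sum_mem _ fun k _ => ?_
  rw [map_smul, map_smul]
  refine Submodule.smul_mem _ _ ?_
  have : (fun j => if k = j then (1 : ZMod 3) else 0) = Pi.single k 1 := by
    funext j; simp [Pi.single_apply, eq_comm]
  rw [this]
  exact hbasis k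

theorem monomialData_ok : monomialData.all monOK = true := by decide +kernel

/-- A transversal element for each level and target. -/
theorem chain_step (k : ℕ) (hk : k < 5) (q : ArrayPt) (hq : k ≤ idxA q) :
    ∃ σ : Equiv.Perm ArrayPt, Lifts σ ∧ σ (ptA k) = q ∧ ∀ j < k, σ (ptA j) = ptA j := by
  have key : (List.range 5).all (fun k => (List.range 12).all fun t => decide (t < k) ||
      monomialData.any fun e => e.1.getD k 12 == t &&
        (List.range k).all fun j => e.1.getD j 12 == j) = true := by decide +kernel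
  simp only [List.all_eq_true, List.any_eq_true, Bool.or_eq_true, decide_eq_true_eq, Bool.and_eq_true,
    List.mem_range, beq_iff_eq] at key
  obtain ⟨e, he, h1, h2⟩ := (key k hk _ (idxA_facts.2 q)).resolve_left (by omega)
  obtain ⟨σ, hσ, happ⟩ := exists_of_monOK (List.all_eq_true.1 monomialData_ok e he)
  have hidx : ∀ j < 12, idxA (ptA j) = j := by decide +kernel
  refine ⟨σ, hσ, ?_, fun j hj => ?_⟩
  · rw [happ, hidx k (by omega), h1, idxA_facts.1]
  · rw [happ, hidx j (by omega), h2 j hj]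

/-- Five distinct points are the images of the first five. -/
theorem exists_lift_tuple : ∀ (n : ℕ), n ≤ 5 → ∀ (x : ℕ → ArrayPt),
    (∀ i < n, ∀ j < n, x i = x j → i = j) →
      ∃ σ : Equiv.Perm ArrayPt, Lifts σ ∧ ∀ i < n, σ (ptA i) = x i
  | 0, _, _, _ => ⟨1, lifts_one, fun i hi => absurd hi (Nat.not_lt_zero i)⟩
  | n + 1, hn, x, hx => by
    obtain ⟨σ, hσ, hσx⟩ := exists_lift_tuple n (by omega) x
      fun i hi j hj => hx i (by omega) j (by omega)
    have hq : n ≤ idxA (σ.symm (x n)) := by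
      by_contra h
      push Not at h
      have e := hσx _ h
      rw [idxA_facts.1, Equiv.apply_symm_apply] at e
      exact absurd (hx _ (by omega) n (by omega) e.symm) (by omega)
    obtain ⟨τ, hτ, hτn, hτj⟩ := chain_step n (by omega) _ hq
    refine ⟨σ * τ, lifts_mul hσ hτ, fun i hi => ?_⟩
    rcases Nat.lt_or_ge i n with h | h
    · rw [Equiv.Perm.mul_apply, hτj i h, hσx i h]
    · obtain rfl : i = n := by omega
      rw [Equiv.Perm.mul_apply, hτn, Equiv.apply_symm_apply]

theorem card_arrayPt : Fintype.card ArrayPt = 12 := by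
  rw [Fintype.card_prod, Fintype.card_fin, ZMod.card]

theorem lifts_iff {σ : Equiv.Perm ArrayPt} :
    Lifts σ ↔ σ ∈ setSystemAut (hexads : Set (Finset ArrayPt)) := by
  refine ⟨lifts_mem_aut, fun h => ?_⟩
  obtain ⟨-, -, hsharp⟩ := CfsgLib.Mathieu.S12.steiner12_aut card_arrayPt hexads_isSteiner
  have hidx : ∀ j < 12, idxA (ptA j) = j := by decide +kernel
  have hinj : ∀ i < 5, ∀ j < 5, σ (ptA i) = σ (ptA j) → i = j := fun i hi j hj e => by
    rw [← hidx i (by omega), ← hidx j (by omega), σ.injective e]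
  obtain ⟨π, hπ, hπx⟩ := exists_lift_tuple 5 le_rfl (fun i => σ (ptA i)) hinj
  let b : Fin 5 ↪ ArrayPt := ⟨fun i => ptA i.val, fun i j e =>
    Fin.ext (hinj i i.2 j j.2 (congrArg σ e))⟩
  have hmem : (⟨π, lifts_mem_aut hπ⟩⁻¹ * ⟨σ, h⟩ : setSystemAut (hexads : Set (Finset ArrayPt))) ∈
      MulAction.stabilizer (setSystemAut (hexads : Set (Finset ArrayPt))) b := by
    refine Function.Embedding.ext fun i => ?_
    show π.symm (σ (ptA i.val)) = ptA i.val
    rw [← hπx i i.2, Equiv.symm_apply_apply]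
  rw [hsharp b, Subgroup.mem_bot, inv_mul_eq_one] at hmem
  have e : π = σ := congrArg Subtype.val hmem
  exact e ▸ hπ

theorem preserves_two {σ : Equiv.Perm ArrayPt} {c d : ArrayPt → (ZMod 3)ˣ} (hc : Preserves σ c)
    (hd : Preserves σ d) : d = c ∨ d = -c := by
  have h : ∀ y ∈ ternaryGolayCode, monomialMap 1 (fun i => d i * (c i)⁻¹) y ∈ ternaryGolayCode := by
    have hinj : Function.Injective
        (fun x : ternaryGolayCode => (⟨monomialMap σ c x.1, hc x.1 x.2⟩ : ternaryGolayCode)) := by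
      intro u v e
      refine Subtype.ext (funext fun i => ?_)
      have := congrFun (congrArg Subtype.val e) (σ i)
      simpa [monomialMap] using this
    intro y hy
    obtain ⟨x, hx⟩ := Finite.surjective_of_injective hinj ⟨y, hy⟩
    have hxy : monomialMap σ c x.1 = y := congrArg Subtype.val hx
    rw [← hxy, monomialMap_mul, one_mul]
    convert hd x.1 x.2 using 2
    funext i
    show d i * (c i)⁻¹ * c ((1 : Equiv.Perm ArrayPt).symm i) = d i
    rw [Equiv.Perm.one_def, Equiv.refl_symm, Equiv.refl_apply, inv_mul_cancel_right]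
  rcases diagonal_scalar _ h with h | h
  · exact Or.inl (funext fun i => mul_inv_eq_one.1 (h i))
  · refine Or.inr (funext fun i => ?_)
    have h' : d i * (c i)⁻¹ = -1 := h i
    rw [Pi.neg_apply, mul_inv_eq_iff_eq_mul.1 h', neg_mul, one_mul]

theorem preserves_neg {σ : Equiv.Perm ArrayPt} {c : ArrayPt → (ZMod 3)ˣ} (hc : Preserves σ c) :
    Preserves σ (-c) := fun x hx => by
  have e : monomialMap σ (-c) x = -monomialMap σ c x := by funext i; simp [monomialMap]
  exact e ▸ neg_mem (hc x hx)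

theorem card_monomial :
    Nat.card {f : Equiv.Perm ArrayPt × (ArrayPt → (ZMod 3)ˣ) // Preserves f.1 f.2} = 190080 := by
  obtain ⟨⟨-, hcard⟩, -, -⟩ := CfsgLib.Mathieu.S12.steiner12_aut card_arrayPt hexads_isSteiner
  choose c hc using fun σ : setSystemAut (hexads : Set (Finset ArrayPt)) => lifts_iff.2 σ.2
  let F : setSystemAut (hexads : Set (Finset ArrayPt)) × Bool →
      {f : Equiv.Perm ArrayPt × (ArrayPt → (ZMod 3)ˣ) // Preserves f.1 f.2} := fun p =>
    bif p.2 then ⟨(p.1.1, -c p.1), preserves_neg (hc p.1)⟩ else ⟨(p.1.1, c p.1), hc p.1⟩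
  have hbij : Function.Bijective F := by
    constructor
    · rintro ⟨σ, b⟩ ⟨τ, b'⟩ e
      have hne : ∀ d : ArrayPt → (ZMod 3)ˣ, -d ≠ d := fun d h => by
        have h2 : ∀ u : (ZMod 3)ˣ, -u ≠ u := by decide
        exact h2 _ (congrFun h (0, 0))
      have e' := congrArg Subtype.val e
      cases b <;> cases b' <;> simp only [F, cond_true, cond_false, Prod.mk.injEq] at e' <;>
        obtain rfl := Subtype.ext e'.1
      · rfl
      · exact absurd e'.2.symm (hne _)
      · exact absurd e'.2 (hne _)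
      · rfl
    · rintro ⟨⟨σ, d⟩, hd⟩
      have hσ : σ ∈ setSystemAut (hexads : Set (Finset ArrayPt)) := lifts_iff.1 ⟨d, hd⟩
      rcases preserves_two (hc ⟨σ, hσ⟩) hd with e | e
      · exact ⟨(⟨σ, hσ⟩, false), Subtype.ext (Prod.ext rfl e.symm)⟩
      · exact ⟨(⟨σ, hσ⟩, true), Subtype.ext (Prod.ext rfl e.symm)⟩
  rw [← Nat.card_congr (Equiv.ofBijective F hbij), Nat.card_prod, hcard]
  simp

end CfsgLib.Leech.Ternary
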